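import Cfsg.Agent.Lib.Characters.Generalized
import Mathlib.NumberTheory.MulChar.Duality
import Mathlib.GroupTheory.FiniteAbelian.Duality
import Mathlib.GroupTheory.SpecificGroups.Cyclic

/-!
Small lemmas: fibres of two-to-one maps, involutions of cyclic groups, norm two.
-/

set_option autoImplicit false

namespace CfsgLib.SL2Char

open Cfsg CfsgLib.Characters

/-- A map whose fibres are `{a, σ a}`. -/
theorem two_mul_card_image {A B : Type*} [DecidableEq A] [DecidableEq B] (s : Finset A) (f : A → B)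
    (σ : A → A) (hσ : ∀ a ∈ s, σ a ∈ s ∧ σ a ≠ a) (hf : ∀ a ∈ s, ∀ b ∈ s, f a = f b ↔ b = a ∨ b = σ a) :
    2 * (s.image f).card = s.card := by
  rw [Finset.card_eq_sum_card_image f s, Finset.sum_congr rfl (g := fun _ => 2), Finset.sum_const,
    smul_eq_mul, mul_comm]
  intro b hb
  obtain ⟨a, ha, rfl⟩ := Finset.mem_image.1 hb
  rw [show s.filter (fun x => f x = f a) = {a, σ a} from ?_, Finset.card_pair (hσ a ha).2.symm]
  ext x
  simp only [Finset.mem_filter, Finset.mem_insert, Finset.mem_singleton]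
  constructor
  · rintro ⟨hx, e⟩
    exact (hf a ha x hx).1 e.symm
  · intro h
    have hx : x ∈ s := by rcases h with rfl | rfl; exacts [ha, (hσ a ha).1]
    exact ⟨hx, ((hf a ha x hx).2 h).symm⟩

/-- A cyclic group of even order has exactly one involution. -/
theorem exists_involution_of_cyclic {M : Type*} [CommGroup M] [IsCyclic M] [Finite M]
    (he : 2 ∣ Nat.card M) : ∃ e : M, e ≠ 1 ∧ ∀ x : M, x ^ 2 = 1 ↔ x = 1 ∨ x = e := by
  classical
  have : Fintype M := Fintype.ofFinite M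
  rw [Nat.card_eq_fintype_card] at he
  have h := IsCyclic.card_orderOf_eq_totient (α := M) he
  rw [Nat.totient_two, Finset.card_eq_one] at h
  obtain ⟨e, he'⟩ := h
  have hmem : ∀ x : M, orderOf x = 2 ↔ x = e := fun x => by
    have := congrArg (fun t : Finset M => x ∈ t) he'
    simpa using this
  have hoe := (hmem e).2 rfl
  refine ⟨e, fun h1 => ?_, fun x => ⟨fun hx => ?_, ?_⟩⟩
  · rw [h1, orderOf_one] at hoe; omega
  · by_cases h1 : x = 1
    · exact Or.inl h1
    · exact Or.inr ((hmem x).1 (orderOf_eq_prime hx h1))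
  · rintro (rfl | rfl)
    · exact one_pow 2
    · rw [← hoe, pow_orderOf_eq_one]

theorem card_sq_ne_one {M : Type*} [CommGroup M] [IsCyclic M] [Fintype M] [DecidableEq M]
    (he : 2 ∣ Nat.card M) :
    (Finset.univ.filter fun x : M => x ^ 2 ≠ 1).card + 2 = Nat.card M := by
  obtain ⟨e, he1, hsq⟩ := exists_involution_of_cyclic he
  have h := Finset.card_filter_add_card_filter_not (s := (Finset.univ : Finset M)) (fun x : M => x ^ 2 = 1)
  rw [show (Finset.univ.filter fun x : M => x ^ 2 = 1) = {1, e} by ext x; simp [hsq],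
    Finset.card_pair he1.symm, Finset.card_univ, ← Nat.card_eq_fintype_card] at h
  simp only [ne_eq] at *
  omega

variable {G : Type*} [Group G] [Fintype G]

/-- A generalized character of norm two. -/
theorem exists_pair_of_norm_two {φ : G → ℂ} (h : IsGeneralizedCharacter G φ)
    (h2 : classInner φ φ = 2) :
    ∃ (χ₁ χ₂ : IrrCharacter G) (e₁ e₂ : ℤ), χ₁ ≠ χ₂ ∧ (e₁ = 1 ∨ e₁ = -1) ∧ (e₂ = 1 ∨ e₂ = -1) ∧
      φ = (e₁ : ℂ) • (χ₁ : G → ℂ) + (e₂ : ℂ) • (χ₂ : G → ℂ) := by
  classical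
  have hc := isClassFunction_of_isGeneralizedCharacter h
  choose m hm using (isGeneralizedCharacter_iff.mp h).2
  rw [classInner_self_eq_sum_sq hc hm] at h2
  have h2' : ∑ χ, m χ ^ 2 = 2 := by exact_mod_cast h2
  have hle : ∀ χ, m χ ^ 2 ≤ 2 := fun χ =>
    h2' ▸ Finset.single_le_sum (fun ψ _ => sq_nonneg (m ψ)) (Finset.mem_univ χ)
  have hval : ∀ χ, m χ = 0 ∨ m χ = 1 ∨ m χ = -1 := fun χ => by
    have := hle χ
    have h1 : m χ ≤ 1 := by nlinarith
    have h3 : -1 ≤ m χ := by nlinarith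
    omega
  have hsq : ∀ χ, m χ ^ 2 = if m χ = 0 then 0 else 1 := fun χ => by
    rcases hval χ with e | e | e <;> simp [e]
  simp only [hsq, Finset.sum_ite, Finset.sum_const, smul_eq_mul, mul_zero, zero_add, mul_one] at h2'
  obtain ⟨χ₁, χ₂, hne, hs⟩ := Finset.card_eq_two.1 (show (Finset.univ.filter fun χ => ¬ m χ = 0).card = 2 by
    exact_mod_cast (show ((Finset.univ.filter fun χ => ¬ m χ = 0).card : ℤ) = 2 by simpa using h2'))
  have hmem : ∀ χ, ¬ m χ = 0 ↔ χ = χ₁ ∨ χ = χ₂ := fun χ => by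
    have := congrArg (fun t : Finset (IrrCharacter G) => χ ∈ t) hs
    simpa using this
  refine ⟨χ₁, χ₂, m χ₁, m χ₂, hne, (hval χ₁).resolve_left ((hmem χ₁).2 (Or.inl rfl)),
    (hval χ₂).resolve_left ((hmem χ₂).2 (Or.inr rfl)), ?_⟩
  conv_lhs => rw [classFunction_eq_sum hc]
  rw [← Finset.sum_subset (Finset.subset_univ ({χ₁, χ₂} : Finset (IrrCharacter G))), Finset.sum_pair hne, hm, hm]
  intro χ _ hχ
  have : m χ = 0 := by
    by_contra h0
    exact hχ (by simpa using (hmem χ).1 h0)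
  rw [hm, this]; simp

end CfsgLib.SL2Char
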