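import Cfsg.Agent.Lib.SL2Char.Values
import Cfsg.Agent.Lib.Chars17.SLTwoEven

/-!
Characters of `SL_2(q)`: the degrees next to `q` in characteristic two, and the Steinberg values.
-/

set_option autoImplicit false

namespace CfsgLib.SL2Char

open Matrix Cfsg
open CfsgLib.SL2Tori CfsgLib.Schur CfsgLib.Characters
open scoped ComplexConjugate

variable {F : Type*} [Field F] [Fintype F] [DecidableEq F]

local notation "SL2" => Matrix.SpecialLinearGroup (Fin 2) F
local notation "M2" => Matrix (Fin 2) (Fin 2) F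

theorem steinberg_slDiag {a : Fˣ} (ha : (a : F) ^ 2 ≠ 1) : steinberg (slDiag a : SL2) = 1 := by
  rw [slDiag_eq_bEl]
  simp only [steinberg, Pi.sub_apply, ps_bEl_hyp 1 0 ha]
  rw [MulChar.one_apply a.isUnit, MulChar.one_apply a.isUnit.inv]
  norm_num

theorem steinberg_noEig {g : SL2}
    (h : ∀ (c : F) (v : Fin 2 → F), v ≠ 0 → (g : M2).mulVec v ≠ c • v) : steinberg g = -1 := by
  simp only [steinberg, Pi.sub_apply]
  rw [ps_apply, if_neg, zero_add, Finset.sum_eq_zero, zero_sub]
  · intro u _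
    refine if_neg fun e => h ((g : M2) 1 0 * u + (g : M2) 1 1) ![u, 1] (fun e' => by
      simpa using congrFun e' 1) (funext fun i => ?_)
    fin_cases i
    · simp [Matrix.mulVec, dotProduct, Fin.sum_univ_two]
      linear_combination -e
    · simp [Matrix.mulVec, dotProduct, Fin.sum_univ_two]
  · intro e
    refine h ((g : M2) 0 0) ![1, 0] (fun e' => by simpa using congrFun e' 0) (funext fun i => ?_)
    fin_cases i <;> simp [Matrix.mulVec, dotProduct, Fin.sum_univ_two, e]

theorem steinberg_bEl_uni {ε : Fˣ} (hε : ε = 1 ∨ ε = -1) {b : F} (hb : b ≠ 0) :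
    steinberg (bEl ε b : SL2) = 0 := by
  simp only [steinberg, Pi.sub_apply, ps_bEl_uni 1 hε hb]
  rw [MulChar.one_apply ε.isUnit, sub_self]

theorem sum_mulChar_apply [Fintype (MulChar F ℂ)] (a : Fˣ) :
    ∑ α : MulChar F ℂ, α (a : F) = if a = 1 then (Fintype.card (MulChar F ℂ) : ℂ) else 0 := by
  classical
  split_ifs with ha
  · simp [ha]
  · obtain ⟨β, hβ⟩ := MulChar.exists_apply_ne_one_of_hasEnoughRootsOfUnity F ℂ
      (a := (a : F)) (fun e => ha (Units.ext e))
    have hS : β (a : F) * ∑ α : MulChar F ℂ, α (a : F) = ∑ α : MulChar F ℂ, α (a : F) := by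
      rw [Finset.mul_sum, ← Equiv.sum_comp (Equiv.mulLeft β) (fun α : MulChar F ℂ => α (a : F))]
      simp [MulChar.mul_apply]
    by_contra hne
    exact hβ (mul_eq_right₀ hne |>.1 hS)

/-- An irreducible character with a non-zero sum on the unitriangular group lies in the principal series. -/
theorem exists_ps_constituent {χ : SL2 → ℂ} (hχ : IsIrrCharacter SL2 χ)
    (hsum : ∑ b : F, χ (bEl (1 : Fˣ) b : SL2) ≠ 0) : ∃ α : MulChar F ℂ, classInner (ps α) χ ≠ 0 := by
  classical
  let : Fintype (MulChar F ℂ) := Fintype.ofFinite _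
  by_contra! hall
  refine hsum ?_
  have key : ∀ α : MulChar F ℂ, ∑ a : Fˣ, ∑ b : F, α (a : F) * conj (χ (bEl a b : SL2)) = 0 := by
    intro α
    have h0 := hall α
    rw [ps, CfsgLib.Induction.classInner_indFun (borel F) _
      (isClassFunction_of_isCharacter (isCharacter_of_irr hχ))] at h0
    unfold classInner at h0
    rw [mul_eq_zero] at h0
    have h1 := h0.resolve_left (inv_ne_zero (Nat.cast_ne_zero.2 Nat.card_pos.ne'))
    rw [sum_borel] at h1
    simpa [borelChar] using h1
  have hs : ∑ α : MulChar F ℂ, ∑ a : Fˣ, ∑ b : F, α (a : F) * conj (χ (bEl a b : SL2)) = 0 :=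
    Finset.sum_eq_zero fun α _ => key α
  rw [Finset.sum_comm] at hs
  simp only [fun a : Fˣ => Finset.sum_comm (f := fun (α : MulChar F ℂ) (b : F) => α (a : F) * conj (χ (bEl a b : SL2))),
    ← Finset.sum_mul, sum_mulChar_apply, ite_mul, zero_mul, ← Finset.mul_sum] at hs
  rw [Finset.sum_ite_eq' Finset.univ (1 : Fˣ), if_pos (Finset.mem_univ _)] at hs
  rw [mul_eq_zero] at hs
  have h2 := hs.resolve_left (Nat.cast_ne_zero.2 Fintype.card_ne_zero)
  rw [← map_sum] at h2
  exact star_eq_zero.1 h2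

section Two

variable [CharP F 2]

omit [Fintype F] [DecidableEq F] in
theorem uni_eq_bEl' (x : F) : Chars17.SLTwoEven.uni x = (bEl (1 : Fˣ) x : SL2) := Subtype.ext (by simp)

/-- In characteristic two the three large degrees determine the value at a transvection. -/
theorem value_uni_of_degree (χ : IrrCharacter SL2) :
    ((χ : SL2 → ℂ) 1 = (Fintype.card F : ℂ) → (χ : SL2 → ℂ) (bEl (1 : Fˣ) (1 : F) : SL2) = 0) ∧
    (4 ≤ Fintype.card F → (χ : SL2 → ℂ) 1 = (Fintype.card F : ℂ) + 1 →
      (χ : SL2 → ℂ) (bEl (1 : Fˣ) (1 : F) : SL2) = 1) ∧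
    (4 ≤ Fintype.card F → (χ : SL2 → ℂ) 1 = (Fintype.card F : ℂ) - 1 →
      (χ : SL2 → ℂ) (bEl (1 : Fˣ) (1 : F) : SL2) = -1) := by
  classical
  rw [← uni_eq_bEl']
  obtain ⟨a, b, h1, hu⟩ := Chars17.SLTwoEven.exists_ab χ
  set q := Fintype.card F with hq
  have hq2 : 2 ≤ q := Fintype.one_lt_card
  obtain ⟨r, hr⟩ : ∃ r, q = r + 1 := ⟨q - 1, by omega⟩
  have hn : ∀ d : ℕ, (χ : SL2 → ℂ) 1 = (d : ℂ) → a + b * r = d := by
    intro d hd
    rw [h1, hr] at hd
    push_cast at hd
    rw [add_sub_cancel_right] at hd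
    exact_mod_cast hd
  have hb0 : b = 0 → (χ : SL2 → ℂ) 1 = 1 := fun hb => by
    rw [Chars17.SLTwoEven.eq_one_of_uni χ (by rw [h1, hu, hb]; simp)]
  refine ⟨fun hd => ?_, fun h4 hd => ?_, fun h4 hd => ?_⟩
  · have e := hn q hd
    have hb : 1 ≤ b := Nat.one_le_iff_ne_zero.2 fun hb => by
      have : q = 1 := by exact_mod_cast hd.symm.trans (hb0 hb)
      omega
    have hcase : b = 1 ∨ (q = 2 ∧ b = 2 ∧ a = 0) := by
      by_contra hne
      have h2 : 2 ≤ b := by omega
      have h3 : 2 * r ≤ b * r := Nat.mul_le_mul_right r h2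
      have hr1 : r = 1 := by omega
      subst hr1
      omega
    rcases hcase with rfl | ⟨h2, rfl, rfl⟩
    · have ha : a = 1 := by omega
      rw [hu, ha]; simp
    · exfalso
      let one : IrrCharacter SL2 := ⟨fun _ => 1, isIrrCharacter_one⟩
      have hne : one ≠ χ := fun e' => by
        have h1' : (χ : SL2 → ℂ) 1 = 1 := by rw [← e']
        have : q = 1 := by exact_mod_cast hd.symm.trans h1'
        omega
      have e3 := column_orth (Chars17.SLTwoEven.uni (1 : F)) (Chars17.SLTwoEven.uni 1)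
      rw [if_pos (IsConj.refl _), Chars17.SLTwoEven.card_centralizer_uni_one, ← hq, h2] at e3
      have e4 := congrArg Complex.re e3
      rw [Complex.re_sum] at e4
      have hnn : ∀ k : IrrCharacter SL2,
          0 ≤ ((k : SL2 → ℂ) (Chars17.SLTwoEven.uni 1) * conj ((k : SL2 → ℂ) (Chars17.SLTwoEven.uni 1))).re :=
        fun k => by rw [Complex.mul_conj, Complex.ofReal_re]; exact Complex.normSq_nonneg _
      have hle := Finset.sum_le_sum_of_subset_of_nonneg (s := {one, χ}) (Finset.subset_univ _) (fun k _ _ => hnn k)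
      rw [e4, Finset.sum_pair hne, hu] at hle
      norm_num [one] at hle
  · have e := hn (q + 1) (by rw [hd]; push_cast; rfl)
    have hb : 1 ≤ b := Nat.one_le_iff_ne_zero.2 fun hb => by
      have : q + 1 = 1 := by exact_mod_cast hd.symm.trans (hb0 hb)
      omega
    have hb1 : b = 1 := by
      by_contra hne
      have h3 : 2 * r ≤ b * r := Nat.mul_le_mul_right r (by omega)
      omega
    subst hb1
    have ha : a = 2 := by omega
    rw [hu, ha]; norm_num
  · have e := hn r (by rw [hd, hr]; push_cast; ring)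
    have hb : 1 ≤ b := Nat.one_le_iff_ne_zero.2 fun hb => by
      have h0 := hd.symm.trans (hb0 hb)
      rw [hr] at h0; push_cast at h0
      have : r = 1 := by exact_mod_cast (by linear_combination h0 : (r : ℂ) = 1)
      omega
    have hb1 : b = 1 := by
      by_contra hne
      have h3 : 2 * r ≤ b * r := Nat.mul_le_mul_right r (by omega)
      omega
    subst hb1
    have ha : a = 0 := by omega
    rw [hu, ha]; norm_num

omit [DecidableEq F] in
theorem mulChar_eq_one_of_sq {α : MulChar F ℂ} (h : α ^ 2 = 1) : α = 1 := by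
  rw [← orderOf_eq_one_iff]
  have h1 : orderOf α ∣ 2 := orderOf_dvd_of_pow_eq_one h
  have h2 : orderOf α ∣ Fintype.card F - 1 := card_mulChar (F := F) ▸ orderOf_dvd_natCard α
  rcases (Nat.dvd_prime Nat.prime_two).1 h1 with e | e
  · exact e
  · rw [e] at h2
    obtain ⟨n, hn⟩ := FiniteField.card F 2
    obtain ⟨k, hk⟩ : ∃ k, (n : ℕ) = k + 1 := ⟨n - 1, by have := n.pos; omega⟩
    have hq := Fintype.one_lt_card (α := F)
    rw [hn.2, hk, pow_succ] at h2 hq
    omega

/-- In characteristic two a character of degree `q` is the Steinberg character. -/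
theorem eq_steinberg_of_degree (χ : IrrCharacter SL2) (hd : (χ : SL2 → ℂ) 1 = (Fintype.card F : ℂ)) :
    (χ : SL2 → ℂ) = steinberg := by
  classical
  obtain ⟨α, hα⟩ := exists_ps_constituent χ.2 (by
    rw [sum_uni_const (v := 0) fun b hb => by
      rw [← uni_eq_bEl', Chars17.SLTwoEven.irr_uni χ hb, uni_eq_bEl']; exact (value_uni_of_degree χ).1 hd,
      hd, mul_zero, add_zero]
    exact Nat.cast_ne_zero.2 Fintype.card_ne_zero)
  by_cases h2 : α ^ 2 = 1
  · subst_vars
    rw [mulChar_eq_one_of_sq h2, show ps (1 : MulChar F ℂ) = steinberg + fun _ => 1 from (sub_add_cancel _ _).symm,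
      classInner_add_left] at hα
    by_contra hne
    rw [classInner_irr_ne isIrrCharacter_steinberg χ.2 (Ne.symm hne), zero_add] at hα
    refine hα (classInner_irr_ne isIrrCharacter_one χ.2 fun e => ?_)
    have := Fintype.one_lt_card (α := F)
    rw [← e] at hd
    have : (1 : ℕ) = Fintype.card F := by exact_mod_cast (show (1 : ℂ) = _ from hd)
    omega
  · exfalso
    refine hα (classInner_irr_ne ((isIrrCharacter_ps_iff α).2 h2) χ.2 fun e => ?_)
    rw [← e, ps_one] at hd
    exact one_ne_zero (show (1 : ℂ) = 0 by linear_combination hd)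

end Two

end CfsgLib.SL2Char
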