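import Cfsg.Agent.Lib.SL2Char.Blocks
import Cfsg.Agent.Lib.SL2Char.Even
import Cfsg.Prelude.Def_DegreeGraph
import Mathlib.LinearAlgebra.Matrix.ProjectiveSpecialLinearGroup

/-!
The character degrees of `PSL_2(q)` seen inside those of `SL_2(q)`.
-/

set_option autoImplicit false
set_option linter.unusedSectionVars false
set_option linter.style.haveILetI false

namespace CfsgLib.SL2Char.Projective

open Matrix Cfsg
open CfsgLib.SL2Tori CfsgLib.Schur CfsgLib.Characters CfsgLib.Chars17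

variable {F : Type*} [Field F] [Fintype F] [DecidableEq F]

local notation "SL2" => Matrix.SpecialLinearGroup (Fin 2) F
local notation "PSL2" => Matrix.ProjectiveSpecialLinearGroup (Fin 2) F

theorem center_le_irrKer (χ : IrrCharacter SL2) (h : (χ : SL2 → ℂ) (-1) = (χ : SL2 → ℂ) 1) :
    Subgroup.center SL2 ≤ irrKer χ := by
  intro z hz
  rw [mem_irrKer]
  rcases mem_center_iff.1 hz with rfl | rfl
  · rfl
  · exact h

theorem charDegree_infl (η : IrrCharacter PSL2) :
    charDegree (infl (Subgroup.center SL2) η : SL2 → ℂ) = charDegree (η : PSL2 → ℂ) := rfl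

theorem exists_projective (χ : IrrCharacter SL2) (h : (χ : SL2 → ℂ) (-1) = (χ : SL2 → ℂ) 1) :
    ∃ η : IrrCharacter PSL2, infl (Subgroup.center SL2) η = χ :=
  exists_infl_eq _ (center_le_irrKer χ h)

theorem charDegree_of_apply {G : Type*} [Group G] (χ : IrrCharacter G) (n : ℕ)
    (h : (χ : G → ℂ) 1 = (n : ℂ)) : charDegree (χ : G → ℂ) = n :=
  (apply_one_iff_charDegree χ n).1 h

/-- A degree divisible by the characteristic is the Steinberg degree. -/
theorem eq_steinberg_of_dvd (p : ℕ) [Fact p.Prime] [CharP F p] (h4 : 4 ≤ Fintype.card F)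
    (χ : IrrCharacter SL2) (hd : p ∣ charDegree (χ : SL2 → ℂ)) :
    (χ : SL2 → ℂ) = steinberg ∧ charDegree (χ : SL2 → ℂ) = Fintype.card F := by
  classical
  have hp : p.Prime := Fact.out
  obtain ⟨n, -, hn⟩ := FiniteField.card F p
  have hpq : p ∣ Fintype.card F := hn ▸ dvd_pow_self p n.pos.ne'
  have hcop : ∀ d : ℕ, (d ∣ Fintype.card F + 1 ∨ d ∣ Fintype.card F - 1) → ¬ p ∣ d := by
    intro d hd' hpd
    rcases hd' with h | h
    · have := Nat.dvd_sub (hpd.trans h) hpq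
      rw [Nat.add_sub_cancel_left] at this
      exact hp.not_dvd_one this
    · have h1 := Nat.dvd_sub hpq (hpd.trans h)
      rw [show Fintype.card F - (Fintype.card F - 1) = 1 by omega] at h1
      exact hp.not_dvd_one h1
  by_cases h2 : p = 2
  · subst h2
    have hmem : charDegree (χ : SL2 → ℂ) ∈ charDegrees SL2 := ⟨χ, rfl⟩
    rw [Chars17.SLTwoEven.degrees h4] at hmem
    simp only [Set.mem_insert_iff, Set.mem_singleton_iff] at hmem
    rcases hmem with e | e | e | e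
    · exact absurd hd (by rw [e]; exact hp.not_dvd_one)
    · exact absurd hd (hcop _ (Or.inr (e ▸ dvd_rfl)))
    · exact ⟨eq_steinberg_of_degree χ ((apply_one_iff_charDegree χ _).2 e), e⟩
    · exact absurd hd (hcop _ (Or.inl (e ▸ dvd_rfl)))
  · obtain ⟨c, h, D⟩ := exists_dsData (odd_card_of_char (p := p) h2 : Odd (Fintype.card F))
    obtain ⟨α₀, θ₀, η₁, η₂, χ₁, χ₂, T⟩ := exists_table D
    rcases T.deg_cases χ with ⟨-, e⟩ | he | ⟨-, e⟩ | ⟨-, e⟩ | ⟨-, e⟩ | ⟨-, e⟩
    · exact absurd hd (by rw [e]; exact hp.not_dvd_one)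
    · exact he
    · exact absurd hd (hcop _ (Or.inl (e ▸ dvd_rfl)))
    · exact absurd hd (hcop _ (Or.inr (e ▸ dvd_rfl)))
    · exact absurd hd (hcop _ (Or.inl ⟨2, by omega⟩))
    · exact absurd hd (hcop _ (Or.inr ⟨2, by omega⟩))

/-- The degrees of `SL_2(q)`, `q` odd, up to divisibility. -/
theorem degree_shape (hodd : Odd (Fintype.card F)) {d : ℕ} (hd : d ∈ charDegrees SL2) :
    d = 1 ∨ d = Fintype.card F ∨ d ∣ Fintype.card F + 1 ∨ d ∣ Fintype.card F - 1 := by
  classical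
  obtain ⟨χ, rfl⟩ := hd
  obtain ⟨c, h, D⟩ := exists_dsData hodd
  obtain ⟨α₀, θ₀, η₁, η₂, χ₁, χ₂, T⟩ := exists_table D
  rcases T.deg_cases χ with ⟨-, e⟩ | ⟨-, e⟩ | ⟨-, e⟩ | ⟨-, e⟩ | ⟨-, e⟩ | ⟨-, e⟩
  · exact Or.inl e
  · exact Or.inr (Or.inl e)
  · exact Or.inr (Or.inr (Or.inl (e ▸ dvd_rfl)))
  · exact Or.inr (Or.inr (Or.inr (e ▸ dvd_rfl)))
  · exact Or.inr (Or.inr (Or.inl ⟨2, by omega⟩))
  · exact Or.inr (Or.inr (Or.inr ⟨2, by omega⟩))

theorem exists_steinberg : ∃ η : IrrCharacter PSL2,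
    (infl (Subgroup.center SL2) η : SL2 → ℂ) = steinberg ∧
      charDegree (η : PSL2 → ℂ) = Fintype.card F := by
  obtain ⟨η, hη⟩ := exists_projective ⟨steinberg, isIrrCharacter_steinberg⟩
    (show steinberg (-1 : SL2) = steinberg 1 by rw [steinberg_neg_one, steinberg_one])
  refine ⟨η, by rw [hη], ?_⟩
  rw [← charDegree_infl, hη]
  exact charDegree_of_apply _ _ steinberg_one

theorem mem_charDegrees_succ (hodd : Odd (Fintype.card F)) (h5 : 5 < Fintype.card F) :
    Fintype.card F + 1 ∈ charDegrees PSL2 := by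
  classical
  obtain ⟨c, h, D⟩ := exists_dsData hodd
  haveI := isCyclic_mulChar (F := F)
  obtain ⟨β, hβ⟩ := IsCyclic.exists_ofOrder_eq_natCard (α := MulChar F ℂ)
  rw [card_mulChar] at hβ
  have hsq : (β ^ 2) ^ 2 ≠ 1 := by
    intro e
    rw [← pow_mul] at e
    have := Nat.le_of_dvd (by norm_num) (orderOf_dvd_of_pow_eq_one e)
    omega
  have hneg : (β ^ 2) (-1) = 1 := by
    rw [MulChar.pow_apply' β two_ne_zero, ← map_pow, neg_one_sq, map_one]
  obtain ⟨η, hη⟩ := exists_projective ⟨ps (β ^ 2), (isIrrCharacter_ps_iff _).2 hsq⟩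
    (show ps (β ^ 2) (-1 : SL2) = ps (β ^ 2) 1 by rw [ps_neg_one, hneg, one_mul, ps_one])
  refine ⟨η, ?_⟩
  rw [← charDegree_infl, hη]
  exact charDegree_of_apply _ _ (by push_cast; exact ps_one _)

theorem mem_charDegrees_pred (hodd : Odd (Fintype.card F)) (h5 : 5 < Fintype.card F) :
    Fintype.card F - 1 ∈ charDegrees PSL2 := by
  classical
  obtain ⟨c, h, D⟩ := exists_dsData hodd
  haveI := finite_thetaHom D
  haveI := isCyclic_thetaHom D
  obtain ⟨γ, hγ⟩ := IsCyclic.exists_ofOrder_eq_natCard (α := Subgroup.zpowers c →* ℂˣ)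
  rw [card_thetaHom D] at hγ
  have hsq : (γ ^ 2) ^ 2 ≠ 1 := by
    intro e
    rw [← pow_mul] at e
    have := Nat.le_of_dvd (by norm_num) (orderOf_dvd_of_pow_eq_one e)
    omega
  have hneg : zsign D (γ ^ 2) = 1 := by
    rw [zsign_def, MonoidHom.pow_apply, Units.val_pow_eq_pow_val]
    rcases zsign_cases D γ with e | e <;> rw [zsign_def] at e <;> rw [e] <;> norm_num
  obtain ⟨η, hη⟩ := exists_projective ⟨dsFun D (γ ^ 2), isIrrCharacter_dsFun D hsq⟩
    (show dsFun D (γ ^ 2) (-1 : SL2) = dsFun D (γ ^ 2) 1 by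
      rw [dsFun_neg_one, hneg, mul_one, dsFun_one])
  refine ⟨η, ?_⟩
  rw [← charDegree_infl, hη]
  refine charDegree_of_apply _ _ ?_
  rw [Nat.cast_sub Fintype.card_pos, Nat.cast_one]
  exact dsFun_one D _

theorem charDegrees_projective_subset : charDegrees PSL2 ⊆ charDegrees SL2 := by
  rintro d ⟨η, rfl⟩
  exact ⟨infl (Subgroup.center SL2) η, charDegree_infl η⟩

end CfsgLib.SL2Char.Projective
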