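import Cfsg.Agent.Lib.SL2Char.Values
import Cfsg.Agent.Lib.SpecLin.SLTwoClassSize

/-!
Elements of order `p` of `SL_2` in odd characteristic `p`.
-/

set_option autoImplicit false

namespace CfsgLib.SL2Char

open Matrix Cfsg
open CfsgLib.SL2Tori CfsgLib.Schur

variable {F : Type*} [Field F]

local notation "SL2" => Matrix.SpecialLinearGroup (Fin 2) F
local notation "M2" => Matrix (Fin 2) (Fin 2) F

theorem bEl_one_mul (b b' : F) : (bEl (1 : Fˣ) b : SL2) * (bEl (1 : Fˣ) b' : SL2) = (bEl (1 : Fˣ) (b + b') : SL2) := by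
  refine Subtype.ext ?_
  rw [Matrix.SpecialLinearGroup.coe_mul, bEl_coe, bEl_coe, bEl_coe]
  ext i j
  fin_cases i <;> fin_cases j <;> simp [add_comm]

theorem bEl_one_pow (b : F) (n : ℕ) : (bEl (1 : Fˣ) b : SL2) ^ n = (bEl (1 : Fˣ) ((n : F) * b) : SL2) := by
  induction n with
  | zero => refine Subtype.ext ?_; rw [pow_zero, bEl_coe]; simp [Matrix.one_fin_two]
  | succ k ih => rw [pow_succ, ih, bEl_one_mul, Nat.cast_succ, add_mul, one_mul]

theorem bEl_one_nonscalar {b : F} (hb : b ≠ 0) (s : F) : ((bEl (1 : Fˣ) b : SL2) : M2) ≠ s • 1 := fun e => hb (by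
  simpa using congrFun (congrFun e 0) 1)

variable [Fintype F] [DecidableEq F] (p : ℕ) [Fact p.Prime] [CharP F p]

theorem orderOf_eq_char_iff (hp : p ≠ 2) (g : SL2) :
    orderOf g = p ↔ ∃ b : F, b ≠ 0 ∧ IsConj g (bEl (1 : Fˣ) b : SL2) := by
  have h2 : (2 : F) ≠ 0 := fun e => hp ((Nat.prime_dvd_prime_iff_eq (Fact.out : p.Prime) Nat.prime_two).1
    ((CharP.cast_eq_zero_iff F p 2).1 (by exact_mod_cast e)))
  constructor
  · intro hg
    have hgp : g ^ p = 1 := hg ▸ pow_orderOf_eq_one g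
    have hg1 : g ≠ 1 := fun e => (Fact.out : p.Prime).one_lt.ne' (by rw [← hg, e, orderOf_one])
    have hodd : Odd p := (Fact.out : p.Prime).odd_of_ne_two hp
    have hgn : g ≠ -1 := fun e => by
      rw [e, hodd.neg_one_pow] at hgp
      exact neg_one_ne_one h2 hgp
    have hnil : IsNilpotent ((g : M2) - 1) := ⟨p, by
      rw [sub_pow_char_of_commute p (Commute.one_right _), one_pow, ← Matrix.SpecialLinearGroup.coe_pow, hgp]
      simp⟩
    have htr : (g : M2).trace = 2 := by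
      have := (Matrix.isNilpotent_trace_of_isNilpotent hnil).eq_zero
      rw [Matrix.trace_sub, Matrix.trace_one, Fintype.card_fin, sub_eq_zero] at this
      simpa using this
    obtain ⟨ε, b, hε, hb, hc⟩ := exists_uni_of_trace h2 (by rw [htr]; norm_num) hg1 hgn
    rcases hε with rfl | rfl
    · exact ⟨b, hb, hc⟩
    · exfalso
      rw [trace_sq_of_isConj hc, bEl_trace] at htr
      simp at htr
      exact mul_ne_zero h2 h2 (by linear_combination -htr)
  · rintro ⟨b, hb, hc⟩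
    obtain ⟨n, hn⟩ := isConj_iff.1 hc.symm
    rw [← hn, show n * (bEl (1 : Fˣ) b : SL2) * n⁻¹ = MulAut.conj n (bEl (1 : Fˣ) b : SL2) from rfl,
      MulEquiv.orderOf_eq]
    refine orderOf_eq_prime ?_ fun e => bEl_one_nonscalar hb 1 (by rw [e]; simp)
    rw [bEl_one_pow, CharP.cast_eq_zero, zero_mul, bEl_one_zero]

theorem card_classes_order_char (hp : p ≠ 2) :
    Nat.card {C : ConjClasses SL2 // ∃ g : SL2, orderOf g = p ∧ ConjClasses.mk g = C} = 2 := by
  classical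
  have hF2 : ringChar F ≠ 2 := by rwa [ringChar.eq F p]
  obtain ⟨e, he⟩ := FiniteField.exists_nonsquare (F := F) hF2
  have he0 : e ≠ 0 := fun e' => he (e' ▸ IsSquare.zero)
  let C : Fin 2 → ConjClasses SL2 :=
    ![ConjClasses.mk (bEl (1 : Fˣ) (1 : F) : SL2), ConjClasses.mk (bEl (1 : Fˣ) e : SL2)]
  have hne : ConjClasses.mk (bEl (1 : Fˣ) (1 : F) : SL2) ≠ ConjClasses.mk (bEl (1 : Fˣ) e : SL2) := fun h => he (by
    have := (isConj_uni_iff (Or.inl rfl) one_ne_zero he0).1 (ConjClasses.mk_eq_mk_iff_isConj.1 h)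
    rwa [one_mul] at this)
  refine (Nat.card_congr (Equiv.subtypeEquivRight (p := fun K => ∃ g : SL2, orderOf g = p ∧ ConjClasses.mk g = K)
    (q := fun K => K ∈ ({ConjClasses.mk (bEl (1 : Fˣ) (1 : F) : SL2), ConjClasses.mk (bEl (1 : Fˣ) e : SL2)} :
      Set (ConjClasses SL2))) fun K => ⟨?_, ?_⟩)).trans ((Nat.card_coe_set_eq _).trans (Set.ncard_pair hne))
  · rintro ⟨g, hg, rfl⟩
    obtain ⟨b, hb, hc⟩ := (orderOf_eq_char_iff p hp g).1 hg
    rw [ConjClasses.mk_eq_mk_iff_isConj.2 hc]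
    by_cases hs : IsSquare b
    · exact Or.inl (ConjClasses.mk_eq_mk_iff_isConj.2 ((isConj_uni_iff (Or.inl rfl) hb one_ne_zero).2 (by rwa [mul_one])))
    · refine Or.inr (ConjClasses.mk_eq_mk_iff_isConj.2 ((isConj_uni_iff (Or.inl rfl) hb he0).2 ?_))
      rw [FiniteField.isSquare_iff hF2 (mul_ne_zero hb he0), mul_pow,
        (FiniteField.pow_dichotomy hF2 hb).resolve_left fun h => hs ((FiniteField.isSquare_iff hF2 hb).2 h),
        (FiniteField.pow_dichotomy hF2 he0).resolve_left fun h => he ((FiniteField.isSquare_iff hF2 he0).2 h)]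
      ring
  · rintro (rfl | rfl)
    · exact ⟨_, (orderOf_eq_char_iff p hp _).2 ⟨1, one_ne_zero, IsConj.refl _⟩, rfl⟩
    · exact ⟨_, (orderOf_eq_char_iff p hp _).2 ⟨e, he0, IsConj.refl _⟩, rfl⟩

theorem card_carrier_order_char (hp : p ≠ 2) {g : SL2} (hg : orderOf g = p) :
    Nat.card (ConjClasses.mk g).carrier = (Fintype.card F ^ 2 - 1) / 2 := by
  obtain ⟨b, hb, hc⟩ := (orderOf_eq_char_iff p hp g).1 hg
  rw [ConjClasses.mk_eq_mk_iff_isConj.2 hc, Nat.card_coe_set_eq]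
  have h2 : (2 : F) ≠ 0 := fun e => hp ((Nat.prime_dvd_prime_iff_eq (Fact.out : p.Prime) Nat.prime_two).1
    ((CharP.cast_eq_zero_iff F p 2).1 (by exact_mod_cast e)))
  rw [show (ConjClasses.mk (bEl (1 : Fˣ) b : SL2)).carrier = {M : SL2 | IsConj (bEl (1 : Fˣ) b : SL2) M} from
    Set.ext fun M => by
      rw [ConjClasses.mem_carrier_iff_mk_eq, ConjClasses.mk_eq_mk_iff_isConj, Set.mem_setOf_eq, isConj_comm]]
  exact SpecLin.SLTwo.ncard_class_unipotent (bEl_one_nonscalar hb) h2 (by rw [bEl_trace]; norm_num)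

end CfsgLib.SL2Char
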