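import Cfsg.Agent.Lib.SL2Char.Degrees
import Cfsg.Agent.Lib.SL2Char.OrderP
import Cfsg.Agent.Lib.Blocks.PrincipalSq
import Cfsg.Agent.Lib.Blocks.Idempotent
import Cfsg.Agent.Lib.BlockCover.DefectGroup

/-!
The `p`-blocks of `SL_2(q)` in its own characteristic, `q` odd.
-/

set_option autoImplicit false

namespace CfsgLib.SL2Char

open Matrix Cfsg
open CfsgLib.SL2Tori CfsgLib.Schur CfsgLib.Characters
open CfsgLib.Blocks

variable {F : Type*} [Field F] [Fintype F] [DecidableEq F] (p : ℕ) [Fact p.Prime] [CharP F p]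

local notation "SL2" => Matrix.SpecialLinearGroup (Fin 2) F
local notation "M2" => Matrix (Fin 2) (Fin 2) F

variable {p}

omit [DecidableEq F] in
theorem odd_card_of_char (hp : p ≠ 2) : Odd (Fintype.card F) := by
  obtain ⟨n, hn⟩ := FiniteField.card F p
  rw [hn.2]
  exact (hn.1.odd_of_ne_two hp).pow

omit [DecidableEq F] in
theorem dvd_card_field : p ∣ Fintype.card F := by
  obtain ⟨n, hn⟩ := FiniteField.card F p
  exact hn.2 ▸ dvd_pow_self p n.ne_zero

omit [DecidableEq F] in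
theorem dvd_card_slTwo : p ∣ Nat.card SL2 := by
  rw [natCard_slTwo]
  exact dvd_mul_of_dvd_left (dvd_card_field (F := F)) _

theorem dvd_index_centralizer (hp : p ≠ 2) {g : SL2} (hg : (g : M2).trace ^ 2 ≠ 4) :
    p ∣ (Subgroup.centralizer ({g} : Set SL2)).index := by
  refine ((Fact.out : p.Prime).dvd_mul.1
    (Subgroup.card_mul_index (Subgroup.centralizer ({g} : Set SL2)) ▸ dvd_card_slTwo)).resolve_left fun hd => ?_
  obtain ⟨⟨x, hx⟩, hox⟩ := exists_prime_orderOf_dvd_card' p hd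
  rw [Subgroup.orderOf_mk] at hox
  obtain ⟨b, hb, hc⟩ := (orderOf_eq_char_iff p hp x).1 hox
  have htr : (x : M2).trace = 2 := by rw [trace_sq_of_isConj hc, bEl_trace]; norm_num
  have hns : ∀ s : F, (x : M2) ≠ s • 1 := fun s e => by
    rcases scalar_cases e with e' | e'
    · rw [eq_one_of_coe e'] at hc
      exact bEl_one_nonscalar hb 1 (by rw [isConj_one_right.1 hc]; simp)
    · have h2 := CfsgLib.SL2Tori.two_ne_of_odd (odd_card_of_char (F := F) hp)
      rw [e'] at htr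
      simp at htr
      exact mul_ne_zero h2 h2 (by linear_combination -htr)
  rw [Subgroup.mem_centralizer_singleton_iff] at hx
  obtain ⟨a, b', e⟩ := commutant hns (coe_comm hx.symm)
  have hd1 : ((g : M2)).det = 1 := g.prop
  rw [e, det_comb a b' x.prop, htr] at hd1
  apply hg
  rw [e, trace_comb, htr]
  linear_combination 4 * hd1

omit [Fintype F] [DecidableEq F] [CharP F p] [Fact p.Prime] in
theorem centralizer_mul_central {z u : SL2} (hz : ∀ x, x * z = z * x) :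
    Subgroup.centralizer ({z * u} : Set SL2) = Subgroup.centralizer ({u} : Set SL2) := by
  ext x
  rw [Subgroup.mem_centralizer_singleton_iff, Subgroup.mem_centralizer_singleton_iff, ← mul_assoc, hz, mul_assoc,
    mul_assoc]
  exact mul_left_cancel_iff

variable {c : Matrix.SpecialLinearGroup (Fin 2) F} {h : ℕ} {D : DSData c h} {α₀ : MulChar F ℂ}
variable {θ₀ : Subgroup.zpowers c →* ℂˣ} {η₁ η₂ χ₁ χ₂ : IrrCharacter (Matrix.SpecialLinearGroup (Fin 2) F)}
variable {M : Ideal AlgInt}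

theorem Table.not_dvd_degree (T : Table D α₀ θ₀ η₁ η₂ χ₁ χ₂) (hp : p ≠ 2) {χ : IrrCharacter SL2}
    (hχ : (χ : SL2 → ℂ) 1 ≠ (Fintype.card F : ℂ)) : ¬ p ∣ charDegree (χ : SL2 → ℂ) := by
  intro hd
  have hp' := (Fact.out : p.Prime)
  have hq := dvd_card_field (F := F) (p := p)
  have h1 : ¬ p ∣ 1 := hp'.not_dvd_one
  rcases T.deg_cases χ with ⟨-, d⟩ | ⟨-, d⟩ | ⟨-, d⟩ | ⟨-, d⟩ | ⟨-, d⟩ | ⟨-, d⟩
  · exact h1 (d ▸ hd)
  · exact hχ ((apply_one_iff_charDegree χ _).2 d)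
  · rw [d] at hd; exact h1 ((Nat.dvd_add_right hq).1 hd)
  · rw [d] at hd
    have hsum : p ∣ (Fintype.card F - 1) + 1 := by rwa [Nat.sub_add_cancel Fintype.card_pos]
    exact h1 ((Nat.dvd_add_right hd).1 hsum)
  · exact h1 ((Nat.dvd_add_right hq).1 (d ▸ dvd_mul_of_dvd_right hd 2))
  · exact h1 ((Nat.dvd_add_right (dvd_mul_of_dvd_right hd 2)).1 (by rw [d]; exact hq))

theorem neg_sign (χ : IrrCharacter SL2) : ∃ s : ℤ, (s = 1 ∨ s = -1) ∧
    ((χ : SL2 → ℂ) (-1) = (s : ℂ) * (χ : SL2 → ℂ) 1) ∧ ∀ g, (χ : SL2 → ℂ) (-1 * g) = (s : ℂ) * (χ : SL2 → ℂ) g := by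
  obtain ⟨s, hs, e⟩ := CfsgLib.Involutions.irr_central_involution_sign χ
    (mem_center_iff.2 (Or.inr rfl)) (Subtype.ext (by simp) : (-1 : SL2) * -1 = 1)
  exact ⟨s, hs, by simpa using e 1, e⟩

omit [Fintype F] [DecidableEq F] [CharP F p] [Fact p.Prime] in
theorem centralizer_neg_one : Subgroup.centralizer ({(-1 : SL2)} : Set SL2) = ⊤ := by
  refine eq_top_iff.2 fun x _ => Subgroup.mem_centralizer_singleton_iff.2 ?_
  exact neg_one_central x

theorem centralChar_neg_one (χ : IrrCharacter SL2) :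
    centralChar (χ : SL2 → ℂ) (-1) = (χ : SL2 → ℂ) (-1) / (χ : SL2 → ℂ) 1 := by
  rw [centralChar, centralizer_neg_one, Subgroup.index_top, Nat.cast_one, one_mul]

theorem memLocalIdeal_semisimple (hp : p ≠ 2) (hM : IsPModular p M) {χ : IrrCharacter SL2}
    (hd : ¬ p ∣ charDegree (χ : SL2 → ℂ)) {g : SL2} (hg : (g : M2).trace ^ 2 ≠ 4) :
    MemLocalIdeal M (centralChar (χ : SL2 → ℂ) g) := by
  rw [centralChar, mul_div_assoc]
  refine MemLocalIdeal.mul_right hM ((memLocalIdeal_natCast_iff hM _).2 (dvd_index_centralizer hp hg)) ?_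
  rw [CfsgLib.LinearTwist.apply_one_eq_charDegree (irr_isCharacter χ), div_eq_mul_inv, ← mem_lRing (hM := hM)]
  exact Subring.mul_mem _ (CfsgLib.PrincipalSq.char_mem_lRing hM (irr_isCharacter χ) g) (inv_natCast_mem_lRing hM hd)

theorem memLocalIdeal_uni (hM : IsPModular p M) {χ : IrrCharacter SL2} (hd : ¬ p ∣ charDegree (χ : SL2 → ℂ))
    (b : F) :
    MemLocalIdeal M ((χ : SL2 → ℂ) (bEl (1 : Fˣ) b : SL2) / (χ : SL2 → ℂ) 1 - 1) := by
  rw [div_sub_one (irr_one_ne_zero χ), div_eq_mul_inv]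
  refine MemLocalIdeal.mul_right hM (CfsgLib.PrincipalSq.char_congr_of_pow_eq hM (irr_isCharacter χ) (k := 1) ?_) ?_
  · rw [pow_one, one_pow, bEl_one_pow, CharP.cast_eq_zero, zero_mul, bEl_one_zero]
  · rw [CfsgLib.LinearTwist.apply_one_eq_charDegree (irr_isCharacter χ), ← mem_lRing (hM := hM)]
    exact inv_natCast_mem_lRing hM hd

theorem sameBlock_of_sign (hp : p ≠ 2) (hM : IsPModular p M) {χ ψ : IrrCharacter SL2}
    (hdχ : ¬ p ∣ charDegree (χ : SL2 → ℂ)) (hdψ : ¬ p ∣ charDegree (ψ : SL2 → ℂ)) {s : ℤ}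
    (eχ : ∀ g, (χ : SL2 → ℂ) (-1 * g) = (s : ℂ) * (χ : SL2 → ℂ) g)
    (eψ : ∀ g, (ψ : SL2 → ℂ) (-1 * g) = (s : ℂ) * (ψ : SL2 → ℂ) g) :
    SameBlock M (χ : SL2 → ℂ) (ψ : SL2 → ℂ) := by
  have h2 := CfsgLib.SL2Tori.two_ne_of_odd (odd_card_of_char (F := F) hp)
  intro g
  rcases element_cases h2 g with rfl | rfl | hy | hn | ⟨ε, b, hε, hb, hc⟩
  · simp only [centralChar, mul_div_assoc, div_self (irr_one_ne_zero χ), div_self (irr_one_ne_zero ψ), sub_self]
    exact memLocalIdeal_zero hM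
  · have e1 := eχ 1
    have e2 := eψ 1
    rw [mul_one] at e1 e2
    rw [centralChar_neg_one, centralChar_neg_one, e1, e2, mul_div_assoc, mul_div_assoc,
      div_self (irr_one_ne_zero χ), div_self (irr_one_ne_zero ψ), sub_self]
    exact memLocalIdeal_zero hM
  · exact MemLocalIdeal.sub hM (memLocalIdeal_semisimple hp hM hdχ hy.1)
      (memLocalIdeal_semisimple hp hM hdψ hy.1)
  · exact MemLocalIdeal.sub hM (memLocalIdeal_semisimple hp hM hdχ hn.trace_ne)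
      (memLocalIdeal_semisimple hp hM hdψ hn.trace_ne)
  · rw [Blocks.centralChar_of_isConj χ hc, Blocks.centralChar_of_isConj ψ hc]
    have key : ∀ k : IrrCharacter SL2, ¬ p ∣ charDegree (k : SL2 → ℂ) →
        (∀ g, (k : SL2 → ℂ) (-1 * g) = (s : ℂ) * (k : SL2 → ℂ) g) →
        MemLocalIdeal M (centralChar (k : SL2 → ℂ) (bEl ε b : SL2) -
          ((Subgroup.centralizer ({(bEl ε b : SL2)} : Set SL2)).index : ℂ) * (if ε = 1 then 1 else (s : ℂ))) := by
      intro k hk ek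
      rw [centralChar, mul_div_assoc, ← mul_sub]
      refine MemLocalIdeal.mul_left hM (memLocalRing_of_isIntegral hM (by simpa using isIntegral_algebraMap (R := ℤ) (A := ℂ) (x := ((Subgroup.centralizer ({(bEl ε b : SL2)} : Set SL2)).index : ℤ)))) ?_
      rcases hε with rfl | rfl
      · rw [if_pos rfl]; exact memLocalIdeal_uni hM hk b
      · have hne : (-1 : Fˣ) ≠ 1 := fun h => h2 (by
          have := congrArg Units.val h; simp at this; linear_combination -this)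
        have e0 : (bEl (-1) b : SL2) = -1 * (bEl (1 : Fˣ) (-b) : SL2) := by
          rw [← neg_one_mul_bEl, ← mul_assoc]; simp
        rw [if_neg hne, e0, ek, mul_div_assoc, ← mul_sub_one]
        exact MemLocalIdeal.mul_left hM (memLocalRing_of_isIntegral hM isIntegral_algebraMap)
          (memLocalIdeal_uni hM hk (-b))
    simpa using MemLocalIdeal.sub hM (key χ hdχ eχ) (key ψ hdψ eψ)

theorem not_sameBlock_of_sign (hp : p ≠ 2) (hM : IsPModular p M) {χ ψ : IrrCharacter SL2}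
    (eχ : (χ : SL2 → ℂ) (-1) = (χ : SL2 → ℂ) 1) (eψ : (ψ : SL2 → ℂ) (-1) = -(ψ : SL2 → ℂ) 1) :
    ¬ SameBlock M (χ : SL2 → ℂ) (ψ : SL2 → ℂ) := by
  intro hs
  have := hs (-1)
  rw [centralChar_neg_one, centralChar_neg_one, eχ, eψ, neg_div, div_self (irr_one_ne_zero χ),
    div_self (irr_one_ne_zero ψ), sub_neg_eq_add, one_add_one_eq_two, show (2 : ℂ) = ((2 : ℕ) : ℂ) by norm_num,
    memLocalIdeal_natCast_iff hM] at this
  exact hp ((Nat.prime_dvd_prime_iff_eq (Fact.out : p.Prime) Nat.prime_two).1 this)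

omit [Fact p.Prime] [CharP F p] in
theorem steinberg_neg_one : steinberg (-1 : SL2) = (Fintype.card F : ℂ) := by
  simp only [steinberg, Pi.sub_apply, ps_neg_one]
  rw [MulChar.one_apply (by simp : IsUnit (-1 : F))]
  ring

theorem Table.not_sameBlock_steinberg (T : Table D α₀ θ₀ η₁ η₂ χ₁ χ₂) (hp : p ≠ 2) (hM : IsPModular p M)
    {χ ψ : IrrCharacter SL2} (hχ : (χ : SL2 → ℂ) 1 = (Fintype.card F : ℂ))
    (hψ : (ψ : SL2 → ℂ) 1 ≠ (Fintype.card F : ℂ)) : ¬ SameBlock M (χ : SL2 → ℂ) (ψ : SL2 → ℂ) := by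
  intro hs
  have ht : (c : M2).trace ^ 2 ≠ 4 := D.noRoot.trace_ne
  have hω : MemLocalIdeal M (centralChar (χ : SL2 → ℂ) c) := by
    simpa using MemLocalIdeal.add hM (hs c) (memLocalIdeal_semisimple hp hM (T.not_dvd_degree hp hψ) ht)
  have hval : (χ : SL2 → ℂ) c = -1 := by
    rw [(T.deg_q_iff χ).1 hχ]
    simp only [steinberg, Pi.sub_apply, ps_noRoot 1 D.noRoot]
    norm_num
  rw [centralChar, D.torus.centralizer_eq, index_torus D.torus D.card_eq, hval, hχ, Nat.cast_mul,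
    Nat.cast_sub Fintype.card_pos, Nat.cast_one] at hω
  have hq : (Fintype.card F : ℂ) ≠ 0 := Nat.cast_ne_zero.2 Fintype.card_ne_zero
  rw [show (Fintype.card F : ℂ) * ((Fintype.card F : ℂ) - 1) * -1 / (Fintype.card F : ℂ) =
    1 - (Fintype.card F : ℂ) by field_simp; ring] at hω
  have h1 := MemLocalIdeal.add hM hω ((memLocalIdeal_natCast_iff hM _).2 (dvd_card_field (F := F)))
  rw [sub_add_cancel] at h1
  exact not_memLocalIdeal_one hM h1

theorem sign_cases (χ : IrrCharacter SL2) :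
    ((χ : SL2 → ℂ) (-1) = (χ : SL2 → ℂ) 1 ∧ ∀ g, (χ : SL2 → ℂ) (-1 * g) = ((1 : ℤ) : ℂ) * (χ : SL2 → ℂ) g) ∨
    ((χ : SL2 → ℂ) (-1) = -(χ : SL2 → ℂ) 1 ∧ ∀ g, (χ : SL2 → ℂ) (-1 * g) = ((-1 : ℤ) : ℂ) * (χ : SL2 → ℂ) g) := by
  obtain ⟨s, hs | hs, e, e'⟩ := neg_sign χ <;> subst hs
  · exact Or.inl ⟨by simpa using e, e'⟩
  · exact Or.inr ⟨by simpa using e, e'⟩

theorem sign_exclusive (χ : IrrCharacter SL2) (h1 : (χ : SL2 → ℂ) (-1) = (χ : SL2 → ℂ) 1)
    (h2 : (χ : SL2 → ℂ) (-1) = -(χ : SL2 → ℂ) 1) : False := by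
  exact irr_one_ne_zero χ (by linear_combination (h2 - h1) / 2)

theorem exists_faithful_sign (h2 : (2 : F) ≠ 0) :
    ∃ χ : IrrCharacter SL2, (χ : SL2 → ℂ) (-1) = -(χ : SL2 → ℂ) 1 := by
  classical
  by_contra! hall
  have hpos : ∀ χ : IrrCharacter SL2, (χ : SL2 → ℂ) (-1) = (χ : SL2 → ℂ) 1 := fun χ =>
    (sign_cases χ).elim (fun h => h.1) fun h => absurd h.1 (hall χ)
  have h := column_orth (-1 : SL2) 1
  have h' := column_orth (1 : SL2) 1
  rw [if_neg (fun e => neg_one_ne_one h2 (isConj_one_left.1 e))] at h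
  rw [if_pos (IsConj.refl _)] at h'
  simp only [hpos] at h
  rw [h'] at h
  exact Nat.cast_ne_zero.2 Nat.card_pos.ne' h

/-- The three blocks. -/
theorem Table.blockOf_eq (T : Table D α₀ θ₀ η₁ η₂ χ₁ χ₂) (hp : p ≠ 2) (hM : IsPModular p M)
    (χ : IrrCharacter SL2) :
    ((χ : SL2 → ℂ) 1 = (Fintype.card F : ℂ) → blockOf M (χ : SL2 → ℂ) =
      {ψ : IrrCharacter SL2 | (ψ : SL2 → ℂ) 1 = (Fintype.card F : ℂ)}) ∧
    ((χ : SL2 → ℂ) (-1) = (χ : SL2 → ℂ) 1 ∧ (χ : SL2 → ℂ) 1 ≠ (Fintype.card F : ℂ) → blockOf M (χ : SL2 → ℂ) =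
      {ψ : IrrCharacter SL2 | (ψ : SL2 → ℂ) (-1) = (ψ : SL2 → ℂ) 1 ∧ (ψ : SL2 → ℂ) 1 ≠ (Fintype.card F : ℂ)}) ∧
    ((χ : SL2 → ℂ) (-1) = -(χ : SL2 → ℂ) 1 → blockOf M (χ : SL2 → ℂ) =
      {ψ : IrrCharacter SL2 | (ψ : SL2 → ℂ) (-1) = -(ψ : SL2 → ℂ) 1}) := by
  have hst : ∀ k : IrrCharacter SL2, (k : SL2 → ℂ) (-1) = -(k : SL2 → ℂ) 1 →
      (k : SL2 → ℂ) 1 ≠ (Fintype.card F : ℂ) := fun k hk h1 =>
    sign_exclusive k (by rw [h1, (T.deg_q_iff k).1 h1, steinberg_neg_one]) hk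
  refine ⟨fun h1 => ?_, fun ⟨hs, hd⟩ => ?_, fun hs => ?_⟩ <;> ext ψ <;>
    simp only [blockOf, Set.mem_setOf_eq]
  · refine ⟨fun hb => by_contra fun hne => T.not_sameBlock_steinberg hp hM h1 hne hb, fun h1' => ?_⟩
    rw [(T.deg_q_iff χ).1 h1, ← (T.deg_q_iff ψ).1 h1']
    exact sameBlock_refl hM _
  · constructor
    · intro hb
      have hψ : (ψ : SL2 → ℂ) 1 ≠ (Fintype.card F : ℂ) := fun h1' =>
        T.not_sameBlock_steinberg hp hM h1' hd (SameBlock.symm hM hb)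
      refine ⟨?_, hψ⟩
      exact (sign_cases ψ).elim (fun h => h.1) fun h => absurd hb (not_sameBlock_of_sign hp hM hs h.1)
    · rintro ⟨hs', hd'⟩
      exact sameBlock_of_sign hp hM (T.not_dvd_degree hp hd) (T.not_dvd_degree hp hd')
        ((sign_cases χ).elim (fun h => h.2) fun h => (sign_exclusive χ hs h.1).elim)
        ((sign_cases ψ).elim (fun h => h.2) fun h => (sign_exclusive ψ hs' h.1).elim)
  · constructor
    · intro hb
      exact (sign_cases ψ).elim (fun h => absurd (SameBlock.symm hM hb) (not_sameBlock_of_sign hp hM h.1 hs))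
        fun h => h.1
    · intro hs'
      exact sameBlock_of_sign hp hM (T.not_dvd_degree hp (hst χ hs)) (T.not_dvd_degree hp (hst ψ hs'))
        ((sign_cases χ).elim (fun h => (sign_exclusive χ h.1 hs).elim) fun h => h.2)
        ((sign_cases ψ).elim (fun h => (sign_exclusive ψ h.1 hs').elim) fun h => h.2)

end CfsgLib.SL2Char
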