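import Cfsg.Agent.Lib.SL2Char.Twist

/-!
The values of the four half-degree characters of `SL_2(q)`.
-/

set_option autoImplicit false

namespace CfsgLib.SL2Char

open Matrix Cfsg
open CfsgLib.SL2Tori CfsgLib.Schur CfsgLib.Characters
open scoped ComplexConjugate

variable {F : Type*} [Field F] [Fintype F] [DecidableEq F]
variable {c : Matrix.SpecialLinearGroup (Fin 2) F} {h : ℕ} {D : DSData c h}
variable {α₀ : MulChar F ℂ} {θ₀ : Subgroup.zpowers c →* ℂˣ}
variable {η₁ η₂ χ₁ χ₂ : IrrCharacter (Matrix.SpecialLinearGroup (Fin 2) F)}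

local notation "SL2" => Matrix.SpecialLinearGroup (Fin 2) F
local notation "M2" => Matrix (Fin 2) (Fin 2) F

theorem Table.alpha0_of_isSquare (T : Table D α₀ θ₀ η₁ η₂ χ₁ χ₂) {x : F} (hx : x ≠ 0) (hs : IsSquare x) :
    α₀ x = 1 := by
  obtain ⟨r, rfl⟩ := hs
  have hr : IsUnit r := (left_ne_zero_of_mul hx).isUnit
  rw [map_mul, ← pow_two, ← MulChar.pow_apply' α₀ two_ne_zero, (T.alpha_sq α₀).2 (Or.inr rfl),
    MulChar.one_apply hr]

theorem Table.alpha0_of_not_isSquare (T : Table D α₀ θ₀ η₁ η₂ χ₁ χ₂) {x : F} (hs : ¬ IsSquare x) :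
    α₀ x = -1 := by
  have hx : x ≠ 0 := fun e => hs (e ▸ IsSquare.zero)
  have h1 : α₀ x ^ 2 = 1 := by
    rw [← MulChar.pow_apply' α₀ two_ne_zero, (T.alpha_sq α₀).2 (Or.inr rfl), MulChar.one_apply hx.isUnit]
  refine (sq_eq_one_iff.1 h1).resolve_left fun e => T.alpha_ne (MulChar.ext fun a => ?_)
  rw [MulChar.one_apply_coe]
  by_cases ha : IsSquare (a : F)
  · exact T.alpha0_of_isSquare a.ne_zero ha
  · have hF2 : ringChar F ≠ 2 := fun e => D.torus.two_ne (by
      have := ringChar.charP F; rw [e] at this; exact CharP.cast_eq_zero F 2)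
    have hax : IsSquare ((a : F) * x) := by
      rw [FiniteField.isSquare_iff hF2 (mul_ne_zero a.ne_zero hx), mul_pow,
        (FiniteField.pow_dichotomy hF2 a.ne_zero).resolve_left
          fun e => ha ((FiniteField.isSquare_iff hF2 a.ne_zero).2 e),
        (FiniteField.pow_dichotomy hF2 hx).resolve_left
          fun e => hs ((FiniteField.isSquare_iff hF2 hx).2 e)]
      ring
    have := T.alpha0_of_isSquare (mul_ne_zero a.ne_zero hx) hax
    rwa [map_mul, e, mul_one] at this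

theorem exists_nonsquare_unit (hodd : Odd (Fintype.card F)) : ∃ e : Fˣ, ¬ IsSquare (e : F) := by
  obtain ⟨x, hx⟩ := FiniteField.exists_nonsquare (F := F) (fun e => two_ne_of_odd hodd (by
    have := ringChar.charP F; rw [e] at this; exact CharP.cast_eq_zero F 2))
  exact ⟨Units.mk0 x (fun e => hx (e ▸ IsSquare.zero)), hx⟩

theorem uni_class (T : Table D α₀ θ₀ η₁ η₂ χ₁ χ₂) {φ : SL2 → ℂ} (hφ : IsClassFunction SL2 φ) {ε : Fˣ}
    (hε : ε = 1 ∨ ε = -1) {e : Fˣ} (he : ¬ IsSquare (e : F)) {b : F} (hb : b ≠ 0) :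
    φ (bEl ε b : SL2) = if α₀ b = 1 then φ (bEl ε (1 : F) : SL2) else φ (bEl ε (e : F) : SL2) := by
  split_ifs with hs
  · refine classFunction_eq_of_isConj hφ ((isConj_uni_iff hε hb one_ne_zero).2 ?_)
    rw [mul_one]
    by_contra hns
    rw [T.alpha0_of_not_isSquare hns] at hs
    norm_num at hs
  · refine classFunction_eq_of_isConj hφ ((isConj_uni_iff hε hb e.ne_zero).2 ?_)
    have hns : ¬ IsSquare b := fun h => hs (T.alpha0_of_isSquare hb h)
    have hF2 : ringChar F ≠ 2 := fun e => D.torus.two_ne (by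
      have := ringChar.charP F; rw [e] at this; exact CharP.cast_eq_zero F 2)
    rw [FiniteField.isSquare_iff hF2 (mul_ne_zero hb e.ne_zero), mul_pow,
      (FiniteField.pow_dichotomy hF2 hb).resolve_left fun e' => hns ((FiniteField.isSquare_iff hF2 hb).2 e'),
      (FiniteField.pow_dichotomy hF2 e.ne_zero).resolve_left
        fun e' => he ((FiniteField.isSquare_iff hF2 e.ne_zero).2 e')]
    ring

/-- A pair of distinct irreducibles with a sum invariant under twisting, interchanged by it. -/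
structure Swapped (e : Fˣ) (a b : IrrCharacter (Matrix.SpecialLinearGroup (Fin 2) F)) : Prop where
  ne : a ≠ b
  map_left : ∀ g, (a : Matrix.SpecialLinearGroup (Fin 2) F → ℂ) (twist e g) =
    (b : Matrix.SpecialLinearGroup (Fin 2) F → ℂ) g
  map_right : ∀ g, (b : Matrix.SpecialLinearGroup (Fin 2) F → ℂ) (twist e g) =
    (a : Matrix.SpecialLinearGroup (Fin 2) F → ℂ) g

theorem twist_pair (e : Fˣ) {φ : SL2 → ℂ} (hφ : (fun g => φ (twist e g)) = φ)
    {a b : IrrCharacter SL2} (hab : a ≠ b) (hs : φ = (a : SL2 → ℂ) + (b : SL2 → ℂ)) :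
    Swapped e a b ∨ ((∀ g, (a : SL2 → ℂ) (twist e g) = (a : SL2 → ℂ) g) ∧
      ∀ g, (b : SL2 → ℂ) (twist e g) = (b : SL2 → ℂ) g) := by
  classical
  let σ : IrrCharacter SL2 → IrrCharacter SL2 := fun k =>
    ⟨fun g => (k : SL2 → ℂ) (twist e g), CfsgLib.BrauerPerm.isIrrCharacter_comp_equiv k.2 (twist e)⟩
  have hσinj : Function.Injective σ := fun k l hkl => Subtype.ext (funext fun g => by
    have := congrFun (congrArg Subtype.val hkl) ((twist e).symm g)
    simpa [σ] using this)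
  have hmem : ∀ k : IrrCharacter SL2, (k = a ∨ k = b) → σ k = a ∨ σ k = b := by
    intro k hk
    have h1 : classInner φ (σ k : SL2 → ℂ) = 1 := by
      rw [← hφ, classInner_comp_twist e φ (k : SL2 → ℂ), hs, classInner_add_left, classInner_irr, classInner_irr]
      rcases hk with rfl | rfl
      · rw [if_pos rfl, if_neg hab.symm, add_zero]
      · rw [if_neg hab, if_pos rfl, zero_add]
    rw [hs, classInner_add_left, classInner_irr, classInner_irr] at h1
    by_contra hne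
    push Not at hne
    rw [if_neg (Ne.symm hne.1), if_neg (Ne.symm hne.2)] at h1
    norm_num at h1
  rcases hmem a (Or.inl rfl) with ha | ha <;> rcases hmem b (Or.inr rfl) with hb | hb
  · exact absurd (hσinj (ha.trans hb.symm)) hab
  · exact Or.inr ⟨fun g => congrFun (congrArg Subtype.val ha) g, fun g => congrFun (congrArg Subtype.val hb) g⟩
  · exact Or.inl ⟨hab, fun g => congrFun (congrArg Subtype.val ha) g, fun g => congrFun (congrArg Subtype.val hb) g⟩
  · exact absurd (hσinj (ha.trans hb.symm)) hab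

namespace Swapped

variable {e : Fˣ} {a b : IrrCharacter (Matrix.SpecialLinearGroup (Fin 2) F)} (P : Swapped e a b)
include P

/-- The two halves agree off the `±` unipotent elements. -/
theorem eq_of_trace {g : SL2} (hg : (g : M2).trace ^ 2 ≠ 4) : (a : SL2 → ℂ) g = (b : SL2 → ℂ) g := by
  rw [← P.map_left g]
  exact (classFunction_eq_of_isConj (irr_isClassFunction a)
    (isConj_of_hyp (by rw [trace_twist]; exact hg) (trace_twist e g))).symm

theorem eq_one : (a : SL2 → ℂ) 1 = (b : SL2 → ℂ) 1 := by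
  rw [← P.map_left 1, map_one]

theorem eq_neg_one : (a : SL2 → ℂ) (-1) = (b : SL2 → ℂ) (-1) := by
  rw [← P.map_left (-1), twist_neg_one]

/-- The difference at unipotent elements. -/
theorem norm_sq (T : Table D α₀ θ₀ η₁ η₂ χ₁ χ₂) (he : ¬ IsSquare (e : F)) :
    ((a : SL2 → ℂ) (bEl 1 (1 : F) : SL2) - (b : SL2 → ℂ) (bEl 1 (1 : F) : SL2)) *
      conj ((a : SL2 → ℂ) (bEl 1 (1 : F) : SL2) - (b : SL2 → ℂ) (bEl 1 (1 : F) : SL2)) = (Fintype.card F : ℂ) := by
  classical
  let φ : SL2 → ℂ := (a : SL2 → ℂ) - (b : SL2 → ℂ)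
  set x := φ (bEl 1 (1 : F) : SL2) with hx
  show x * conj x = _
  have hφ : IsClassFunction SL2 φ := isClassFunction_sub (irr_isClassFunction a) (irr_isClassFunction b)
  have hn : classInner φ φ = 2 := by
    simp only [φ, classInner_sub_left, classInner_sub_right, classInner_irr, if_pos rfl, if_neg P.ne,
      if_neg P.ne.symm]
    norm_num
  have hodd := D.odd
  rw [classInner_uni_support hodd hφ (by simp [φ, P.eq_one]) (by simp [φ, P.eq_neg_one])
    (fun g hg => by simp [φ, P.eq_of_trace hg.1]) (fun g hg => by simp [φ, P.eq_of_trace hg.trace_ne])] at hn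
  have hswap : ∀ g, φ (twist e g) = -φ g := fun g => by simp [φ, P.map_left, P.map_right]
  have hpos : ∀ b' : F, b' ≠ 0 → φ (bEl 1 b' : SL2) * conj (φ (bEl 1 b' : SL2)) = x * conj x := by
    intro b' hb'
    rw [uni_class T hφ (Or.inl rfl) he hb']
    split_ifs
    · rfl
    · have := hswap (bEl 1 (1 : F) : SL2)
      rw [twist_bEl, mul_one] at this
      rw [this, map_neg, neg_mul_neg]
  obtain ⟨sa, hsa, ea⟩ := CfsgLib.Involutions.irr_central_involution_sign a
    (mem_center_iff.2 (Or.inr rfl)) (Subtype.ext (by simp) : (-1 : SL2) * -1 = 1)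
  obtain ⟨sb, hsb, eb⟩ := CfsgLib.Involutions.irr_central_involution_sign b
    (mem_center_iff.2 (Or.inr rfl)) (Subtype.ext (by simp) : (-1 : SL2) * -1 = 1)
  have hsab : (sb : ℂ) = (sa : ℂ) := by
    have h1 := ea 1
    have h3 := eb 1
    rw [mul_one, P.eq_neg_one, P.eq_one] at h1
    rw [mul_one, h1] at h3
    exact (mul_right_cancel₀ (irr_one_ne_zero b) h3).symm
  have hneg : ∀ b' : F, b' ≠ 0 → φ (bEl (-1) b' : SL2) * conj (φ (bEl (-1) b' : SL2)) = x * conj x := by
    intro b' hb'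
    have key : φ (bEl 1 (-b') : SL2) = (sa : ℂ) * φ (bEl (-1) b' : SL2) := by
      rw [← neg_one_mul_bEl b']
      simp only [φ, Pi.sub_apply, ea, eb, hsab]
      ring
    rw [← hpos (-b') (neg_ne_zero.2 hb'), key, map_mul]
    rcases hsa with rfl | rfl <;> simp
  have hne : (1 : Fˣ) ≠ -1 := fun h => D.torus.two_ne (by
    have := congrArg Units.val h; simp at this; linear_combination this)
  have hz1 : φ (bEl 1 (0 : F) : SL2) = 0 := by
    rw [show (bEl (1 : Fˣ) (0 : F) : SL2) = 1 from Subtype.ext (by simp [Matrix.one_fin_two])]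
    simp [φ, P.eq_one]
  have hz2 : φ (bEl (-1) (0 : F) : SL2) = 0 := by
    rw [show (bEl (-1 : Fˣ) (0 : F) : SL2) = -1 from Subtype.ext (by rw [neg_one_coe]; simp [Matrix.one_fin_two])]
    simp [φ, P.eq_neg_one]
  have s1 : ∑ b' : F, φ (bEl 1 b' : SL2) * conj (φ (bEl 1 b' : SL2)) = ((Fintype.card F : ℂ) - 1) * (x * conj x) := by
    rw [← Finset.add_sum_erase _ _ (Finset.mem_univ (0 : F)), hz1, zero_mul, zero_add,
      Finset.sum_congr rfl fun b' hb' => hpos b' (Finset.ne_of_mem_erase hb'), Finset.sum_const,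
      Finset.card_erase_of_mem (Finset.mem_univ _), Finset.card_univ, nsmul_eq_mul,
      Nat.cast_sub Fintype.card_pos, Nat.cast_one]
  have s2 : ∑ b' : F, φ (bEl (-1) b' : SL2) * conj (φ (bEl (-1) b' : SL2)) = ((Fintype.card F : ℂ) - 1) * (x * conj x) := by
    rw [← Finset.add_sum_erase _ _ (Finset.mem_univ (0 : F)), hz2, zero_mul, zero_add,
      Finset.sum_congr rfl fun b' hb' => hneg b' (Finset.ne_of_mem_erase hb'), Finset.sum_const,
      Finset.card_erase_of_mem (Finset.mem_univ _), Finset.card_univ, nsmul_eq_mul,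
      Nat.cast_sub Fintype.card_pos, Nat.cast_one]
  rw [Finset.sum_pair hne, s1, s2] at hn
  have hq : (Fintype.card F : ℂ) ≠ 0 := Nat.cast_ne_zero.2 Fintype.card_ne_zero
  have hq1 : (Fintype.card F : ℂ) - 1 ≠ 0 := by
    rw [sub_ne_zero]; exact_mod_cast Fintype.one_lt_card.ne'
  field_simp at hn
  linear_combination hn / 2

end Swapped

theorem isClassFunction_ps (α : MulChar F ℂ) : IsClassFunction SL2 (ps α) :=
  isClassFunction_of_isCharacter (isCharacter_ps α)

theorem isClassFunction_dsFun (θ : Subgroup.zpowers c →* ℂˣ) : IsClassFunction SL2 (dsFun D θ) :=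
  isClassFunction_of_isGeneralizedCharacter (isGeneralizedCharacter_dsFun D θ)

theorem ps_twist (D : DSData c h) (e : Fˣ) (α : MulChar F ℂ) : (fun g => ps α (twist e g)) = ps α :=
  comp_twist_eq D.torus.two_ne e (isClassFunction_ps α) fun ε hε b b' hb hb' => by
    rw [ps_bEl_uni α hε hb, ps_bEl_uni α hε hb']

theorem dsFun_uni (D : DSData c h) (θ : Subgroup.zpowers c →* ℂˣ) {ε : Fˣ} (hε : ε = 1 ∨ ε = -1) {b : F}
    (hb : b ≠ 0) : dsFun D θ (bEl ε b : SL2) = -(exists_alpha D θ).choose (ε : F) :=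
  ds_uni D (dsFun_spec D θ) hε hb

theorem dsFun_twist (e : Fˣ) (θ : Subgroup.zpowers c →* ℂˣ) :
    (fun g => dsFun D θ (twist e g)) = dsFun D θ :=
  comp_twist_eq D.torus.two_ne e (isClassFunction_dsFun θ) fun ε hε b b' hb hb' => by
    rw [dsFun_uni D θ hε hb, dsFun_uni D θ hε hb']

theorem steinberg_twist (D : DSData c h) (e : Fˣ) (g : SL2) : steinberg (twist e g) = steinberg g := by
  unfold steinberg
  simp only [Pi.sub_apply]
  rw [congrFun (ps_twist D e 1) g]

set_option maxHeartbeats 800000 in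
/-- Both pairs are interchanged by twisting with a non-square. -/
theorem Table.swapped (T : Table D α₀ θ₀ η₁ η₂ χ₁ χ₂) {e : Fˣ} (he : ¬ IsSquare (e : F)) :
    Swapped e η₁ η₂ ∧ Swapped e χ₁ χ₂ := by
  classical
  have hη := twist_pair e (ps_twist D e α₀) T.eta_ne T.eta_sum
  have hχ := twist_pair e (dsFun_twist e θ₀) T.chi_ne T.chi_sum
  set u : SL2 := (bEl 1 (1 : F) : SL2) with hu
  have hue : twist e u = (bEl 1 (e : F) : SL2) := by rw [hu, twist_bEl, mul_one]
  have hnc : ¬ IsConj u (twist e u) := by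
    rw [hue, hu, isConj_uni_iff (Or.inl rfl) one_ne_zero e.ne_zero, one_mul]; exact he
  have h1 := column_orth u u
  have h2 := column_orth u (twist e u)
  rw [if_pos (IsConj.refl u)] at h1
  rw [if_neg hnc] at h2
  have hbase : ∀ k : IrrCharacter SL2, k ∉ ({η₁, η₂, χ₁, χ₂} : Finset (IrrCharacter SL2)) →
      (k : SL2 → ℂ) (twist e u) = (k : SL2 → ℂ) u := by
    intro k hk
    simp only [Finset.mem_insert, Finset.mem_singleton, not_or] at hk
    rcases T.complete k with e1 | e1 | ⟨α, -, e1⟩ | ⟨θ, -, e1⟩ | e1 | e1 | e1 | e1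
    · rw [e1]
    · rw [e1]; exact steinberg_twist D e u
    · rw [e1]; exact congrFun (ps_twist D e α) u
    · rw [e1]; exact congrFun (dsFun_twist e θ) u
    · exact absurd e1 hk.1
    · exact absurd e1 hk.2.1
    · exact absurd e1 hk.2.2.1
    · exact absurd e1 hk.2.2.2
  let f : IrrCharacter SL2 → ℂ := fun k =>
    (k : SL2 → ℂ) u * conj ((k : SL2 → ℂ) u) - (k : SL2 → ℂ) u * conj ((k : SL2 → ℂ) (twist e u))
  have hf : ∑ k, f k = f η₁ + f η₂ + (f χ₁ + f χ₂) := by
    rw [← Finset.sum_subset (Finset.subset_univ ({η₁, η₂, χ₁, χ₂} : Finset (IrrCharacter SL2)))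
      (fun k _ hk => by simp only [f, hbase k hk, sub_self])]
    obtain ⟨a, b, a', b'⟩ := T.eta_ne_chi
    rw [Finset.sum_insert (by simp [T.eta_ne, a, b]), Finset.sum_insert (by simp [a', b']),
      Finset.sum_pair T.chi_ne]
    ring
  have hcent : (Nat.card (Subgroup.centralizer ({u} : Set SL2)) : ℂ) = 2 * (Fintype.card F : ℂ) := by
    have hset : ∀ g : SL2, g ∈ Subgroup.centralizer ({u} : Set SL2) ↔
        ∃ p : Bool × F, g = (bEl (cond p.1 1 (-1)) p.2 : SL2) := by
      intro g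
      rw [Subgroup.mem_centralizer_singleton_iff, hu]
      constructor
      · intro hg
        have e := coe_comm hg
        rw [bEl_coe] at e
        have e00 := congrFun (congrFun e 0) 0
        have e01 := congrFun (congrFun e 0) 1
        simp [Matrix.mul_apply, Fin.sum_univ_two] at e00 e01
        have hd : ((g : M2)).det = 1 := g.prop
        have hc0 : (g : M2) 1 0 = 0 := e00
        have hda : (g : M2) 1 1 = (g : M2) 0 0 := by linear_combination -e01
        rw [Matrix.det_fin_two, hc0, mul_zero, sub_zero, hda, ← pow_two] at hd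
        rcases sq_eq_one_iff.1 hd with e' | e'
        · exact ⟨(true, (g : M2) 0 1), Subtype.ext (by
            ext i j; fin_cases i <;> fin_cases j <;> simp [hc0, hda, e'])⟩
        · exact ⟨(false, (g : M2) 0 1), Subtype.ext (by
            ext i j; fin_cases i <;> fin_cases j <;> simp [hc0, hda, e'])⟩
      · rintro ⟨⟨t, b⟩, rfl⟩
        refine Subtype.ext ?_
        rw [Matrix.SpecialLinearGroup.coe_mul, Matrix.SpecialLinearGroup.coe_mul, bEl_coe, bEl_coe]
        cases t <;> simp [add_comm]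
    rw [← Nat.card_eq_of_bijective
      (fun p : Bool × F => (⟨(bEl (cond p.1 1 (-1)) p.2 : SL2), (hset _).2 ⟨p, rfl⟩⟩ :
        Subgroup.centralizer ({u} : Set SL2))) ⟨?_, ?_⟩, Nat.card_prod]
    · simp [Nat.card_eq_fintype_card]
    · rintro ⟨t, b⟩ ⟨t', b'⟩ hh
      have hh' := Subtype.ext_iff.1 hh
      have e0 := congrArg (fun g : SL2 => (g : M2) 0 0) hh'
      have e1 := congrArg (fun g : SL2 => (g : M2) 0 1) hh'
      simp at e0 e1
      have h2 := D.torus.two_ne
      cases t <;> cases t' <;> simp at e0 <;> simp [e1] <;>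
        exact h2 (by first | linear_combination e0 | linear_combination -e0)
    · rintro ⟨g, hg⟩
      obtain ⟨p, rfl⟩ := (hset g).1 hg
      exact ⟨p, rfl⟩
  have hS : f η₁ + f η₂ + (f χ₁ + f χ₂) = 2 * (Fintype.card F : ℂ) := by
    rw [← hf]
    simp only [f, Finset.sum_sub_distrib, h1, h2, sub_zero, hcent]
  have hq : (Fintype.card F : ℂ) ≠ 0 := Nat.cast_ne_zero.2 Fintype.card_ne_zero
  have fixed : ∀ a b : IrrCharacter SL2, ((∀ g, (a : SL2 → ℂ) (twist e g) = (a : SL2 → ℂ) g) ∧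
      ∀ g, (b : SL2 → ℂ) (twist e g) = (b : SL2 → ℂ) g) → f a + f b = 0 := by
    rintro a b ⟨ha, hb⟩; simp [f, ha, hb]
  have swap : ∀ a b : IrrCharacter SL2, Swapped e a b → f a + f b = (Fintype.card F : ℂ) := by
    intro a b P
    rw [← P.norm_sq T he]
    simp only [f, P.map_left, P.map_right, map_sub, ← hu]
    ring
  rcases hη with hη | hη <;> rcases hχ with hχ | hχ
  · exact ⟨hη, hχ⟩
  · rw [swap _ _ hη, fixed _ _ hχ] at hS; exact absurd (by linear_combination -hS) hq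
  · rw [fixed _ _ hη, swap _ _ hχ] at hS; exact absurd (by linear_combination -hS) hq
  · rw [fixed _ _ hη, fixed _ _ hχ] at hS; exact absurd (by linear_combination -hS / 2) hq

/-- The square of the difference of a swapped pair at a transvection. -/
theorem Swapped.diff_sq {e : Fˣ} {a b : IrrCharacter SL2} (P : Swapped e a b)
    (T : Table D α₀ θ₀ η₁ η₂ χ₁ χ₂) (he : ¬ IsSquare (e : F)) :
    ((a : SL2 → ℂ) (bEl 1 (1 : F) : SL2) - (b : SL2 → ℂ) (bEl 1 (1 : F) : SL2)) ^ 2 =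
      α₀ (-1) * (Fintype.card F : ℂ) := by
  have hn := P.norm_sq T he
  set φ : SL2 → ℂ := (a : SL2 → ℂ) - (b : SL2 → ℂ) with hφ'
  have hφ : IsClassFunction SL2 φ := isClassFunction_sub (irr_isClassFunction a) (irr_isClassFunction b)
  set x := φ (bEl 1 (1 : F) : SL2) with hx
  change x * conj x = _ at hn
  show x ^ 2 = _
  have hconj : conj x = α₀ (-1) * x := by
    have h1 : conj x = φ (bEl 1 (-1 : F) : SL2) := by
      rw [← bEl_inv_of_unit (Or.inl rfl), hx]
      simp only [φ, Pi.sub_apply, map_sub, irr_apply_inv]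
    rw [h1, uni_class T hφ (Or.inl rfl) he (neg_ne_zero.2 one_ne_zero)]
    split_ifs with hs
    · rw [hs, one_mul]
    · have hns : ¬ IsSquare (-1 : F) := fun h => hs (T.alpha0_of_isSquare (neg_ne_zero.2 one_ne_zero) h)
      rw [T.alpha0_of_not_isSquare hns, neg_one_mul]
      have : φ (twist e (bEl 1 (1 : F) : SL2)) = -x := by simp [φ, hx, P.map_left, P.map_right]
      rwa [twist_bEl, mul_one] at this
  rw [hconj] at hn
  have hs : α₀ (-1) * α₀ (-1) = 1 := by rw [← map_mul]; simp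
  linear_combination α₀ (-1) * hn - x ^ 2 * hs

theorem Table.eta_hyp (T : Table D α₀ θ₀ η₁ η₂ χ₁ χ₂) {η : IrrCharacter SL2} (hη : η = η₁ ∨ η = η₂)
    {a : Fˣ} (ha : (a : F) ^ 2 ≠ 1) : (η : SL2 → ℂ) (slDiag a) = α₀ (a : F) := by
  obtain ⟨e, he⟩ := exists_nonsquare_unit D.odd
  have hy := bEl_hyp (0 : F) ha
  have heq := (T.swapped he).1.eq_of_trace (g := (slDiag a : SL2)) (by rw [slDiag_eq_bEl]; exact hy.1)
  have hs := congrFun T.eta_sum (slDiag a)
  rw [slDiag_eq_bEl, ps_bEl_hyp α₀ 0 ha, ← slDiag_eq_bEl, Pi.add_apply, heq] at hs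
  have hinv : α₀ (a : F)⁻¹ = α₀ (a : F) := by
    rw [← MulChar.inv_apply', ← mulChar_sq_eq_one_iff.1 ((T.alpha_sq α₀).2 (Or.inr rfl))]
  rcases hη with rfl | rfl
  · rw [heq]; linear_combination -hs / 2 + hinv / 2
  · linear_combination -hs / 2 + hinv / 2

theorem Table.eta_noRoot (T : Table D α₀ θ₀ η₁ η₂ χ₁ χ₂) {η : IrrCharacter SL2} (hη : η = η₁ ∨ η = η₂)
    {g : SL2} (hg : NoRoot (g : M2)) : (η : SL2 → ℂ) g = 0 := by
  obtain ⟨e, he⟩ := exists_nonsquare_unit D.odd
  have heq := (T.swapped he).1.eq_of_trace hg.trace_ne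
  have hs := congrFun T.eta_sum g
  rw [ps_noRoot α₀ hg, Pi.add_apply, heq] at hs
  rcases hη with rfl | rfl
  · rw [heq]; linear_combination -hs / 2
  · linear_combination -hs / 2

theorem Table.chi_hyp (T : Table D α₀ θ₀ η₁ η₂ χ₁ χ₂) {χ : IrrCharacter SL2} (hχ : χ = χ₁ ∨ χ = χ₂)
    {g : SL2} (hg : Hyp (g : M2)) : (χ : SL2 → ℂ) g = 0 := by
  obtain ⟨e, he⟩ := exists_nonsquare_unit D.odd
  have heq := (T.swapped he).2.eq_of_trace hg.1
  have hs := congrFun T.chi_sum g
  rw [show dsFun D θ₀ g = 0 from ds_hyp D (dsFun_spec D θ₀) hg, Pi.add_apply, heq] at hs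
  rcases hχ with rfl | rfl
  · rw [heq]; linear_combination -hs / 2
  · linear_combination -hs / 2

theorem dsFun_torus (θ : Subgroup.zpowers c →* ℂˣ) (x : Subgroup.zpowers c)
    (h1 : (x : SL2) ≠ 1) (hn : (x : SL2) ≠ -1) :
    dsFun D θ (x : SL2) = -((θ x : ℂ) + (θ x : ℂ)⁻¹) :=
  ds_torus D (dsFun_spec D θ) x h1 hn

theorem Table.chi_torus (T : Table D α₀ θ₀ η₁ η₂ χ₁ χ₂) {χ : IrrCharacter SL2} (hχ : χ = χ₁ ∨ χ = χ₂)
    (x : Subgroup.zpowers c) (h1 : (x : SL2) ≠ 1) (hn : (x : SL2) ≠ -1) :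
    (χ : SL2 → ℂ) x = -(θ₀ x : ℂ) := by
  obtain ⟨e, he⟩ := exists_nonsquare_unit D.odd
  have hg := noRoot_of_mem_torus D.torus D.noRoot x.2 h1 hn
  have heq := (T.swapped he).2.eq_of_trace hg.trace_ne
  have hs := congrFun T.chi_sum (x : SL2)
  have hinv : (θ₀ x : ℂ)⁻¹ = (θ₀ x : ℂ) := by
    have h2 := DFunLike.congr_fun ((T.theta_sq θ₀).2 (Or.inr rfl)) x
    rw [MonoidHom.pow_apply, MonoidHom.one_apply] at h2
    refine inv_eq_of_mul_eq_one_right ?_
    rw [← Units.val_mul, ← pow_two, h2, Units.val_one]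
  rw [dsFun_torus θ₀ x h1 hn, hinv, Pi.add_apply, heq] at hs
  rcases hχ with rfl | rfl
  · rw [heq]; linear_combination -hs / 2
  · linear_combination -hs / 2

theorem Table.eta_uni_sum (T : Table D α₀ θ₀ η₁ η₂ χ₁ χ₂) {b : F} (hb : b ≠ 0) :
    (η₁ : SL2 → ℂ) (bEl 1 b : SL2) + (η₂ : SL2 → ℂ) (bEl 1 b : SL2) = 1 := by
  have hs := congrFun T.eta_sum (bEl 1 b : SL2)
  rw [ps_bEl_uni α₀ (Or.inl rfl) hb, Units.val_one, map_one] at hs
  exact hs.symm

theorem Table.chi_uni_sum (T : Table D α₀ θ₀ η₁ η₂ χ₁ χ₂) {b : F} (hb : b ≠ 0) :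
    (χ₁ : SL2 → ℂ) (bEl 1 b : SL2) + (χ₂ : SL2 → ℂ) (bEl 1 b : SL2) = -1 := by
  have hs := congrFun T.chi_sum (bEl 1 b : SL2)
  rw [dsFun_uni D θ₀ (Or.inl rfl) hb, Units.val_one, map_one] at hs
  exact hs.symm

/-- The values at a transvection. -/
theorem Table.halves_uni_sq (T : Table D α₀ θ₀ η₁ η₂ χ₁ χ₂) :
    (∀ η, η = η₁ ∨ η = η₂ → (2 * (η : SL2 → ℂ) (bEl 1 (1 : F) : SL2) - 1) ^ 2 = α₀ (-1) * (Fintype.card F : ℂ)) ∧
    ∀ χ, χ = χ₁ ∨ χ = χ₂ → (2 * (χ : SL2 → ℂ) (bEl 1 (1 : F) : SL2) + 1) ^ 2 = α₀ (-1) * (Fintype.card F : ℂ) := by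
  obtain ⟨e, he⟩ := exists_nonsquare_unit D.odd
  have se := T.eta_uni_sum (b := 1) one_ne_zero
  have sc := T.chi_uni_sum (b := 1) one_ne_zero
  have de := (T.swapped he).1.diff_sq T he
  have dc := (T.swapped he).2.diff_sq T he
  set x := (η₁ : SL2 → ℂ) (bEl 1 (1 : F) : SL2)
  set y := (η₂ : SL2 → ℂ) (bEl 1 (1 : F) : SL2)
  set x' := (χ₁ : SL2 → ℂ) (bEl 1 (1 : F) : SL2)
  set y' := (χ₂ : SL2 → ℂ) (bEl 1 (1 : F) : SL2)
  refine ⟨?_, ?_⟩ <;> rintro η (rfl | rfl)
  · linear_combination de + (3 * x - y - 1) * se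
  · linear_combination de + (3 * y - x - 1) * se
  · linear_combination dc + (3 * x' - y' + 1) * sc
  · linear_combination dc + (3 * y' - x' + 1) * sc

end CfsgLib.SL2Char
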