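import Cfsg.Agent.Lib.SL2Char.Values
import Cfsg.Agent.Lib.SL2Char.OrderP

/-!
A cyclic subgroup of order `q + 1` of `SL_2(q)` is a non-split torus.
-/

set_option autoImplicit false

namespace CfsgLib.SL2Char

open Matrix Cfsg
open CfsgLib.SL2Tori CfsgLib.Schur

variable {F : Type*} [Field F] [Fintype F] [DecidableEq F]

local notation "SL2" => Matrix.SpecialLinearGroup (Fin 2) F
local notation "M2" => Matrix (Fin 2) (Fin 2) F

theorem orderOf_conj_eq {g k : SL2} (h : IsConj g k) : orderOf g = orderOf k := by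
  obtain ⟨n, rfl⟩ := isConj_iff.1 h
  exact (MulEquiv.orderOf_eq (MulAut.conj n) g).symm

theorem noRoot_of_orderOf (hodd : Odd (Fintype.card F)) {g : SL2} (hg : orderOf g = Fintype.card F + 1) :
    NoRoot (g : M2) := by
  have h2 := two_ne_of_odd (F := F) hodd
  have hq : 3 ≤ Fintype.card F := by
    have := Fintype.one_lt_card (α := F); rw [Nat.odd_iff] at hodd; omega
  rcases element_cases h2 g with rfl | rfl | hy | hn | ⟨ε, b, hε, -, hc⟩
  · rw [orderOf_one] at hg; omega
  · have := orderOf_le_of_pow_eq_one (x := (-1 : SL2)) two_pos neg_one_sq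
    omega
  · exfalso
    obtain ⟨a, -, hc⟩ := exists_diag_of_hyp h2 hy
    rw [orderOf_conj_eq hc, orderOf_injective slDiag slDiag_injective] at hg
    have := hg ▸ orderOf_le_card (x := a)
    rw [Nat.card_units, Nat.card_eq_fintype_card] at this
    omega
  · exact hn
  · exfalso
    obtain ⟨p, hp⟩ := CharP.exists F
    obtain ⟨n, hn⟩ := FiniteField.card F p
    have : Fact p.Prime := ⟨hn.1⟩
    have hsq : (bEl ε b : SL2) ^ (2 * p) = 1 := by
      have e1 : ∀ x : F, (bEl (1 : Fˣ) x : SL2) ^ p = 1 := fun x => by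
        rw [bEl_one_pow, CharP.cast_eq_zero, zero_mul, bEl_one_zero]
      rcases hε with rfl | rfl
      · rw [mul_comm, pow_mul, e1, one_pow]
      · have e2 : (bEl (-1) b : SL2) ^ 2 = (bEl (1 : Fˣ) (-b) : SL2) ^ 2 := by
          rw [← neg_one_mul_bEl b, Commute.mul_pow (show Commute (-1 : SL2) _ from (neg_one_central _).symm),
            neg_one_sq, one_mul]
        rw [pow_mul, e2, ← pow_mul, mul_comm, pow_mul, e1, one_pow]
    have hdvd : Fintype.card F + 1 ∣ 2 * p := hg ▸ orderOf_conj_eq hc ▸ orderOf_dvd_of_pow_eq_one hsq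
    have hco : Nat.Coprime (Fintype.card F + 1) p := by
      rw [Nat.coprime_comm, Nat.Prime.coprime_iff_not_dvd hn.1]
      intro hd
      have hpq : p ∣ Fintype.card F := hn.2 ▸ dvd_pow_self p n.ne_zero
      exact hn.1.one_lt.ne' (Nat.dvd_one.1 ((Nat.dvd_add_right hpq).1 hd))
    have := Nat.le_of_dvd two_pos (hco.dvd_of_dvd_mul_right hdvd)
    omega

/-- A cyclic subgroup of order `q + 1` is generated by a `DSData` element. -/
theorem exists_dsData_of_cyclic (hodd : Odd (Fintype.card F)) {C : Subgroup SL2} (hC : IsCyclic C)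
    (hcard : Nat.card C = Fintype.card F + 1) :
    ∃ (c : SL2) (h : ℕ), DSData c h ∧ C = Subgroup.zpowers c := by
  obtain ⟨c, h, D⟩ := exists_dsData hodd
  obtain ⟨g, hgen⟩ := hC.exists_generator
  have ho : orderOf (g : SL2) = Fintype.card F + 1 := by
    rw [Subgroup.orderOf_coe, orderOf_eq_card_of_forall_mem_zpowers hgen, hcard]
  obtain ⟨n, hn⟩ := exists_conj_mem_nonsplit D.torus D.noRoot (noRoot_of_orderOf hodd ho)
  have T' := TorusGen.conj D.torus n⁻¹
  refine ⟨n⁻¹ * c * n⁻¹⁻¹, h, ⟨T', noRoot_conj.2 D.noRoot, D.card_eq⟩, ?_⟩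
  have hle : C ≤ Subgroup.zpowers (n⁻¹ * c * n⁻¹⁻¹) := by
    intro x hx
    obtain ⟨i, hi⟩ := Subgroup.mem_zpowers_iff.1 (hgen ⟨x, hx⟩)
    rw [show x = (g : SL2) ^ i from (congrArg Subtype.val hi).symm.trans (Subgroup.coe_zpow _ _ _)]
    refine Subgroup.zpow_mem _ (TorusGen.mem_zpowers_conj ?_) i
    rwa [inv_inv]
  refine SetLike.coe_injective (Set.eq_of_subset_of_ncard_le hle ?_ (Set.toFinite _))
  rw [← Nat.card_coe_set_eq, ← Nat.card_coe_set_eq]
  show Nat.card (Subgroup.zpowers (n⁻¹ * c * n⁻¹⁻¹)) ≤ Nat.card C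
  rw [T'.card_torus, hcard, D.card_eq]

end CfsgLib.SL2Char
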