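import Cfsg.Agent.Lib.SL2Char.Degrees

/-!
Consequences of the table stated for matrices given by their entries.
-/

set_option autoImplicit false

namespace CfsgLib.SL2Char

open Matrix Cfsg
open CfsgLib.SL2Tori CfsgLib.Schur CfsgLib.Characters
open scoped ComplexConjugate

variable {F : Type*} [Field F]

local notation "SL2" => Matrix.SpecialLinearGroup (Fin 2) F
local notation "M2" => Matrix (Fin 2) (Fin 2) F

/-- A diagonal element as `slDiag`. -/
theorem exists_slDiag {g : SL2} (h01 : (g : M2) 0 1 = 0) (h10 : (g : M2) 1 0 = 0) :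
    ∃ a : Fˣ, (a : F) = (g : M2) 0 0 ∧ g = slDiag a := by
  have hd : ((g : M2)).det = 1 := g.prop
  rw [Matrix.det_fin_two, h01, zero_mul, sub_zero] at hd
  refine ⟨Units.mk0 _ (left_ne_zero_of_mul_eq_one hd), rfl, Subtype.ext ?_⟩
  rw [slDiag_coe]
  ext i j
  fin_cases i <;> fin_cases j <;> simp [h01, h10]
  exact eq_inv_of_mul_eq_one_right hd

/-- An upper triangular element with equal diagonal entries as `bEl ε b`. -/
theorem exists_bEl_uni {g : SL2} (h10 : (g : M2) 1 0 = 0) (he : (g : M2) 0 0 = (g : M2) 1 1) :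
    ∃ ε : Fˣ, (ε = 1 ∨ ε = -1) ∧ (ε : F) = (g : M2) 0 0 ∧ g = (bEl ε ((g : M2) 0 1) : SL2) := by
  have hd : ((g : M2)).det = 1 := g.prop
  rw [Matrix.det_fin_two, h10, mul_zero, sub_zero, ← he, ← pow_two] at hd
  obtain ⟨ε, hε, hε'⟩ : ∃ ε : Fˣ, (ε = 1 ∨ ε = -1) ∧ (ε : F) = (g : M2) 0 0 := by
    rcases sq_eq_one_iff.1 hd with e | e
    · exact ⟨1, Or.inl rfl, by simp [e]⟩
    · exact ⟨-1, Or.inr rfl, by simp [e]⟩
  refine ⟨ε, hε, hε', Subtype.ext ?_⟩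
  rw [bEl_coe]
  have hinv : ((ε⁻¹ : Fˣ) : F) = (g : M2) 1 1 := by
    rw [← he, ← hε']; rcases hε with rfl | rfl <;> simp
  ext i j
  fin_cases i <;> fin_cases j <;> simp [h10, hε', hinv]

/-- An upper unitriangular element as `bEl 1 b`. -/
theorem eq_bEl_one {g : SL2} (h10 : (g : M2) 1 0 = 0) (h00 : (g : M2) 0 0 = 1) (h11 : (g : M2) 1 1 = 1) :
    g = (bEl (1 : Fˣ) ((g : M2) 0 1) : SL2) := by
  refine Subtype.ext ?_
  rw [bEl_coe]
  ext i j
  fin_cases i <;> fin_cases j <;> simp [h10, h00, h11]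

theorem uni_eq_bEl {u : SL2} (hu : (u : M2) = !![1, 1; 0, 1]) : u = (bEl (1 : Fˣ) (1 : F) : SL2) := by
  refine Subtype.ext ?_
  rw [hu, bEl_coe]
  simp

variable [Fintype F] [DecidableEq F]
variable {c : Matrix.SpecialLinearGroup (Fin 2) F} {h : ℕ} {D : DSData c h}
variable {α₀ : MulChar F ℂ} {θ₀ : Subgroup.zpowers c →* ℂˣ}
variable {η₁ η₂ χ₁ χ₂ : IrrCharacter (Matrix.SpecialLinearGroup (Fin 2) F)}

theorem Table.alpha0_neg_eq (T : Table D α₀ θ₀ η₁ η₂ χ₁ χ₂) :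
    α₀ (-1) = (-1 : ℂ) ^ ((Fintype.card F - 1) / 2) := by
  have := D.card_eq
  have := D.torus.two_le
  obtain ⟨r, hr⟩ : ∃ r, h = r + 1 := ⟨h - 1, by omega⟩
  rw [T.alpha_neg, show (Fintype.card F - 1) / 2 = r by omega, hr, pow_succ]
  ring

/-- The sum over the unitriangular matrices. -/
theorem sum_unipotent (φ : SL2 → ℂ) :
    (∑ g : SL2, if (g : M2) 1 0 = 0 ∧ (g : M2) 0 0 = 1 ∧ (g : M2) 1 1 = 1 then φ g else 0) =
      ∑ b : F, φ (bEl (1 : Fˣ) b : SL2) := by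
  rw [← Finset.sum_filter]
  refine (Finset.sum_bij (fun b _ => (bEl (1 : Fˣ) b : SL2)) ?_ ?_ ?_ fun b _ => rfl).symm
  · intro b _
    simp
  · intro a _ b _ e
    simpa using congrArg (fun g : SL2 => (g : M2) 0 1) e
  · intro g hg
    simp only [Finset.mem_filter, Finset.mem_univ, true_and] at hg
    exact ⟨(g : M2) 0 1, Finset.mem_univ _, (eq_bEl_one hg.1 hg.2.1 hg.2.2).symm⟩

theorem bEl_one_zero : (bEl (1 : Fˣ) (0 : F) : SL2) = 1 := Subtype.ext (by simp [Matrix.one_fin_two])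

omit [Fintype F] [DecidableEq F] in
theorem bEl_one_one_twist (e : Fˣ) : twist e (bEl (1 : Fˣ) (1 : F) : SL2) = (bEl (1 : Fˣ) (e : F) : SL2) := by
  rw [twist_bEl, mul_one]

/-- A half-degree character on the unitriangular matrices sums to its degree plus `(q-1)/2` times the pair sum. -/
theorem Table.half_uni_sum (T : Table D α₀ θ₀ η₁ η₂ χ₁ χ₂) {e : Fˣ} (he : ¬ IsSquare (e : F))
    {a b : IrrCharacter SL2} (P : Swapped e a b) :
    2 * ∑ x : F, (a : SL2 → ℂ) (bEl (1 : Fˣ) x : SL2) = 2 * (a : SL2 → ℂ) 1 +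
      ((Fintype.card F : ℂ) - 1) *
        ((a : SL2 → ℂ) (bEl (1 : Fˣ) (1 : F) : SL2) + (b : SL2 → ℂ) (bEl (1 : Fˣ) (1 : F) : SL2)) := by
  classical
  set A := fun x : F => (a : SL2 → ℂ) (bEl (1 : Fˣ) x : SL2) with hA
  have h2 : ∑ x : F, A x = ∑ x : F, A ((e : F) * x) :=
    (Equiv.sum_comp (Equiv.mulLeft₀ (e : F) e.ne_zero) A).symm
  have hpair : ∀ x : F, x ≠ 0 → A x + A ((e : F) * x) =
      (a : SL2 → ℂ) (bEl (1 : Fˣ) (1 : F) : SL2) + (b : SL2 → ℂ) (bEl (1 : Fˣ) (1 : F) : SL2) := by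
    intro x hx
    have hb : (a : SL2 → ℂ) (bEl (1 : Fˣ) ((e : F) * x) : SL2) = (b : SL2 → ℂ) (bEl (1 : Fˣ) x : SL2) := by
      rw [← P.map_left, twist_bEl]
    simp only [hA, hb]
    rw [uni_class T (irr_isClassFunction a) (Or.inl rfl) he hx,
      uni_class T (irr_isClassFunction b) (Or.inl rfl) he hx]
    split_ifs
    · rfl
    · rw [← bEl_one_one_twist, P.map_left, P.map_right]
      ring
  rw [two_mul (∑ x : F, A x)]
  nth_rw 2 [h2]
  rw [← Finset.sum_add_distrib, ← Finset.add_sum_erase _ _ (Finset.mem_univ (0 : F)),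
    Finset.sum_congr rfl fun x hx => hpair x (Finset.ne_of_mem_erase hx), Finset.sum_const,
    Finset.card_erase_of_mem (Finset.mem_univ _), Finset.card_univ, nsmul_eq_mul,
    Nat.cast_sub Fintype.card_pos, Nat.cast_one, hA]
  simp only [mul_zero, bEl_one_zero]
  ring

theorem steinberg_uni {b : F} (hb : b ≠ 0) : steinberg (bEl (1 : Fˣ) b : SL2) = 0 := by
  simp [steinberg, ps_bEl_uni 1 (Or.inl rfl) hb]

theorem sum_uni_const {φ : SL2 → ℂ} {v : ℂ} (hv : ∀ b : F, b ≠ 0 → φ (bEl (1 : Fˣ) b : SL2) = v) :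
    ∑ b : F, φ (bEl (1 : Fˣ) b : SL2) = φ 1 + ((Fintype.card F : ℂ) - 1) * v := by
  rw [← Finset.add_sum_erase _ _ (Finset.mem_univ (0 : F)), bEl_one_zero,
    Finset.sum_congr rfl fun x hx => hv x (Finset.ne_of_mem_erase hx), Finset.sum_const,
    Finset.card_erase_of_mem (Finset.mem_univ _), Finset.card_univ, nsmul_eq_mul,
    Nat.cast_sub Fintype.card_pos, Nat.cast_one]

end CfsgLib.SL2Char

namespace CfsgLib.SL2Char

open Matrix Cfsg
open CfsgLib.SL2Tori CfsgLib.Schur CfsgLib.Characters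

variable {F : Type*} [Field F] [Fintype F] [DecidableEq F]
variable {c : Matrix.SpecialLinearGroup (Fin 2) F} {h : ℕ} {D : DSData c h}
variable {α₀ : MulChar F ℂ} {θ₀ : Subgroup.zpowers c →* ℂˣ}
variable {η₁ η₂ χ₁ χ₂ : IrrCharacter (Matrix.SpecialLinearGroup (Fin 2) F)}

local notation "SL2" => Matrix.SpecialLinearGroup (Fin 2) F
local notation "M2" => Matrix (Fin 2) (Fin 2) F

/-- The values of the discrete halves at an elliptic element. -/
theorem Table.chi_noRoot (T : Table D α₀ θ₀ η₁ η₂ χ₁ χ₂) {χ : IrrCharacter SL2} (hχ : χ = χ₁ ∨ χ = χ₂)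
    {g : SL2} (hg : NoRoot (g : M2)) : (χ : SL2 → ℂ) g = if g ^ h = 1 then -1 else 1 := by
  obtain ⟨n, hn⟩ := exists_conj_mem_nonsplit D.torus D.noRoot hg
  have hg' : NoRoot ((n * g * n⁻¹ : SL2) : M2) := noRoot_conj.2 hg
  have hx1 : (n * g * n⁻¹ : SL2) ≠ 1 := fun e => hg'.trace_ne (by rw [e]; simp; norm_num)
  have hxn : (n * g * n⁻¹ : SL2) ≠ -1 := fun e => hg'.trace_ne (by rw [e, neg_one_coe]; simp; norm_num)
  rw [classFunction_eq_of_isConj (irr_isClassFunction χ) (isConj_iff.2 ⟨n, rfl⟩ : IsConj g (n * g * n⁻¹)),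
    show (n * g * n⁻¹ : SL2) = ((⟨n * g * n⁻¹, hn⟩ : Subgroup.zpowers c) : SL2) from rfl,
    T.chi_torus hχ ⟨n * g * n⁻¹, hn⟩ hx1 hxn]
  obtain ⟨i, hi⟩ := Subgroup.mem_zpowers_iff.1 hn
  have hz : (⟨n * g * n⁻¹, hn⟩ : Subgroup.zpowers c) = (⟨c, Subgroup.mem_zpowers c⟩ : Subgroup.zpowers c) ^ i :=
    Subtype.ext (by rw [Subgroup.coe_zpow]; exact hi.symm)
  rw [hz, map_zpow, Units.val_zpow_eq_zpow_val, theta0_gen D T.theta_ne ((T.theta_sq θ₀).2 (Or.inr rfl))]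
  have hgh : g ^ h = 1 ↔ (-1 : SL2) ^ i = 1 := by
    rw [← conj_eq_one_iff (a := n), ← conj_pow, ← hi, ← zpow_natCast, ← _root_.zpow_mul, mul_comm,
      _root_.zpow_mul, zpow_natCast, TorusGen.pow_h_eq D.torus]
  simp only [hgh]
  rcases Int.even_or_odd i with hi' | hi'
  · rw [if_pos hi'.neg_one_zpow, hi'.neg_one_zpow]
  · rw [if_neg (by rw [hi'.neg_one_zpow]; exact neg_one_ne_one D.torus.two_ne), hi'.neg_one_zpow, neg_neg]

end CfsgLib.SL2Char
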