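import Cfsg.Agent.Lib.SL2Char.Halves
import Cfsg.Agent.Lib.Characters.LinearTwist

/-!
Degrees of the irreducible characters of `SL_2(q)`, `q` odd, and identification by degree.
-/

set_option autoImplicit false

namespace CfsgLib.SL2Char

open Matrix Cfsg
open CfsgLib.SL2Tori CfsgLib.Schur CfsgLib.Characters
open scoped ComplexConjugate

variable {F : Type*} [Field F] [Fintype F] [DecidableEq F]
variable {c : Matrix.SpecialLinearGroup (Fin 2) F} {h : ℕ} {D : DSData c h}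
variable {α₀ : MulChar F ℂ} {θ₀ : Subgroup.zpowers c →* ℂˣ}
variable {η₁ η₂ χ₁ χ₂ : IrrCharacter (Matrix.SpecialLinearGroup (Fin 2) F)}

local notation "SL2" => Matrix.SpecialLinearGroup (Fin 2) F
local notation "M2" => Matrix (Fin 2) (Fin 2) F

theorem apply_one_iff_charDegree {G : Type*} [Group G] (χ : IrrCharacter G) (n : ℕ) :
    (χ : G → ℂ) 1 = (n : ℂ) ↔ charDegree (χ : G → ℂ) = n := by
  rw [CfsgLib.LinearTwist.apply_one_eq_charDegree (irr_isCharacter χ), Nat.cast_inj]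

theorem apply_one_iff_succ {G : Type*} [Group G] (χ : IrrCharacter G) (n : ℕ) :
    (χ : G → ℂ) 1 = (n : ℂ) + 1 ↔ charDegree (χ : G → ℂ) = n + 1 := by
  rw [← apply_one_iff_charDegree, Nat.cast_add, Nat.cast_one]

theorem apply_one_iff_pred {G : Type*} [Group G] (χ : IrrCharacter G) {n : ℕ} (hn : 1 ≤ n) :
    (χ : G → ℂ) 1 = (n : ℂ) - 1 ↔ charDegree (χ : G → ℂ) = n - 1 := by
  rw [← apply_one_iff_charDegree, Nat.cast_sub hn, Nat.cast_one]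

namespace Table

variable (T : Table D α₀ θ₀ η₁ η₂ χ₁ χ₂)
include T

theorem three_le : 3 ≤ Fintype.card F := by
  have := D.torus.two_le; have := D.card_eq; omega

/-- The shape of an irreducible character with its degree. -/
theorem deg_cases (χ : IrrCharacter SL2) :
    ((χ : SL2 → ℂ) = (fun _ => 1) ∧ charDegree (χ : SL2 → ℂ) = 1) ∨
    ((χ : SL2 → ℂ) = steinberg ∧ charDegree (χ : SL2 → ℂ) = Fintype.card F) ∨
    ((∃ α : MulChar F ℂ, α ^ 2 ≠ 1 ∧ (χ : SL2 → ℂ) = ps α) ∧ charDegree (χ : SL2 → ℂ) = Fintype.card F + 1) ∨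
    ((∃ θ : Subgroup.zpowers c →* ℂˣ, θ ^ 2 ≠ 1 ∧ (χ : SL2 → ℂ) = dsFun D θ) ∧
      charDegree (χ : SL2 → ℂ) = Fintype.card F - 1) ∨
    ((χ = η₁ ∨ χ = η₂) ∧ 2 * charDegree (χ : SL2 → ℂ) = Fintype.card F + 1) ∨
    ((χ = χ₁ ∨ χ = χ₂) ∧ 2 * charDegree (χ : SL2 → ℂ) + 1 = Fintype.card F) := by
  rcases T.complete χ with e | e | ⟨α, hα, e⟩ | ⟨θ, hθ, e⟩ | e | e | e | e
  · exact Or.inl ⟨e, (apply_one_iff_charDegree χ 1).1 (by simp [e])⟩
  · exact Or.inr (Or.inl ⟨e, (apply_one_iff_charDegree χ _).1 (by rw [e, steinberg_one])⟩)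
  · exact Or.inr (Or.inr (Or.inl ⟨⟨α, hα, e⟩, (apply_one_iff_succ χ _).1 (by rw [e, ps_one])⟩))
  · exact Or.inr (Or.inr (Or.inr (Or.inl ⟨⟨θ, hθ, e⟩,
      (apply_one_iff_pred χ Fintype.card_pos).1 (by rw [e, dsFun_one])⟩)))
  · exact Or.inr (Or.inr (Or.inr (Or.inr (Or.inl ⟨Or.inl e, e ▸ T.eta_deg₁⟩))))
  · exact Or.inr (Or.inr (Or.inr (Or.inr (Or.inl ⟨Or.inr e, e ▸ T.eta_deg₂⟩))))
  · exact Or.inr (Or.inr (Or.inr (Or.inr (Or.inr ⟨Or.inl e, e ▸ T.chi_deg₁⟩))))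
  · exact Or.inr (Or.inr (Or.inr (Or.inr (Or.inr ⟨Or.inr e, e ▸ T.chi_deg₂⟩))))

theorem eq_one_iff (hq : 5 ≤ Fintype.card F) (χ : IrrCharacter SL2) :
    (χ : SL2 → ℂ) 1 = 1 ↔ (χ : SL2 → ℂ) = fun _ => 1 := by
  refine ⟨fun hd => ?_, fun e => by rw [e]⟩
  rw [show (1 : ℂ) = ((1 : ℕ) : ℂ) from Nat.cast_one.symm, apply_one_iff_charDegree] at hd
  rcases T.deg_cases χ with ⟨e, -⟩ | ⟨-, d⟩ | ⟨-, d⟩ | ⟨-, d⟩ | ⟨-, d⟩ | ⟨-, d⟩ <;>
    first | exact e | omega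

theorem deg_q_iff (χ : IrrCharacter SL2) :
    (χ : SL2 → ℂ) 1 = (Fintype.card F : ℂ) ↔ (χ : SL2 → ℂ) = steinberg := by
  refine ⟨fun hd => ?_, fun e => by rw [e, steinberg_one]⟩
  rw [apply_one_iff_charDegree] at hd
  have := T.three_le
  rcases T.deg_cases χ with ⟨-, d⟩ | ⟨e, -⟩ | ⟨-, d⟩ | ⟨-, d⟩ | ⟨-, d⟩ | ⟨-, d⟩ <;>
    first | exact e | omega

theorem deg_succ_iff (χ : IrrCharacter SL2) :
    (χ : SL2 → ℂ) 1 = (Fintype.card F : ℂ) + 1 ↔ ∃ α : MulChar F ℂ, α ^ 2 ≠ 1 ∧ (χ : SL2 → ℂ) = ps α := by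
  refine ⟨fun hd => ?_, fun ⟨α, _, e⟩ => by rw [e, ps_one]⟩
  rw [apply_one_iff_succ] at hd
  have := T.three_le
  rcases T.deg_cases χ with ⟨-, d⟩ | ⟨-, d⟩ | ⟨e, -⟩ | ⟨-, d⟩ | ⟨-, d⟩ | ⟨-, d⟩ <;>
    first | exact e | omega

/-- Degree `q - 1`, allowing for the coincidence at `q = 3`. -/
theorem deg_pred_cases (χ : IrrCharacter SL2) (hd : (χ : SL2 → ℂ) 1 = (Fintype.card F : ℂ) - 1) :
    (∃ θ : Subgroup.zpowers c →* ℂˣ, θ ^ 2 ≠ 1 ∧ (χ : SL2 → ℂ) = dsFun D θ) ∨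
      (Fintype.card F = 3 ∧ (χ = η₁ ∨ χ = η₂)) := by
  rw [apply_one_iff_pred χ Fintype.card_pos] at hd
  have := T.three_le
  rcases T.deg_cases χ with ⟨-, d⟩ | ⟨-, d⟩ | ⟨-, d⟩ | ⟨e, -⟩ | ⟨e, d⟩ | ⟨-, d⟩ <;>
    first | exact Or.inl e | exact Or.inr ⟨by omega, e⟩ | omega

theorem deg_pred_iff (hq : 5 ≤ Fintype.card F) (χ : IrrCharacter SL2) :
    (χ : SL2 → ℂ) 1 = (Fintype.card F : ℂ) - 1 ↔
      ∃ θ : Subgroup.zpowers c →* ℂˣ, θ ^ 2 ≠ 1 ∧ (χ : SL2 → ℂ) = dsFun D θ := by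
  refine ⟨fun hd => ?_, fun ⟨θ, _, e⟩ => by rw [e, dsFun_one]⟩
  exact (T.deg_pred_cases χ hd).resolve_right fun e => by omega

/-- Degree `(q + 1)/2`, allowing for the coincidence at `q = 3`. -/
theorem deg_half_succ_cases (χ : IrrCharacter SL2)
    (hd : (χ : SL2 → ℂ) 1 = (((Fintype.card F + 1) / 2 : ℕ) : ℂ)) :
    (χ = η₁ ∨ χ = η₂) ∨ (Fintype.card F = 3 ∧
      ∃ θ : Subgroup.zpowers c →* ℂˣ, θ ^ 2 ≠ 1 ∧ (χ : SL2 → ℂ) = dsFun D θ) := by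
  rw [apply_one_iff_charDegree] at hd
  have := T.three_le
  have := D.card_eq
  rcases T.deg_cases χ with ⟨-, d⟩ | ⟨-, d⟩ | ⟨-, d⟩ | ⟨e, d⟩ | ⟨e, d⟩ | ⟨-, d⟩ <;>
    first | exact Or.inl e | exact Or.inr ⟨by omega, e⟩ | omega

theorem deg_half_succ_iff (hq : 5 ≤ Fintype.card F) (χ : IrrCharacter SL2) :
    (χ : SL2 → ℂ) 1 = (((Fintype.card F + 1) / 2 : ℕ) : ℂ) ↔ χ = η₁ ∨ χ = η₂ := by
  refine ⟨fun hd => (T.deg_half_succ_cases χ hd).resolve_right fun e => by omega, fun e => ?_⟩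
  rw [apply_one_iff_charDegree]
  have := T.eta_deg₁; have := T.eta_deg₂
  rcases e with rfl | rfl <;> omega

theorem deg_half_pred_iff (hq : 5 ≤ Fintype.card F) (χ : IrrCharacter SL2) :
    (χ : SL2 → ℂ) 1 = (((Fintype.card F - 1) / 2 : ℕ) : ℂ) ↔ χ = χ₁ ∨ χ = χ₂ := by
  rw [apply_one_iff_charDegree]
  constructor
  · intro hd
    rcases T.deg_cases χ with ⟨-, d⟩ | ⟨-, d⟩ | ⟨-, d⟩ | ⟨-, d⟩ | ⟨-, d⟩ | ⟨e, -⟩ <;>
      first | exact e | omega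
  · have := T.chi_deg₁; have := T.chi_deg₂
    rintro (rfl | rfl) <;> omega

theorem card_deg_one (hq : 5 ≤ Fintype.card F) :
    Nat.card {χ : IrrCharacter SL2 // (χ : SL2 → ℂ) 1 = 1} = 1 :=
  Nat.card_eq_one_iff_exists.2 ⟨⟨⟨_, isIrrCharacter_one⟩, rfl⟩,
    fun χ => Subtype.ext (Subtype.ext ((T.eq_one_iff hq χ.1).1 χ.2))⟩

theorem card_deg_q :
    Nat.card {χ : IrrCharacter SL2 // (χ : SL2 → ℂ) 1 = (Fintype.card F : ℂ)} = 1 :=
  Nat.card_eq_one_iff_exists.2 ⟨⟨⟨_, isIrrCharacter_steinberg⟩, steinberg_one⟩,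
    fun χ => Subtype.ext (Subtype.ext ((T.deg_q_iff χ.1).1 χ.2))⟩

omit T in
theorem card_pair {G : Type*} [Group G] [Finite G] {a b : IrrCharacter G} (hab : a ≠ b) :
    Nat.card {χ : IrrCharacter G // χ = a ∨ χ = b} = 2 := by
  classical
  have : Fintype (IrrCharacter G) := Fintype.ofFinite _
  rw [Nat.card_eq_fintype_card, Fintype.card_subtype,
    show (Finset.univ.filter fun χ : IrrCharacter G => χ = a ∨ χ = b) = {a, b} from by ext; simp,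
    Finset.card_pair hab]

theorem card_classes : Nat.card (ConjClasses SL2) = Fintype.card F + 4 := by
  rw [← card_irr_eq_card_conjClasses, T.card_irr]

/-- A discrete series character at an elliptic element when `q = 3`. -/
theorem dsFun_noRoot_three (h3 : Fintype.card F = 3) {θ : Subgroup.zpowers c →* ℂˣ} (hθ : θ ^ 2 ≠ 1)
    {g : SL2} (hg : NoRoot (g : M2)) : dsFun D θ g = 0 := by
  have hh : h = 2 := by have := D.card_eq; omega
  obtain ⟨n, hn⟩ := exists_conj_mem_nonsplit D.torus D.noRoot hg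
  rw [classFunction_eq_of_isConj (isClassFunction_dsFun θ) (isConj_iff.2 ⟨n, rfl⟩ : IsConj g (n * g * n⁻¹))]
  have hg' : NoRoot ((n * g * n⁻¹ : SL2) : M2) := noRoot_conj.2 hg
  have hx1 : (n * g * n⁻¹ : SL2) ≠ 1 := fun e => hg'.trace_ne (by rw [e]; simp; norm_num)
  have hxn : (n * g * n⁻¹ : SL2) ≠ -1 := fun e => hg'.trace_ne (by rw [e, neg_one_coe]; simp; norm_num)
  set z : Subgroup.zpowers c := ⟨n * g * n⁻¹, hn⟩ with hz
  rw [show (n * g * n⁻¹ : SL2) = (z : SL2) from rfl, dsFun_torus θ z hx1 hxn]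
  set gen : Subgroup.zpowers c := ⟨c, Subgroup.mem_zpowers c⟩ with hgen
  obtain ⟨i, hi⟩ := Subgroup.mem_zpowers_iff.1 z.2
  have hzi : z = gen ^ i := Subtype.ext (by rw [Subgroup.coe_zpow]; exact hi.symm)
  have hgen4 : gen ^ 4 = 1 := Subtype.ext (by
    rw [Subgroup.coe_pow, Subgroup.coe_one, show (4 : ℕ) = 2 * h by omega, ← D.torus.order]
    exact pow_orderOf_eq_one c)
  have hz2 : z ^ 2 = gen ^ 2 := by
    rcases Int.even_or_odd i with ⟨k, rfl⟩ | ⟨k, rfl⟩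
    · exfalso
      have hc2 : c ^ (2 : ℤ) = -1 := by
        rw [← TorusGen.pow_h_eq D.torus, hh]; exact zpow_natCast c 2
      have hk : (z : SL2) = (-1 : SL2) ^ k := by
        rw [← hi, ← hc2, ← _root_.zpow_mul, two_mul]
      rcases Int.even_or_odd k with hk' | hk'
      · exact hx1 (by rw [show (n * g * n⁻¹ : SL2) = (z : SL2) from rfl, hk, hk'.neg_one_zpow])
      · exact hxn (by rw [show (n * g * n⁻¹ : SL2) = (z : SL2) from rfl, hk, hk'.neg_one_zpow])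
    · rw [hzi, ← zpow_natCast, ← _root_.zpow_mul, ← zpow_natCast gen 2,
        show (2 * k + 1) * ((2 : ℕ) : ℤ) = ((4 : ℕ) : ℤ) * k + ((2 : ℕ) : ℤ) by push_cast; ring,
        _root_.zpow_add, _root_.zpow_mul, zpow_natCast, hgen4, _root_.one_zpow, one_mul]
  have ht4 : ((θ gen : ℂ) ^ 2) ^ 2 = 1 := by
    rw [← pow_mul, ← Units.val_pow_eq_pow_val, ← map_pow, hgen4, map_one, Units.val_one]
  have ht2 : (θ gen : ℂ) ^ 2 = -1 := by
    refine (sq_eq_one_iff.1 ht4).resolve_left fun e => hθ (MonoidHom.ext fun x => ?_)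
    obtain ⟨j, hj⟩ := Subgroup.mem_zpowers_iff.1 x.2
    have hx : x = gen ^ j := Subtype.ext (by rw [Subgroup.coe_zpow]; exact hj.symm)
    rw [MonoidHom.pow_apply, MonoidHom.one_apply, hx, map_zpow, ← zpow_natCast, ← _root_.zpow_mul, mul_comm,
      _root_.zpow_mul, zpow_natCast, show (θ gen) ^ 2 = 1 from Units.ext (by rw [Units.val_pow_eq_pow_val, e, Units.val_one]),
      _root_.one_zpow]
  have hsq : (θ z : ℂ) ^ 2 = -1 := by
    rw [← Units.val_pow_eq_pow_val, ← map_pow, hz2, map_pow, Units.val_pow_eq_pow_val, ht2]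
  have hne : (θ z : ℂ) ≠ 0 := Units.ne_zero _
  field_simp
  linear_combination -hsq

end Table

end CfsgLib.SL2Char
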