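import Cfsg.Agent.Lib.SL2Char.Torus
import Mathlib.NumberTheory.MulChar.Duality

/-!
The discrete series of `SL_2(q)`, `q` odd.
-/

set_option autoImplicit false

namespace CfsgLib.SL2Char

open Matrix Cfsg
open CfsgLib.SL2Tori CfsgLib.Schur CfsgLib.Characters
open scoped ComplexConjugate

variable {F : Type*} [Field F]

local notation "SL2" => Matrix.SpecialLinearGroup (Fin 2) F
local notation "M2" => Matrix (Fin 2) (Fin 2) F

theorem conj_homUnits {C : Type*} [Group C] [Finite C] (θ : C →* ℂˣ) (x : C) :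
    conj (θ x : ℂ) = (θ x : ℂ)⁻¹ := by
  refine (Complex.inv_eq_conj ?_).symm
  refine Complex.norm_eq_one_of_pow_eq_one (n := Nat.card C) ?_ Nat.card_pos.ne'
  rw [← Units.val_pow_eq_pow_val, ← map_pow, pow_card_eq_one', map_one, Units.val_one]

theorem sum_homUnits_mul_conj {C : Type*} [Group C] [Fintype C] (θ θ' : C →* ℂˣ) [Decidable (θ = θ')] :
    ∑ x : C, (θ x : ℂ) * conj (θ' x : ℂ) = if θ = θ' then (Fintype.card C : ℂ) else 0 := by
  classical
  let f : C →* ℂ := (Units.coeHom ℂ).comp (θ * θ'⁻¹)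
  have h := sum_hom_units f
  have hf : f = 1 ↔ θ = θ' := by
    rw [← mul_inv_eq_one (a := θ)]
    constructor
    · intro e
      refine MonoidHom.ext fun x => Units.ext ?_
      exact DFunLike.congr_fun e x
    · intro e
      simp only [f, e]
      exact MonoidHom.ext fun x => rfl
  rw [Finset.sum_congr rfl fun x _ => show (θ x : ℂ) * conj (θ' x : ℂ) = f x by
    rw [conj_homUnits]; simp [f], h]
  simp only [hf]
  split_ifs <;> simp

variable [Fintype F] [DecidableEq F]

/-- The linear function of the diagonal torus. -/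
noncomputable abbrev diagChar (α : MulChar F ℂ) : diagSub F → ℂ :=
  fun x => α (((x : SL2) : M2) 0 0)

/-- The discrete series function. -/
noncomputable def ds {c : Matrix.SpecialLinearGroup (Fin 2) F} (α : MulChar F ℂ)
    (θ : Subgroup.zpowers c →* ℂˣ) : Matrix.SpecialLinearGroup (Fin 2) F → ℂ :=
  Cfsg.indFun (diagSub F) (diagChar α) - ps α - Cfsg.indFun (Subgroup.zpowers c) (fun x => (θ x : ℂ))

theorem isCharacter_diagChar (α : MulChar F ℂ) : IsCharacter (diagSub F) (diagChar α) := by
  obtain ⟨f, hf⟩ := exists_borelHom α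
  have hle : diagSub F ≤ borel F := fun g hg => by
    obtain ⟨a, rfl⟩ := mem_diagSub.1 hg
    rw [slDiag_eq_bEl]; exact (bEl a 0).2
  have h := isCharacter_of_irr (isIrrCharacter_of_hom (f.comp (Subgroup.inclusion hle)))
  convert h using 1
  funext x
  exact (congrFun hf (Subgroup.inclusion hle x)).symm

theorem isGeneralizedCharacter_ds {c : SL2} (α : MulChar F ℂ) (θ : Subgroup.zpowers c →* ℂˣ) :
    IsGeneralizedCharacter SL2 (ds α θ) := by
  refine isGeneralizedCharacter_sub (isGeneralizedCharacter_sub ?_ ?_) ?_ <;>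
    refine isGeneralizedCharacter_of_isCharacter ?_
  · exact CfsgLib.Induction.isCharacter_indFun _ (isCharacter_diagChar α)
  · exact isCharacter_ps α
  · exact CfsgLib.Induction.isCharacter_indFun _ (isCharacter_of_irr (isIrrCharacter_of_hom θ))

/-- The hypotheses of a discrete series function. -/
structure DSData (c : Matrix.SpecialLinearGroup (Fin 2) F) (h : ℕ) : Prop where
  torus : TorusGen c h
  noRoot : NoRoot (c : Matrix (Fin 2) (Fin 2) F)
  card_eq : Fintype.card F + 1 = 2 * h

variable {c : Matrix.SpecialLinearGroup (Fin 2) F} {h : ℕ}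

omit [DecidableEq F] in
theorem DSData.neg_one_mem (D : DSData c h) : (-1 : SL2) ∈ Subgroup.zpowers c :=
  TorusGen.pow_h_eq D.torus ▸ Subgroup.npow_mem_zpowers c h

omit [DecidableEq F] in
theorem DSData.odd (D : DSData c h) : Odd (Fintype.card F) := by
  rw [Nat.odd_iff]; have := D.card_eq; omega

/-- The sign of `θ` at the central involution. -/
noncomputable def zsign (D : DSData c h) (θ : Subgroup.zpowers c →* ℂˣ) : ℂ :=
  (θ ⟨-1, D.neg_one_mem⟩ : ℂ)

theorem zsign_def (D : DSData c h) (θ : Subgroup.zpowers c →* ℂˣ) :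
    zsign D θ = (θ ⟨-1, D.neg_one_mem⟩ : ℂ) := rfl

theorem zsign_cases (D : DSData c h) (θ : Subgroup.zpowers c →* ℂˣ) :
    zsign D θ = 1 ∨ zsign D θ = -1 := by
  refine sq_eq_one_iff.1 ?_
  have e : (⟨-1, D.neg_one_mem⟩ : Subgroup.zpowers c) ^ 2 = 1 :=
    Subtype.ext (by rw [Subgroup.coe_pow, pow_two]; exact Subtype.ext (by simp))
  rw [zsign, ← Units.val_pow_eq_pow_val, ← map_pow, e, map_one, Units.val_one]

theorem exists_alpha (D : DSData c h) (θ : Subgroup.zpowers c →* ℂˣ) :
    ∃ α : MulChar F ℂ, α (-1) = zsign D θ := by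
  rcases zsign_cases D θ with e | e <;> rw [e]
  · exact ⟨1, by rw [MulChar.one_apply (by simp : IsUnit (-1 : F))]⟩
  · have h2 := D.torus.two_ne
    obtain ⟨α, hα⟩ := MulChar.exists_apply_ne_one_of_hasEnoughRootsOfUnity F ℂ (a := (-1 : F))
      (fun e => h2 (by linear_combination -e))
    refine ⟨α, (sq_eq_one_iff.1 ?_).resolve_left hα⟩
    rw [← map_pow]; simp

variable (D : DSData c h) {α : MulChar F ℂ} {θ : Subgroup.zpowers c →* ℂˣ} (hα : α (-1) = zsign D θ)
include D hα

theorem ds_one : ds α θ 1 = (Fintype.card F : ℂ) - 1 := by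
  unfold ds
  simp only [Pi.sub_apply]
  rw [CfsgLib.Induction.indFun_one_apply, CfsgLib.Induction.indFun_one_apply, index_diagSub,
    index_torus D.torus D.card_eq, ps_one]
  simp only [diagChar, map_one, Units.val_one, OneMemClass.coe_one, Matrix.SpecialLinearGroup.coe_one,
    Matrix.one_apply_eq, mul_one, Nat.cast_mul, Nat.cast_add, Nat.cast_one,
    Nat.cast_sub (Fintype.card_pos : 0 < Fintype.card F)]
  ring

theorem ds_neg_one : ds α θ (-1) = ((Fintype.card F : ℂ) - 1) * zsign D θ := by
  unfold ds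
  simp only [Pi.sub_apply]
  rw [indFun_central _ neg_one_central neg_one_mem_diagSub, indFun_central _ neg_one_central D.neg_one_mem,
    index_diagSub, index_torus D.torus D.card_eq, ps_neg_one, ← zsign_def D, hα]
  simp only [diagChar, neg_one_coe, Matrix.neg_apply, Matrix.one_apply_eq, hα, Nat.cast_mul, Nat.cast_add,
    Nat.cast_one, Nat.cast_sub (Fintype.card_pos : 0 < Fintype.card F)]
  ring

theorem ds_slDiag {a : Fˣ} (ha : (a : F) ^ 2 ≠ 1) : ds α θ (slDiag a) = 0 := by
  have hy := bEl_hyp (0 : F) ha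
  rw [← slDiag_eq_bEl] at hy
  have hn : (slDiag a : SL2) ≠ -1 := fun e => hy.1 (by
    rw [e, neg_one_coe, Matrix.trace_neg, Matrix.trace_one, Fintype.card_fin]; norm_num)
  have h1 : (slDiag a : SL2) ≠ 1 := fun e => hy.1 (by
    rw [e, Matrix.SpecialLinearGroup.coe_one, Matrix.trace_one, Fintype.card_fin]; norm_num)
  unfold ds
  simp only [Pi.sub_apply]
  rw [indFun_diag_apply D.odd _ ha, indFun_nonsplit_eq_zero D.torus D.noRoot _ (fun hh => hh hy.2) h1 hn,
    show ps α (slDiag a) = α (a : F) + α (a : F)⁻¹ by rw [slDiag_eq_bEl, ps_bEl_hyp α 0 ha]]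
  simp [diagChar, slDiag_coe]

theorem ds_hyp {g : SL2} (hg : Hyp (g : M2)) : ds α θ g = 0 := by
  obtain ⟨a, ha, hc⟩ := exists_diag_of_hyp D.torus.two_ne hg
  rw [classFunction_eq_of_isConj (isClassFunction_of_isGeneralizedCharacter (isGeneralizedCharacter_ds α θ)) hc]
  exact ds_slDiag D hα ha

theorem ds_torus (x : Subgroup.zpowers c) (h1 : (x : SL2) ≠ 1) (hn : (x : SL2) ≠ -1) :
    ds α θ (x : SL2) = -((θ x : ℂ) + (θ x : ℂ)⁻¹) := by
  have hnr := noRoot_of_mem_torus D.torus D.noRoot x.2 h1 hn
  unfold ds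
  simp only [Pi.sub_apply]
  rw [indFun_diag_eq_zero _ (fun hy => hnr hy.2) h1 hn, ps_noRoot α hnr,
    indFun_torus_apply D.torus rfl _ x.2 h1 hn]
  rw [show (⟨(x : SL2)⁻¹, inv_mem x.2⟩ : Subgroup.zpowers c) = x⁻¹ from rfl, map_inv,
    Units.val_inv_eq_inv_val]
  ring

theorem ds_uni {ε : Fˣ} (hε : ε = 1 ∨ ε = -1) {b : F} (hb : b ≠ 0) :
    ds α θ (bEl ε b : SL2) = -α (ε : F) := by
  have h1 : (bEl ε b : SL2) ≠ 1 := fun e => hb (by
    have := congrArg (fun g : SL2 => (g : M2) 0 1) e
    simpa using this)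
  have hn : (bEl ε b : SL2) ≠ -1 := fun e => hb (by
    have := congrArg (fun g : SL2 => (g : M2) 0 1) e
    simpa using this)
  have hd : ((bEl ε b : SL2) : M2).trace ^ 2 = 4 := by
    rw [← sub_eq_zero, bEl_disc, units_sub_inv_eq_zero_iff.2 hε]; ring
  unfold ds
  simp only [Pi.sub_apply]
  rw [indFun_diag_eq_zero _ (fun hy => hy.1 hd) h1 hn, ps_bEl_uni α hε hb,
    indFun_nonsplit_eq_zero D.torus D.noRoot _ (fun hh => hh.trace_ne hd) h1 hn]
  ring

theorem classInner_ds_ps (β : MulChar F ℂ) : classInner (ds α θ) (ps β) = 0 := by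
  classical
  rw [ps, CfsgLib.Induction.classInner_indFun_right (borel F) _
    (isClassFunction_of_isGeneralizedCharacter (isGeneralizedCharacter_ds α θ))]
  unfold classInner
  rw [sum_borel]
  refine mul_eq_zero_of_right _ (Finset.sum_eq_zero fun a _ => ?_)
  have hb : ∀ b : F, borelChar β (bEl a b) = β (a : F) := fun b => by simp [borelChar]
  simp only [hb, ← Finset.sum_mul]
  refine mul_eq_zero_of_left ?_ _
  by_cases ha : (a : F) ^ 2 = 1
  · have hε : a = 1 ∨ a = -1 :=
      (sq_eq_one_iff.1 ha).imp (fun e => Units.ext e) (fun e => Units.ext (by simp [e]))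
    rw [← Finset.add_sum_erase _ _ (Finset.mem_univ (0 : F)),
      Finset.sum_congr rfl fun b hb => ds_uni D hα hε (Finset.ne_of_mem_erase hb), Finset.sum_const,
      Finset.card_erase_of_mem (Finset.mem_univ _), Finset.card_univ, nsmul_eq_mul,
      Nat.cast_sub Fintype.card_pos, Nat.cast_one]
    rcases hε with rfl | rfl
    · rw [show (bEl (1 : Fˣ) (0 : F) : SL2) = 1 from Subtype.ext (by simp [Matrix.one_fin_two]), ds_one D hα]
      simp
    · rw [show (bEl (-1 : Fˣ) (0 : F) : SL2) = -1 from Subtype.ext (by rw [neg_one_coe]; simp [Matrix.one_fin_two]),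
        ds_neg_one D hα, Units.val_neg, Units.val_one, hα]
      ring
  · exact Finset.sum_eq_zero fun b _ => ds_hyp D hα (bEl_hyp b ha)

theorem classInner_ds_one (hθ : θ ≠ 1) : classInner (ds α θ) (fun _ => (1 : ℂ)) = 0 := by
  classical
  unfold ds
  rw [classInner_sub_left, classInner_sub_left, classInner_ps_one,
    CfsgLib.Induction.classInner_indFun (diagSub F) _ (fun _ _ => rfl),
    CfsgLib.Induction.classInner_indFun (Subgroup.zpowers c) _ (fun _ _ => rfl)]
  unfold classInner
  rw [sum_diagSub]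
  simp only [map_one, mul_one, diagChar, slDiag_coe, Matrix.of_apply, Matrix.cons_val', Matrix.cons_val_zero,
    Matrix.cons_val_fin_one, sum_units_mulChar]
  have h3 := sum_homUnits_mul_conj θ 1
  simp only [MonoidHom.one_apply, Units.val_one, map_one, mul_one, if_neg hθ] at h3
  rw [h3, card_diagSub, Nat.cast_sub Fintype.card_pos, Nat.cast_one]
  have hq1 : (Fintype.card F : ℂ) - 1 ≠ 0 := by
    rw [sub_ne_zero]; exact_mod_cast Fintype.one_lt_card.ne'
  split_ifs <;> field_simp <;> ring

theorem classInner_ds_ds {α' : MulChar F ℂ} {θ' : Subgroup.zpowers c →* ℂˣ}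
    (hα' : α' (-1) = zsign D θ') [Decidable (θ = θ')] [Decidable (θ = θ'⁻¹)] :
    classInner (ds α θ) (ds α' θ') = (if θ = θ' then 1 else 0) + (if θ = θ'⁻¹ then 1 else 0) := by
  classical
  have hcf := isClassFunction_of_isGeneralizedCharacter (isGeneralizedCharacter_ds α θ)
  rw [show ds α' θ' = Cfsg.indFun (diagSub F) (diagChar α') - ps α' -
    Cfsg.indFun (Subgroup.zpowers c) (fun x => (θ' x : ℂ)) from rfl,
    classInner_sub_right, classInner_sub_right, classInner_ds_ps D hα, sub_zero,
    CfsgLib.Induction.classInner_indFun_right _ _ hcf, CfsgLib.Induction.classInner_indFun_right _ _ hcf]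
  have hz2 : zsign D θ' * zsign D θ' = 1 := by rcases zsign_cases D θ' with e | e <;> rw [e] <;> ring
  have hzc : conj (zsign D θ') = zsign D θ' := by rcases zsign_cases D θ' with e | e <;> rw [e] <;> simp
  -- the split torus
  have hT : classInner (fun x : diagSub F => ds α θ x) (diagChar α') = 1 + zsign D θ * zsign D θ' := by
    have hne : (1 : Fˣ) ≠ -1 := fun e => D.torus.two_ne (by
      have := congrArg Units.val e; simp at this; linear_combination this)
    unfold classInner
    rw [sum_diagSub, ← Finset.sum_subset (Finset.subset_univ ({1, -1} : Finset Fˣ)), Finset.sum_pair hne]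
    · simp only [map_one, diagChar, ← neg_one_eq_slDiag, ds_one D hα, ds_neg_one D hα, neg_one_coe,
        Matrix.neg_apply, Matrix.SpecialLinearGroup.coe_one, Matrix.one_apply_eq, hα', hzc]
      rw [card_diagSub, Nat.cast_sub Fintype.card_pos, Nat.cast_one]
      have hq1 : (Fintype.card F : ℂ) - 1 ≠ 0 := by
        rw [sub_ne_zero]; exact_mod_cast Fintype.one_lt_card.ne'
      field_simp
    · intro a _ ha
      show ds α θ (slDiag a) * _ = 0
      rw [ds_slDiag D hα, zero_mul]
      intro e
      rcases sq_eq_one_iff.1 e with e | e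
      · exact ha (by simp [Units.ext (e.trans Units.val_one.symm)])
      · exact ha (by simp [show a = -1 from Units.ext (by simp [e])])
  -- the non-split torus
  have hC : classInner (fun x : Subgroup.zpowers c => ds α θ x) (fun x => (θ' x : ℂ)) =
      1 + zsign D θ * zsign D θ' - (if θ = θ' then 1 else 0) - (if θ = θ'⁻¹ then 1 else 0) := by
    set z : Subgroup.zpowers c := ⟨-1, D.neg_one_mem⟩ with hz
    have hz1 : z ≠ 1 := fun e => neg_one_ne_one D.torus.two_ne (congrArg Subtype.val e)
    have hval : ∀ x : Subgroup.zpowers c, ds α θ (x : SL2) = -((θ x : ℂ) + conj (θ x : ℂ)) +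
        ((Fintype.card F : ℂ) + 1) * ((if x = 1 then 1 else 0) + (if x = z then zsign D θ else 0)) := by
      intro x
      rw [conj_homUnits]
      by_cases hx1 : x = 1
      · subst hx1
        rw [OneMemClass.coe_one, ds_one D hα, if_pos rfl, if_neg (Ne.symm hz1), map_one, Units.val_one]
        ring
      by_cases hxz : x = z
      · subst hxz
        rw [if_neg hx1, if_pos rfl, hz]
        show ds α θ (-1) = _
        rw [ds_neg_one D hα, ← zsign_def D]
        rcases zsign_cases D θ with e | e <;> rw [e] <;> ring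
      · rw [if_neg hx1, if_neg hxz, ds_torus D hα x (fun e => hx1 (Subtype.ext e)) (fun e => hxz (Subtype.ext e))]
        ring
    unfold classInner
    simp only [hval]
    have hsplit : ∀ x : Subgroup.zpowers c,
        (-((θ x : ℂ) + conj (θ x : ℂ)) + ((Fintype.card F : ℂ) + 1) *
            ((if x = 1 then 1 else 0) + (if x = z then zsign D θ else 0))) * conj (θ' x : ℂ) =
          -((θ x : ℂ) * conj (θ' x : ℂ)) - conj ((θ x : ℂ) * conj (θ'⁻¹ x : ℂ)) +
          ((Fintype.card F : ℂ) + 1) * ((if x = 1 then conj (θ' x : ℂ) else 0) +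
            (if x = z then zsign D θ * conj (θ' x : ℂ) else 0)) := fun x => by
      rw [MonoidHom.inv_apply, Units.val_inv_eq_inv_val, map_mul, Complex.conj_conj, ← conj_homUnits θ']
      split_ifs <;> ring
    rw [Finset.sum_congr rfl fun x _ => hsplit x, Finset.sum_add_distrib, Finset.sum_sub_distrib,
      Finset.sum_neg_distrib, ← map_sum, sum_homUnits_mul_conj, sum_homUnits_mul_conj, ← Finset.mul_sum,
      Finset.sum_add_distrib, Finset.sum_ite_eq', Finset.sum_ite_eq', if_pos (Finset.mem_univ _),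
      if_pos (Finset.mem_univ _), ← Nat.card_eq_fintype_card (α := Subgroup.zpowers c),
      D.torus.card_torus, ← D.card_eq, map_one, Units.val_one, map_one, hz, ← zsign_def D, hzc]
    push_cast
    have hq : (Fintype.card F : ℂ) + 1 ≠ 0 := Nat.cast_add_one_ne_zero _
    split_ifs <;> simp <;> field_simp <;> ring
  rw [hT, hC]
  ring

end CfsgLib.SL2Char
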