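import Cfsg.Agent.Lib.SL2Tori.Sylow
import Cfsg.Agent.Lib.SL2Tori.Induced

/-!
The four kinds of elements of `SL_2(q)`, `q` odd: central, hyperbolic, elliptic, `±` unipotent.
-/

set_option autoImplicit false

namespace CfsgLib.SL2Char

open Matrix
open CfsgLib.Schur CfsgLib.SL2Tori

variable {F : Type*} [Field F]

local notation "SL2" => Matrix.SpecialLinearGroup (Fin 2) F
local notation "M2" => Matrix (Fin 2) (Fin 2) F

/-- Two distinct eigenvalues in the field. -/
def Hyp (g : M2) : Prop := g.trace ^ 2 ≠ 4 ∧ IsSquare (g.trace ^ 2 - 4)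

theorem neg_one_coe : ((-1 : SL2) : M2) = -1 := by simp

theorem neg_one_central (g : SL2) : g * -1 = -1 * g := Subtype.ext (by simp)

theorem neg_one_ne_one (h2 : (2 : F) ≠ 0) : (-1 : SL2) ≠ 1 := fun e => h2 (by
  have := congrArg (fun g : SL2 => (g : M2) 0 0) e
  simp at this
  linear_combination -this)

/-- A power generating the centre. -/
theorem TorusGen.pow_h_eq {c : SL2} {h : ℕ} (T : TorusGen c h) : c ^ h = -1 :=
  Subtype.ext (T.pow_h.trans neg_one_coe.symm)

theorem neg_one_mem_borel : (-1 : SL2) ∈ borel F := mem_borel.2 (by simp)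

theorem trace_sq_of_isConj {g h : SL2} (hc : IsConj g h) :
    (g : M2).trace = (h : M2).trace := by
  obtain ⟨n, rfl⟩ := isConj_iff.1 hc
  rw [SL2Tori.trace_conj]

theorem noRoot_conj {g n : SL2} : NoRoot ((n * g * n⁻¹ : SL2) : M2) ↔ NoRoot (g : M2) := by
  unfold NoRoot; rw [SL2Tori.trace_conj]

theorem bEl_trace (a : Fˣ) (b : F) : ((bEl a b : SL2) : M2).trace = (a : F) + (a : F)⁻¹ := by
  simp [Matrix.trace_fin_two]

theorem bEl_disc (a : Fˣ) (b : F) :
    ((bEl a b : SL2) : M2).trace ^ 2 - 4 = ((a : F) - (a : F)⁻¹) ^ 2 := by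
  rw [bEl_trace]
  field_simp
  ring

theorem units_sub_inv_eq_zero_iff {a : Fˣ} : (a : F) - (a : F)⁻¹ = 0 ↔ a = 1 ∨ a = -1 := by
  simp only [Units.ext_iff, Units.val_one, Units.val_neg]
  rw [← sq_eq_one_iff, sub_eq_zero, ← mul_eq_one_iff_eq_inv₀ a.ne_zero, pow_two]

theorem bEl_hyp {a : Fˣ} (b : F) (ha : (a : F) ^ 2 ≠ 1) : Hyp ((bEl a b : SL2) : M2) := by
  refine ⟨fun e => ?_, bEl_disc a b ▸ IsSquare.sq _⟩
  have h := bEl_disc a b
  rw [e, sub_self] at h
  exact ha (by rw [sq, mul_eq_one_iff_eq_inv₀ a.ne_zero]; exact sub_eq_zero.1 (pow_eq_zero_iff two_ne_zero |>.1 h.symm))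

theorem not_noRoot_of_mem_borel {g : SL2} (hg : g ∈ borel F) : ¬ NoRoot (g : M2) := by
  intro h
  obtain ⟨⟨a, b⟩, he⟩ := bEl_bijective.2 (⟨g, hg⟩ : borel F)
  have hg' : g = (bEl a b : SL2) := congrArg Subtype.val he.symm
  exact h (by rw [hg', bEl_disc]; exact IsSquare.sq _)

theorem nonscalar_of_trace {g : SL2} (h : (g : M2).trace ^ 2 ≠ 4) (s : F) : (g : M2) ≠ s • 1 :=
  fun e => h (SpecLin.SLTwo.exists_trace_sq_iff e g.prop)

variable [Fintype F]

theorem mem_center_iff {g : SL2} : g ∈ Subgroup.center SL2 ↔ g = 1 ∨ g = -1 := by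
  rw [SpecLin.SLTwo.mem_center_iff']
  constructor <;> rintro (h | h)
  · exact Or.inl (Subtype.ext h)
  · exact Or.inr (Subtype.ext (h.trans neg_one_coe.symm))
  · exact Or.inl (by rw [h]; simp)
  · exact Or.inr (by rw [h]; simp)

theorem isConj_of_hyp {g h : SL2} (hg : (g : M2).trace ^ 2 ≠ 4) (e : (g : M2).trace = (h : M2).trace) :
    IsConj g h :=
  SpecLin.SLTwo.isConj_of_trace_eq (Or.inr hg) (nonscalar_of_trace hg)
    (nonscalar_of_trace (e ▸ hg)) e

/-- A hyperbolic element is conjugate to a diagonal one. -/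
theorem exists_diag_of_hyp (h2 : (2 : F) ≠ 0) {g : SL2} (hg : Hyp (g : M2)) :
    ∃ a : Fˣ, (a : F) ^ 2 ≠ 1 ∧ IsConj g (slDiag a) := by
  obtain ⟨r, hr⟩ := hg.2
  set t := (g : M2).trace
  have h0 : (t + r) / 2 ≠ 0 := by
    intro e
    field_simp at e
    have : (4 : F) = 0 := by linear_combination -hr + (t - r) * e
    exact mul_ne_zero h2 h2 (by linear_combination this)
  have htr : t = ((slDiag (Units.mk0 _ h0) : SL2) : M2).trace := by
    have hne : t + r ≠ 0 := fun e => h0 (by rw [e, zero_div])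
    rw [slDiag_coe, Matrix.trace_fin_two]
    simp
    field_simp
    linear_combination hr
  refine ⟨Units.mk0 _ h0, fun e => hg.1 ?_, isConj_of_hyp hg.1 htr⟩
  have e' : ((Units.mk0 _ h0 : Fˣ) : F)⁻¹ = ((Units.mk0 _ h0 : Fˣ) : F) :=
    inv_eq_of_mul_eq_one_right (by rw [← pow_two]; exact e)
  rw [slDiag_coe, Matrix.trace_fin_two] at htr
  simp only [Matrix.of_apply, Matrix.cons_val', Matrix.cons_val_zero, Matrix.cons_val_one,
    Matrix.cons_val_fin_one, Units.val_inv_eq_inv_val, e'] at htr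
  show t ^ 2 = 4
  rw [htr]
  linear_combination (4 : F) * e

/-- A non-central element with a repeated eigenvalue is conjugate to `[[ε, b], [0, ε]]`. -/
theorem exists_uni_of_trace (h2 : (2 : F) ≠ 0) {g : SL2} (ht : (g : M2).trace ^ 2 = 4)
    (h1 : g ≠ 1) (hn : g ≠ -1) :
    ∃ (ε : Fˣ) (b : F), (ε = 1 ∨ ε = -1) ∧ b ≠ 0 ∧ IsConj g (bEl ε b : SL2) := by
  suffices key : ∀ k : SL2, IsConj g k → (k : M2) 1 0 = 0 →
      ∃ (ε : Fˣ) (b : F), (ε = 1 ∨ ε = -1) ∧ b ≠ 0 ∧ IsConj g (bEl ε b : SL2) by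
    by_cases hc : (g : M2) 1 0 = 0
    · exact key g (IsConj.refl g) hc
    · let u : F := ((g : M2) 0 0 - (g : M2) 1 1) / (2 * (g : M2) 1 0)
      refine key ((lineRep (some u))⁻¹ * g * lineRep (some u))
        (isConj_iff.2 ⟨(lineRep (some u))⁻¹, by rw [inv_inv]⟩) ?_
      rw [(lineRep_conj g u).1]
      have hd : ((g : M2)).det = 1 := g.prop
      rw [Matrix.det_fin_two] at hd
      rw [Matrix.trace_fin_two] at ht
      simp only [u]
      field_simp
      linear_combination -ht + 4 * hd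
  intro k hk hc
  obtain ⟨⟨a, b⟩, he⟩ := bEl_bijective.2 (⟨k, mem_borel.2 hc⟩ : borel F)
  have hk' : k = (bEl a b : SL2) := congrArg Subtype.val he.symm
  subst hk'
  rw [trace_sq_of_isConj hk] at ht
  have ha : a = 1 ∨ a = -1 := by
    rw [← units_sub_inv_eq_zero_iff]
    have h := bEl_disc a b
    rw [ht, sub_self] at h
    exact pow_eq_zero_iff two_ne_zero |>.1 h.symm
  refine ⟨a, b, ha, fun hb => ?_, hk⟩
  subst hb
  have hscal : (bEl a 0 : SL2) = 1 ∨ (bEl a 0 : SL2) = -1 := by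
    rcases ha with rfl | rfl
    · left; exact Subtype.ext (by simp [Matrix.one_fin_two])
    · right; refine Subtype.ext ?_; rw [bEl_coe, neg_one_coe]; simp [Matrix.one_fin_two]
  rcases hscal with e | e <;> rw [e] at hk
  · exact h1 (isConj_one_left.1 hk)
  · obtain ⟨n, hn'⟩ := isConj_iff.1 hk.symm
    rw [neg_one_central, mul_inv_cancel_right] at hn'
    exact hn hn'.symm

/-- Classification of the elements. -/
theorem element_cases (h2 : (2 : F) ≠ 0) (g : SL2) :
    g = 1 ∨ g = -1 ∨ Hyp (g : M2) ∨ NoRoot (g : M2) ∨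
      ∃ (ε : Fˣ) (b : F), (ε = 1 ∨ ε = -1) ∧ b ≠ 0 ∧ IsConj g (bEl ε b : SL2) := by
  by_cases h1 : g = 1
  · exact Or.inl h1
  by_cases hn : g = -1
  · exact Or.inr (Or.inl hn)
  by_cases ht : (g : M2).trace ^ 2 = 4
  · exact Or.inr (Or.inr (Or.inr (Or.inr (exists_uni_of_trace h2 ht h1 hn))))
  by_cases hs : IsSquare ((g : M2).trace ^ 2 - 4)
  · exact Or.inr (Or.inr (Or.inl ⟨ht, hs⟩))
  · exact Or.inr (Or.inr (Or.inr (Or.inl hs)))

omit [Fintype F] in
/-- Conjugacy of `±` unipotent upper triangular elements. -/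
theorem isConj_uni_iff {ε : Fˣ} (hε : ε = 1 ∨ ε = -1) {b b' : F} (hb : b ≠ 0) (hb' : b' ≠ 0) :
    IsConj (bEl ε b : SL2) (bEl ε b' : SL2) ↔ IsSquare (b * b') := by
  have hinv : ((ε⁻¹ : Fˣ) : F) = (ε : F) := by rcases hε with rfl | rfl <;> simp
  constructor
  · intro h
    obtain ⟨g, hg⟩ := isConj_iff.1 h
    rw [mul_inv_eq_iff_eq_mul] at hg
    have e := congrArg (fun g : SL2 => (g : M2)) hg
    simp only [Matrix.SpecialLinearGroup.coe_mul, bEl_coe, hinv] at e
    have e00 := congrFun (congrFun e 0) 0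
    have e01 := congrFun (congrFun e 0) 1
    simp [Matrix.mul_apply, Fin.sum_univ_two] at e00 e01
    have hc : (g : M2) 1 0 = 0 := (mul_eq_zero.1 (show b' * (g : M2) 1 0 = 0 by linear_combination -e00)).resolve_left hb'
    have hd : ((g : M2)).det = 1 := g.prop
    rw [Matrix.det_fin_two, hc, mul_zero, sub_zero] at hd
    exact ⟨(g : M2) 0 0 * b, by linear_combination (-(g : M2) 0 0 * b) * e01 - b * b' * hd⟩
  · rintro ⟨r, hr⟩
    have hr0 : r / b ≠ 0 := div_ne_zero (fun e => mul_ne_zero hb hb' (by rw [hr, e, mul_zero])) hb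
    refine isConj_iff.2 ⟨slDiag (Units.mk0 _ hr0), ?_⟩
    rw [mul_inv_eq_iff_eq_mul]
    refine Subtype.ext ?_
    rw [Matrix.SpecialLinearGroup.coe_mul, Matrix.SpecialLinearGroup.coe_mul, slDiag_coe, bEl_coe, bEl_coe,
      hinv]
    have hr1 : r ≠ 0 := fun e => hr0 (by rw [e, zero_div])
    ext i j
    fin_cases i <;> fin_cases j <;> simp <;> field_simp
    linear_combination -hr

end CfsgLib.SL2Char
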