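import Cfsg.Agent.Lib.SL2Char.Degrees
import Cfsg.Agent.Lib.SL2Char.OrderP
import Cfsg.Agent.Lib.Characters.Values
import Cfsg.Agent.Lib.Characters.Ito

/-!
Counting irreducible characters of degree prime to `ℓ`: generalities, and the count for `SL_2(q)`.
-/

set_option autoImplicit false

namespace CfsgLib.SL2Char

open Matrix Cfsg
open CfsgLib.SL2Tori CfsgLib.Schur CfsgLib.Characters

/-- The number of irreducible characters of degree prime to `ℓ`. -/
noncomputable def mckayCount (ℓ : ℕ) (A : Type*) [Group A] : ℕ :=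
  Nat.card {χ : IrrCharacter A // ¬ ℓ ∣ charDegree (χ : A → ℂ)}

theorem mckayCount_congr {A B : Type*} [Group A] [Group B] (ℓ : ℕ) (e : A ≃* B) :
    mckayCount ℓ A = mckayCount ℓ B := by
  let E : IrrCharacter A ≃ IrrCharacter B :=
    { toFun := fun χ => ⟨fun b => (χ : A → ℂ) (e.symm b), CfsgLib.BrauerPerm.isIrrCharacter_comp_equiv χ.2 e.symm⟩
      invFun := fun χ => ⟨fun a => (χ : B → ℂ) (e a), CfsgLib.BrauerPerm.isIrrCharacter_comp_equiv χ.2 e⟩
      left_inv := fun χ => Subtype.ext (funext fun a => congrArg (χ : A → ℂ) (e.symm_apply_apply a))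
      right_inv := fun χ => Subtype.ext (funext fun b => congrArg (χ : B → ℂ) (e.apply_symm_apply b)) }
  exact Nat.card_congr (E.subtypeEquiv fun χ => by simp [E, charDegree])

/-- With an abelian normal subgroup of `ℓ'`-index every degree is prime to `ℓ`. -/
theorem mckayCount_of_abelian_normal {A : Type*} [Group A] [Finite A] {ℓ : ℕ} (H : Subgroup A) [H.Normal]
    (hab : ∀ a ∈ H, ∀ b ∈ H, a * b = b * a) (hl : ¬ ℓ ∣ H.index) :
    mckayCount ℓ A = Nat.card (ConjClasses A) := by
  rw [← card_irr_eq_card_conjClasses, mckayCount]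
  refine Nat.card_congr (Equiv.subtypeUnivEquiv fun χ hd => hl ?_)
  obtain ⟨d, hd1, hd2⟩ := CfsgLib.CharIto.degree_dvd_index_of_abelian_normal χ.2 H inferInstance hab
  rw [CfsgLib.LinearTwist.charDegree_eq_of_apply_one hd1] at hd
  exact hd.trans hd2

/-- Conjugate subgroups have equivalent normalisers. -/
theorem mckayCount_normalizer_conj {G : Type*} [Group G] (ℓ : ℕ) (P : Subgroup G) (t : G) :
    mckayCount ℓ (Subgroup.normalizer ((P.map (MulAut.conj t).toMonoidHom : Subgroup G) : Set G)) =
      mckayCount ℓ (Subgroup.normalizer (P : Set G)) := by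
  have e : (Subgroup.normalizer (P : Set G)).map (MulAut.conj t).toMonoidHom =
      Subgroup.normalizer ((P.map (MulAut.conj t).toMonoidHom : Subgroup G) : Set G) :=
    Subgroup.map_equiv_normalizer_eq P (MulAut.conj t)
  rw [← e]
  exact (mckayCount_congr ℓ (Subgroup.equivMapOfInjective _ _ (MulAut.conj t).injective)).symm

theorem mckayCount_normalizer_sylow {G : Type*} [Group G] [Finite G] {p : ℕ} [Fact p.Prime] (ℓ : ℕ)
    (P Q : Sylow p G) :
    mckayCount ℓ (Subgroup.normalizer ((P : Subgroup G) : Set G)) =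
      mckayCount ℓ (Subgroup.normalizer ((Q : Subgroup G) : Set G)) := by
  obtain ⟨t, ht⟩ := MulAction.exists_smul_eq G Q P
  have e : (P : Subgroup G) = (Q : Subgroup G).map (MulAut.conj t).toMonoidHom := by rw [← ht]; rfl
  rw [e, mckayCount_normalizer_conj]

variable {F : Type*} [Field F] [Fintype F] [DecidableEq F]
variable {c : Matrix.SpecialLinearGroup (Fin 2) F} {h : ℕ} {D : DSData c h} {α₀ : MulChar F ℂ}
variable {θ₀ : Subgroup.zpowers c →* ℂˣ} {η₁ η₂ χ₁ χ₂ : IrrCharacter (Matrix.SpecialLinearGroup (Fin 2) F)}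

local notation "SL2" => Matrix.SpecialLinearGroup (Fin 2) F
local notation "M2" => Matrix (Fin 2) (Fin 2) F

/-- Counting characters by a condition on the degree. -/
theorem Table.card_filter_degree (T : Table D α₀ θ₀ η₁ η₂ χ₁ χ₂) (P : ℕ → Prop) [DecidablePred P] :
    Nat.card {χ : IrrCharacter SL2 // P (charDegree (χ : SL2 → ℂ))} =
      (if P 1 then 1 else 0) + (if P (Fintype.card F) then 1 else 0) +
      (if P (Fintype.card F + 1) then (Fintype.card F - 3) / 2 else 0) +
      (if P (Fintype.card F - 1) then (Fintype.card F - 1) / 2 else 0) +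
      (if P ((Fintype.card F + 1) / 2) then 2 else 0) + (if P ((Fintype.card F - 1) / 2) then 2 else 0) := by
  classical
  let one : IrrCharacter SL2 := ⟨fun _ => 1, isIrrCharacter_one⟩
  let st : IrrCharacter SL2 := ⟨steinberg, isIrrCharacter_steinberg⟩
  let PS := Finset.univ.filter fun χ : IrrCharacter SL2 => ∃ α : MulChar F ℂ, α ^ 2 ≠ 1 ∧ (χ : SL2 → ℂ) = ps α
  let DS := Finset.univ.filter fun χ : IrrCharacter SL2 =>
    ∃ θ : Subgroup.zpowers c →* ℂˣ, θ ^ 2 ≠ 1 ∧ (χ : SL2 → ℂ) = dsFun D θ
  have hps : 2 * PS.card + 3 = Fintype.card F := by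
    have := T.card_ps
    rwa [Nat.card_eq_fintype_card, Fintype.card_subtype] at this
  have hds : 2 * DS.card + 1 = Fintype.card F := by
    have := T.card_ds
    rwa [Nat.card_eq_fintype_card, Fintype.card_subtype] at this
  have bound : ∀ Q : ℕ → Prop, [DecidablePred Q] →
      (Finset.univ.filter fun χ : IrrCharacter SL2 => Q (charDegree (χ : SL2 → ℂ))).card ≤
        (if Q 1 then 1 else 0) + (if Q (Fintype.card F) then 1 else 0) +
        (if Q (Fintype.card F + 1) then PS.card else 0) + (if Q (Fintype.card F - 1) then DS.card else 0) +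
        (if Q ((Fintype.card F + 1) / 2) then 2 else 0) + (if Q ((Fintype.card F - 1) / 2) then 2 else 0) := by
    intro Q _
    refine (Finset.card_le_card (t := (if Q 1 then {one} else ∅) ∪ (if Q (Fintype.card F) then {st} else ∅) ∪
      (if Q (Fintype.card F + 1) then PS else ∅) ∪ (if Q (Fintype.card F - 1) then DS else ∅) ∪
      (if Q ((Fintype.card F + 1) / 2) then {η₁, η₂} else ∅) ∪
      (if Q ((Fintype.card F - 1) / 2) then {χ₁, χ₂} else ∅)) fun χ hχ => ?_).trans ?_
    · have hQ := (Finset.mem_filter.1 hχ).2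
      simp only [Finset.mem_union]
      rcases T.deg_cases χ with ⟨e, d⟩ | ⟨e, d⟩ | ⟨e, d⟩ | ⟨e, d⟩ | ⟨e, d⟩ | ⟨e, d⟩
      · rw [d] at hQ; simp [hQ, show χ = one from Subtype.ext e]
      · rw [d] at hQ; simp [hQ, show χ = st from Subtype.ext e]
      · rw [d] at hQ; simp [hQ, PS, e]
      · rw [d] at hQ; simp [hQ, DS, e]
      · rw [show charDegree (χ : SL2 → ℂ) = (Fintype.card F + 1) / 2 by omega] at hQ
        simp [hQ, e]
      · rw [show charDegree (χ : SL2 → ℂ) = (Fintype.card F - 1) / 2 by omega] at hQ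
        simp [hQ, e]
    · refine ((Finset.card_union_le _ _).trans (Nat.add_le_add ((Finset.card_union_le _ _).trans
        (Nat.add_le_add ((Finset.card_union_le _ _).trans (Nat.add_le_add ((Finset.card_union_le _ _).trans
        (Nat.add_le_add ((Finset.card_union_le _ _).trans (Nat.add_le_add ?_ ?_)) ?_)) ?_)) ?_)) ?_)) <;>
        split_ifs <;> simp [Finset.card_le_two]
  have b1 := bound P
  have b2 := bound (fun n => ¬ P n)
  have htot := (Finset.univ : Finset (IrrCharacter SL2)).card_filter_add_card_filter_not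
    (fun χ : IrrCharacter SL2 => P (charDegree (χ : SL2 → ℂ)))
  rw [Finset.card_univ, ← Nat.card_eq_fintype_card, T.card_irr] at htot
  rw [show (Fintype.card F - 3) / 2 = PS.card by omega, show (Fintype.card F - 1) / 2 = DS.card by omega,
    Nat.card_eq_fintype_card, Fintype.card_subtype]
  rw [show (Fintype.card F - 1) / 2 = DS.card by omega] at b1 b2
  split_ifs at * <;> omega

end CfsgLib.SL2Char
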