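import Cfsg.Agent.Lib.SL2Char.McKayCount
import Cfsg.Agent.Lib.SL2Tori.SylowQ8

/-!
Counting characters of degree prime to `ℓ` of the local subgroups of `SL_2(q)`, `q` odd.
-/

set_option autoImplicit false

namespace CfsgLib.SL2Char

open Matrix Cfsg
open CfsgLib.SL2Tori CfsgLib.Schur CfsgLib.Characters

/-- At `ℓ = 2` the count is a multiple of four when four divides the order. -/
theorem four_dvd_mckayCount {A : Type*} [Group A] [Finite A] (h4 : 4 ∣ Nat.card A) : 4 ∣ mckayCount 2 A := by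
  classical
  let : Fintype A := Fintype.ofFinite A
  have h1 := sum_sq_degrees (G := A)
  have hd : ∀ χ : IrrCharacter A, (χ : A → ℂ) 1 = (charDegree (χ : A → ℂ) : ℂ) := fun χ =>
    CfsgLib.LinearTwist.apply_one_eq_charDegree (irr_isCharacter χ)
  simp only [hd] at h1
  have h2 : ∑ χ : IrrCharacter A, charDegree (χ : A → ℂ) ^ 2 = Nat.card A := by exact_mod_cast h1
  have h3 : (∑ χ : IrrCharacter A, charDegree (χ : A → ℂ) ^ 2) % 4 = mckayCount 2 A % 4 := by
    rw [Finset.sum_nat_mod, mckayCount, Nat.card_eq_fintype_card, Fintype.card_subtype, Finset.card_filter]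
    refine congrArg (· % 4) (Finset.sum_congr rfl fun χ _ => ?_)
    split_ifs with hodd
    · obtain ⟨k, hk⟩ := hodd
      rw [hk, show (2 * k) ^ 2 = 4 * (k * k) by ring, Nat.mul_mod_right]
    · obtain ⟨k, hk⟩ : Odd (charDegree (χ : A → ℂ)) := by
        rwa [← Nat.not_even_iff_odd, even_iff_two_dvd]
      rw [hk, show (2 * k + 1) ^ 2 = 4 * (k * k + k) + 1 by ring, Nat.mul_add_mod]
  rw [h2, Nat.mod_eq_zero_of_dvd h4] at h3
  exact Nat.dvd_of_mod_eq_zero h3.symm

theorem mckayCount_pos {A : Type*} [Group A] [Finite A] {ℓ : ℕ} (hl : ℓ ≠ 1) : 0 < mckayCount ℓ A := by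
  have : Nonempty {χ : IrrCharacter A // ¬ ℓ ∣ charDegree (χ : A → ℂ)} :=
    ⟨⟨⟨fun _ => 1, isIrrCharacter_one⟩, by simp [charDegree, hl]⟩⟩
  exact Nat.card_pos

/-- Linear characters are bounded by the homomorphisms. -/
theorem card_linear_le_hom {A : Type*} [Group A] [Finite A] :
    Nat.card {χ : IrrCharacter A // charDegree (χ : A → ℂ) = 1} ≤ Nat.card (A →* ℂˣ) := by
  have : Finite (A →* ℂˣ) := by
    refine Finite.of_injective
      (fun f => (⟨fun g => (f g : ℂ), isIrrCharacter_of_hom f⟩ : IrrCharacter A)) fun f g h => ?_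
    exact MonoidHom.ext fun x => Units.ext (congrFun (congrArg Subtype.val h) x)
  refine Nat.card_le_card_of_surjective (fun f => ⟨⟨fun g => (f g : ℂ), isIrrCharacter_of_hom f⟩,
    by simp [charDegree]⟩) fun χ => ?_
  obtain ⟨f, hf⟩ := CfsgLib.LinearTwist.exists_hom_of_charDegree_one (irr_isCharacter χ.1) χ.2
  exact ⟨f, Subtype.ext (Subtype.ext hf.symm)⟩

variable {F : Type*} [Field F] [Fintype F]

local notation "SL2" => Matrix.SpecialLinearGroup (Fin 2) F
local notation "M2" => Matrix (Fin 2) (Fin 2) F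

/-- The torus normaliser: every degree is prime to an odd `ℓ`. -/
theorem mckayCount_torus_normalizer {c : SL2} {h ℓ : ℕ} (T : TorusGen c h) (hl : ℓ.Prime) (h2 : ℓ ≠ 2) :
    mckayCount ℓ (Subgroup.normalizer (Subgroup.zpowers c : Set SL2)) = h + 3 := by
  rw [← T.normalizer_card.2]
  have hab : ∀ a ∈ (Subgroup.zpowers c).subgroupOf (Subgroup.normalizer (Subgroup.zpowers c : Set SL2)),
      ∀ b ∈ (Subgroup.zpowers c).subgroupOf (Subgroup.normalizer (Subgroup.zpowers c : Set SL2)),
      a * b = b * a := by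
    intro a ha b hb
    obtain ⟨i, hi⟩ := Subgroup.mem_zpowers_iff.1 (Subgroup.mem_subgroupOf.1 ha)
    obtain ⟨j, hj⟩ := Subgroup.mem_zpowers_iff.1 (Subgroup.mem_subgroupOf.1 hb)
    refine Subtype.ext ?_
    rw [Subgroup.coe_mul, Subgroup.coe_mul, ← hi, ← hj, ← _root_.zpow_add, ← _root_.zpow_add, add_comm]
  refine mckayCount_of_abelian_normal
    ((Subgroup.zpowers c).subgroupOf (Subgroup.normalizer (Subgroup.zpowers c : Set SL2))) hab fun hd => h2 ?_
  have hi : ((Subgroup.zpowers c).subgroupOf (Subgroup.normalizer (Subgroup.zpowers c : Set SL2))).index = 2 := by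
    have h1 := Subgroup.card_mul_index
      ((Subgroup.zpowers c).subgroupOf (Subgroup.normalizer (Subgroup.zpowers c : Set SL2)))
    rw [T.normalizer_card.1, Nat.card_congr (Subgroup.subgroupOfEquivOfLe Subgroup.le_normalizer).toEquiv,
      T.card_torus] at h1
    refine Nat.eq_of_mul_eq_mul_left (show 0 < 2 * h by have := T.two_le; omega) ?_
    rw [h1]; ring
  rw [hi] at hd
  exact (Nat.prime_dvd_prime_iff_eq hl Nat.prime_two).1 hd

/-- An odd Sylow subgroup inside a torus. -/
theorem mckayCount_odd_sylow {c : SL2} {h m : ℕ} (T : TorusGen c h) {ℓ : ℕ} [Fact ℓ.Prime] (hℓ : ℓ ≠ 2)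
    (hdvd : ℓ ∣ 2 * h) (hG : Nat.card SL2 = 2 * h * m) (hm : ¬ ℓ ∣ m) (P : Sylow ℓ SL2) :
    mckayCount ℓ (Subgroup.normalizer ((P : Subgroup SL2) : Set SL2)) = h + 3 := by
  have hidx : ¬ ℓ ∣ (Subgroup.zpowers c).index := by
    have h1 := (Subgroup.zpowers c).card_mul_index
    rw [T.card_torus, hG] at h1
    rwa [Nat.eq_of_mul_eq_mul_left (by have := T.two_le; omega) h1]
  obtain ⟨g, hg⟩ := exists_conj_mem_of_index P.isPGroup' hidx
  have T' := T.conj g
  have hle : (P : Subgroup SL2) ≤ Subgroup.zpowers (g * c * g⁻¹) := fun x hx =>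
    TorusGen.mem_zpowers_conj (hg x hx)
  obtain ⟨x, hx, hx1⟩ := (Subgroup.ne_bot_iff_exists_ne_one.1 (P.ne_bot_of_dvd_card (hG ▸ hdvd.mul_right m))).elim
    fun x hx => (⟨(x : SL2), x.2, fun e => hx (Subtype.ext e)⟩ : ∃ x ∈ (P : Subgroup SL2), x ≠ 1)
  have hodd : Odd (orderOf x) := by
    obtain ⟨k, hk⟩ := IsPGroup.iff_orderOf.1 P.isPGroup' ⟨x, hx⟩
    rw [Subgroup.orderOf_mk] at hk
    rw [hk]
    exact ((Fact.out : ℓ.Prime).odd_of_ne_two hℓ).pow
  obtain ⟨h1, h2⟩ := T'.ne_of_odd_order hodd hx1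
  rw [T'.normalizer_of_le hle hx h1 h2]
  exact mckayCount_torus_normalizer T' Fact.out hℓ

theorem hom_apply_conj {A : Type*} [Group A] (f : A →* ℂˣ) (x g : A) : f (x * g * x⁻¹) = f g := by
  rw [map_mul, map_mul, map_inv, mul_right_comm, mul_inv_cancel, one_mul]

theorem units_sq_eq_one {u : ℂˣ} (h : u ^ 2 = 1) : u = 1 ∨ u = -1 := by
  rcases sq_eq_one_iff.1 (show ((u : ℂ)) ^ 2 = 1 by rw [← Units.val_pow_eq_pow_val, h, Units.val_one]) with e | e
  · exact Or.inl (Units.ext (by rw [e, Units.val_one]))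
  · exact Or.inr (Units.ext (by rw [e, Units.val_neg, Units.val_one]))

theorem four_homs {A : Type*} [Group A] (a b : A)
    (hgen : ∀ f g : A →* ℂˣ, f a = g a → f b = g b → f = g) (ha : ∀ f : A →* ℂˣ, f a ^ 2 = 1)
    (hb : ∀ f : A →* ℂˣ, f b ^ 2 = 1) : Nat.card (A →* ℂˣ) ≤ 4 := by
  classical
  refine (Nat.card_le_card_of_injective (fun f : A →* ℂˣ => (decide (f a = 1), decide (f b = 1))) ?_).trans (by simp)
  intro f g h
  simp only [Prod.mk.injEq, decide_eq_decide] at h
  have key : ∀ u v : ℂˣ, u ^ 2 = 1 → v ^ 2 = 1 → (u = 1 ↔ v = 1) → u = v := by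
    intro u v hu hv huv
    rcases units_sq_eq_one hu with e | e
    · rw [e, huv.1 e]
    · rcases units_sq_eq_one hv with e' | e'
      · rw [huv.2 e', e']
      · rw [e, e']
  exact hgen f g (key _ _ (ha f) (ha g) h.1) (key _ _ (hb f) (hb g) h.2)

set_option maxHeartbeats 800000 in
/-- The normaliser of a Sylow 2-subgroup has four characters of odd degree. -/
theorem mckayCount_two (hodd : Odd (Fintype.card F)) (S : Sylow 2 SL2) :
    mckayCount 2 (Subgroup.normalizer ((S : Subgroup SL2) : Set SL2)) = 4 := by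
  classical
  obtain ⟨c, h, m, T, hG, hm, he, -, hle⟩ := exists_two_torus_ge hodd S
  set N := Subgroup.normalizer ((S : Subgroup SL2) : Set SL2) with hN
  obtain ⟨i, hiS, hiT, hii, hi1, hi2⟩ := exists_order_four T S hle he
  obtain ⟨j, hjS, hjT⟩ := exists_outside T S hle hG
  have hjj := T.sq_outside (hle hjS) hjT
  have hjy : ∀ y : SL2, y ∈ Subgroup.zpowers c → j * y * j⁻¹ = y⁻¹ := fun y hy =>
    T.conj_eq_inv (hle hjS) hjT hy
  have hmemS : ∀ x ∈ (S : Subgroup SL2), x ∈ (S : Subgroup SL2) ⊓ Subgroup.zpowers c ∨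
      j⁻¹ * x ∈ (S : Subgroup SL2) ⊓ Subgroup.zpowers c := by
    intro x hx
    by_cases hxT : x ∈ Subgroup.zpowers c
    · exact Or.inl (Subgroup.mem_inf.2 ⟨hx, hxT⟩)
    · obtain ⟨w, hw, -⟩ := T.inverter
      have a1 := (T.normalizer_cases hw (hle hjS)).resolve_left hjT
      have a2 := (T.normalizer_cases hw (hle hx)).resolve_left hxT
      refine Or.inr (Subgroup.mem_inf.2 ⟨mul_mem (inv_mem hjS) hx, ?_⟩)
      rw [show j⁻¹ * x = (w⁻¹ * j)⁻¹ * (w⁻¹ * x) by group]
      exact mul_mem (inv_mem a1) a2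
  have hSN : (S : Subgroup SL2) ≤ N := Subgroup.le_normalizer
  -- a generator of the torus part
  obtain ⟨⟨a, ha⟩, hgen⟩ := ((isCyclic_of_injective
    (Subgroup.inclusion (inf_le_right : (S : Subgroup SL2) ⊓ Subgroup.zpowers c ≤ Subgroup.zpowers c))
    (Subgroup.inclusion_injective _) : IsCyclic ((S : Subgroup SL2) ⊓ Subgroup.zpowers c : Subgroup SL2))).exists_generator
  have hpow : ∀ x ∈ (S : Subgroup SL2) ⊓ Subgroup.zpowers c, ∃ k : ℤ, a ^ k = x := fun x hx => by
    obtain ⟨k, hk⟩ := Subgroup.mem_zpowers_iff.1 (hgen ⟨x, hx⟩)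
    exact ⟨k, (Subgroup.coe_zpow _ _ _).symm.trans (congrArg Subtype.val hk)⟩
  obtain ⟨haS, haT⟩ := Subgroup.mem_inf.1 ha
  let A : N := ⟨a, hSN haS⟩
  let J : N := ⟨j, hSN hjS⟩
  let I : N := ⟨i, hSN hiS⟩
  have hfA : ∀ f : N →* ℂˣ, ∀ y : SL2, ∀ (hy : y ∈ (S : Subgroup SL2)), y ∈ Subgroup.zpowers c →
      f ⟨y, hSN hy⟩ ^ 2 = 1 := by
    intro f y hy hyT
    have e : J * ⟨y, hSN hy⟩ * J⁻¹ = (⟨y, hSN hy⟩ : N)⁻¹ := Subtype.ext (hjy y hyT)
    have := hom_apply_conj f J ⟨y, hSN hy⟩
    rw [e, map_inv] at this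
    rw [pow_two]
    nth_rw 1 [← this]
    exact inv_mul_cancel _
  have hJJ : J * J = I * I := Subtype.ext (Subtype.ext (by simp [J, I, hjj, hii]))
  have hfJ : ∀ f : N →* ℂˣ, f J ^ 2 = 1 := fun f => by
    rw [pow_two, ← map_mul, hJJ, map_mul, ← pow_two]
    exact hfA f i hiS hiT
  have hfS : ∀ f g : N →* ℂˣ, f A = g A → f J = g J → ∀ x : N, (x : SL2) ∈ (S : Subgroup SL2) → f x = g x := by
    intro f g e1 e2 x hx
    rcases hmemS x hx with hy | hy
    · obtain ⟨k, hk⟩ := hpow _ hy
      rw [show x = A ^ k from Subtype.ext (by rw [Subgroup.coe_zpow]; exact hk.symm), map_zpow, map_zpow, e1]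
    · obtain ⟨k, hk⟩ := hpow _ hy
      rw [show x = J * A ^ k from Subtype.ext (by
        rw [Subgroup.coe_mul, Subgroup.coe_zpow]; show (x : SL2) = j * a ^ k; rw [hk]; group),
        map_mul, map_mul, map_zpow, map_zpow, e1, e2]
  have h4N : 4 ∣ Nat.card N := by
    have h1 : orderOf (I : N) = 4 := by
      rw [← Subgroup.orderOf_coe]
      refine orderOf_eq_prime_pow (p := 2) (n := 1) ?_ (eq_one_of_coe ?_)
      · intro e
        rcases sq_eq_one_cases T.two_ne (show i ^ 2 = 1 by simpa [I] using e) with e | e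
        · exact hi1 e
        · exact hi2 e
      · rw [Matrix.SpecialLinearGroup.coe_pow, show (2 : ℕ) ^ (1 + 1) = 2 + 2 from rfl, pow_add, pow_two, hii]
        simp
    exact h1 ▸ orderOf_dvd_natCard I
  have hdiv := four_dvd_mckayCount h4N
  have hpos := mckayCount_pos (A := N) (ℓ := 2) (by norm_num)
  suffices hlt : mckayCount 2 N < 8 by omega
  by_cases h4 : 4 ∣ h
  · -- the normaliser is the Sylow subgroup
    have hNS : N = (S : Subgroup SL2) := normalizer_two_sylow_eight T S hle hG h4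
    have h2N : IsPGroup 2 N := hNS ▸ S.isPGroup'
    have hle4 : Nat.card (N →* ℂˣ) ≤ 4 := four_homs A J
      (fun f g e1 e2 => MonoidHom.ext fun x => hfS f g e1 e2 x (hNS ▸ x.2))
      (fun f => hfA f a haS haT) hfJ
    have hiff : ∀ χ : IrrCharacter N, ¬ 2 ∣ charDegree (χ : N → ℂ) ↔ charDegree (χ : N → ℂ) = 1 := by
      intro χ
      refine ⟨fun hd => ?_, fun e => by rw [e]; norm_num⟩
      obtain ⟨d, hd1, -, hd2⟩ := irr_degree_dvd_card χ
      rw [CfsgLib.LinearTwist.charDegree_eq_of_apply_one hd1] at hd ⊢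
      obtain ⟨n, hn⟩ := IsPGroup.iff_card.1 h2N
      rw [hn] at hd2
      obtain ⟨k, -, rfl⟩ := (Nat.dvd_prime_pow Nat.prime_two).1 hd2
      cases k with
      | zero => rfl
      | succ k => exact absurd (dvd_pow_self 2 k.succ_ne_zero) hd
    rw [mckayCount, Nat.card_congr (Equiv.subtypeEquivRight hiff)]
    exact lt_of_le_of_lt (card_linear_le_hom.trans hle4) (by norm_num)
  · -- order twenty-four
    have hcard := normalizer_two_sylow_quaternion T S hle hG hm he h4
    obtain ⟨k', hk⟩ := he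
    obtain ⟨o, rfl⟩ : ∃ o, h = 2 * (2 * o + 1) := ⟨k' / 2, by omega⟩
    have hS8 : Nat.card (S : Subgroup SL2) = 8 := by
      have hodd' : Odd ((2 * o + 1) * m) := Odd.mul ⟨o, rfl⟩ hm
      rw [S.card_eq_multiplicity, hG, show 4 * (2 * (2 * o + 1)) * m = 2 ^ 3 * ((2 * o + 1) * m) by ring,
        Nat.factorization_mul (by norm_num) (Nat.pos_iff_ne_zero.1 hodd'.pos), Finsupp.add_apply,
        Nat.Prime.factorization_pow Nat.prime_two, Finsupp.single_eq_same,
        Nat.factorization_eq_zero_of_not_dvd (by rw [← even_iff_two_dvd, Nat.not_even_iff_odd]; exact hodd'),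
        add_zero]
      norm_num
    rw [hS8] at hcard
    have hij : (j : M2) * i = -((i : M2) * j) := by
      have hinv : i⁻¹ = i * i * i := by
        refine inv_eq_of_mul_eq_one_right (eq_one_of_coe ?_)
        simp only [Matrix.SpecialLinearGroup.coe_mul, ← mul_assoc, hii]
        rw [mul_assoc, hii]; simp
      have := mul_inv_eq_iff_eq_mul.1 (hjy i hiT)
      rw [hinv] at this
      have e := congrArg Subtype.val this
      simp only [Matrix.SpecialLinearGroup.coe_mul, hii] at e
      rw [e]; simp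
    obtain ⟨u, hu3, hui, huj⟩ := exists_three T.two_ne hii hjj hij
    have ha4 : a ^ (4 : ℕ) = 1 := by
      have d1 : orderOf a ∣ 8 := hS8 ▸ Subgroup.orderOf_dvd_natCard _ haS
      have d2 : orderOf a ∣ 2 * (2 * (2 * o + 1)) := T.card_torus ▸ Subgroup.orderOf_dvd_natCard _ haT
      have d3 := Nat.dvd_gcd d1 d2
      rw [show 2 * (2 * (2 * o + 1)) = 4 * (2 * o + 1) by ring, show (8 : ℕ) = 4 * 2 from rfl,
        Nat.gcd_mul_left, show Nat.gcd 2 (2 * o + 1) = 1 by simp] at d3
      exact orderOf_dvd_iff_pow_eq_one.1 (by simpa using d3)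
    -- every element of the torus part is a power of `i`
    have hai : (S : Subgroup SL2) ⊓ Subgroup.zpowers c = Subgroup.zpowers i := by
      refine (Subgroup.eq_of_le_of_card_ge (Subgroup.zpowers_le.2 (Subgroup.mem_inf.2 ⟨hiS, hiT⟩)) ?_).symm
      have hz : Nat.card ((S : Subgroup SL2) ⊓ Subgroup.zpowers c : Subgroup SL2) ∣ 4 := by
        have d := orderOf_dvd_iff_pow_eq_one.2 ha4
        rwa [← Subgroup.orderOf_mk a ha, orderOf_eq_card_of_forall_mem_zpowers hgen] at d
      refine le_trans (Nat.le_of_dvd (by norm_num) hz) (le_of_eq ?_)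
      rw [Nat.card_zpowers]
      symm
      refine orderOf_eq_prime_pow (p := 2) (n := 1) ?_ (eq_one_of_coe ?_)
      · intro e
        rcases sq_eq_one_cases T.two_ne (show i ^ 2 = 1 by simpa using e) with e | e
        · exact hi1 e
        · exact hi2 e
      · rw [Matrix.SpecialLinearGroup.coe_pow, show (2 : ℕ) ^ (1 + 1) = 2 + 2 from rfl, pow_add, pow_two, hii]
        simp
    have huN : u ∈ N := by
      refine SL2Tori.mem_normalizer_of_conj_mem fun x hx => ?_
      have hz : ∀ y ∈ Subgroup.zpowers i, u * y * u⁻¹ ∈ (S : Subgroup SL2) := by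
        intro y hy
        obtain ⟨r, rfl⟩ := Subgroup.mem_zpowers_iff.1 hy
        rw [← conj_zpow, hui]
        exact zpow_mem hjS r
      rcases hmemS x hx with hy | hy <;> rw [hai] at hy
      · exact hz x hy
      · rw [show u * x * u⁻¹ = (u * j * u⁻¹) * (u * (j⁻¹ * x) * u⁻¹) by group, huj]
        exact mul_mem (mul_mem hiS hjS) (hz _ hy)
    let U : N := ⟨u, huN⟩
    have hfIJ : ∀ f : N →* ℂˣ, f I = 1 ∧ f J = 1 := by
      intro f
      have e1 : f J = f I := by
        rw [← hom_apply_conj f U I]; exact congrArg f (Subtype.ext hui.symm)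
      have e2 : f I * f J = f J := by
        rw [← map_mul, ← hom_apply_conj f U J]; exact congrArg f (Subtype.ext huj.symm)
      have hI : f I = 1 := mul_eq_right.1 e2
      exact ⟨hI, e1.trans hI⟩
    have hu1 : u ≠ 1 := by
      rintro rfl
      rw [one_mul, inv_one, mul_one] at hui
      exact hjT (hui ▸ hiT)
    have hfU : ∀ f g : N →* ℂˣ, f U = g U → f = g := by
      intro f g e
      have hA : f A = g A := by
        obtain ⟨r, hr⟩ := Subgroup.mem_zpowers_iff.1 (hai ▸ ha : a ∈ Subgroup.zpowers i)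
        rw [show A = I ^ r from Subtype.ext (by rw [Subgroup.coe_zpow]; exact hr.symm), map_zpow, map_zpow,
          (hfIJ f).1, (hfIJ g).1]
      have hJ : f J = g J := (hfIJ f).2.trans (hfIJ g).2.symm
      let K : Subgroup N := MonoidHom.eqLocus f g
      have hSK : Nat.card (S : Subgroup SL2) ∣ Nat.card K := by
        rw [← Nat.card_congr (Subgroup.subgroupOfEquivOfLe hSN).toEquiv]
        exact Subgroup.card_dvd_of_le fun x hx => hfS f g hA hJ x (Subgroup.mem_subgroupOf.1 hx)
      have h3K : 3 ∣ Nat.card K := by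
        have h3 : orderOf u = 3 := orderOf_eq_prime (hp := ⟨Nat.prime_three⟩) hu3 hu1
        rw [← h3, ← Subgroup.orderOf_mk u huN, ← Subgroup.orderOf_mk U (show U ∈ K from e)]
        exact orderOf_dvd_natCard _
      rw [hS8] at hSK
      have h24 : 24 ∣ Nat.card K := Nat.Coprime.mul_dvd_of_dvd_of_dvd (show Nat.Coprime 8 3 by norm_num) hSK h3K
      have htop : K = ⊤ := by
        refine Subgroup.eq_top_of_card_eq K (le_antisymm (Subgroup.card_le_card_group K) ?_)
        rw [hcard]
        exact Nat.le_of_dvd Nat.card_pos h24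
      exact MonoidHom.ext fun x => (htop ▸ Subgroup.mem_top x : x ∈ K)
    have hL : Nat.card (N →* ℂˣ) ≤ 3 := by
      have hU : ∀ f : N →* ℂˣ, f U ∈ rootsOfUnity 3 ℂ := fun f => by
        rw [mem_rootsOfUnity, ← map_pow, show U ^ 3 = 1 from Subtype.ext hu3, map_one]
      refine (Nat.card_le_card_of_injective (fun f : N →* ℂˣ => (⟨f U, hU f⟩ : rootsOfUnity 3 ℂ))
        fun f g hh => hfU f g (congrArg Subtype.val hh)).trans ?_
      exact card_rootsOfUnity ℂ 3
    -- few characters of odd degree at least three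
    let : Fintype N := Fintype.ofFinite N
    have h1 := sum_sq_degrees (G := N)
    simp only [fun χ : IrrCharacter N => CfsgLib.LinearTwist.apply_one_eq_charDegree (irr_isCharacter χ)] at h1
    have h2 : ∑ χ : IrrCharacter N, charDegree (χ : N → ℂ) ^ 2 = 3 * 8 := by
      rw [← hcard]; exact_mod_cast h1
    let L := Finset.univ.filter fun χ : IrrCharacter N => charDegree (χ : N → ℂ) = 1
    let R := Finset.univ.filter fun χ : IrrCharacter N => 3 ≤ charDegree (χ : N → ℂ)
    have hR : R.card * 9 ≤ 24 := by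
      calc R.card * 9 = R.card • 9 := rfl
        _ ≤ ∑ χ ∈ R, charDegree (χ : N → ℂ) ^ 2 := Finset.card_nsmul_le_sum _ _ _ fun χ hχ => by
            have := Nat.pow_le_pow_left (Finset.mem_filter.1 hχ).2 2
            simpa using this
        _ ≤ _ := (Finset.sum_le_univ_sum_of_nonneg fun _ => Nat.zero_le _).trans_eq (by rw [h2])
    have hL' : L.card ≤ 3 := by
      refine le_trans (le_of_eq ?_) (card_linear_le_hom.trans hL)
      rw [Nat.card_eq_fintype_card, Fintype.card_subtype]
    have hle' : mckayCount 2 N ≤ L.card + R.card := by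
      rw [mckayCount, Nat.card_eq_fintype_card, Fintype.card_subtype]
      refine (Finset.card_le_card (t := L ∪ R) fun χ hχ => ?_).trans (Finset.card_union_le _ _)
      have hd := (Finset.mem_filter.1 hχ).2
      have h0 : charDegree (χ : N → ℂ) ≠ 0 := fun e => hd (e ▸ dvd_zero 2)
      simp only [L, R, Finset.mem_union, Finset.mem_filter, Finset.mem_univ, true_and]
      omega
    omega

section char

variable [DecidableEq F] (p : ℕ) [Fact p.Prime] [CharP F p]

/-- The upper unitriangular subgroup. -/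
def uniHom2 (F : Type*) [Field F] : Multiplicative F →* Matrix.SpecialLinearGroup (Fin 2) F where
  toFun x := (bEl (1 : Fˣ) x.toAdd : Matrix.SpecialLinearGroup (Fin 2) F)
  map_one' := Subtype.ext (by simp [Matrix.one_fin_two])
  map_mul' x y := (bEl_one_mul x.toAdd y.toAdd).symm

theorem uniHom2_apply (x : Multiplicative F) : uniHom2 F x = (bEl (1 : Fˣ) x.toAdd : SL2) := rfl

theorem mckayCount_char (hodd : Odd (Fintype.card F)) (P : Sylow p SL2) :
    mckayCount p (Subgroup.normalizer ((P : Subgroup SL2) : Set SL2)) = Fintype.card F + 3 := by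
  obtain ⟨n, hn⟩ := FiniteField.card F p
  have hinj : Function.Injective (uniHom2 F) := fun x y hxy => by
    simpa [uniHom2_apply] using congrArg (fun g : SL2 => (g : M2) 0 1) hxy
  have hUc : Nat.card (uniHom2 F).range = Fintype.card F := by
    rw [← Nat.card_congr (MonoidHom.ofInjective hinj).toEquiv, Nat.card_eq_fintype_card]
    exact Fintype.card_multiplicative F
  have hfac : (Nat.card SL2).factorization p = n := by
    have h1 := Fintype.one_lt_card (α := F)
    rw [natCard_slTwo, hn.2]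
    have hnd : ¬ p ∣ (p ^ (n : ℕ) - 1) * (p ^ (n : ℕ) + 1) := by
      intro hd
      have hq : p ∣ p ^ (n : ℕ) := dvd_pow_self p n.ne_zero
      rcases (Fact.out : p.Prime).dvd_mul.1 hd with h | h
      · have := Nat.dvd_sub hq h
        rw [Nat.sub_sub_self (by have := hn.2; omega)] at this
        exact (Fact.out : p.Prime).not_dvd_one this
      · exact (Fact.out : p.Prime).not_dvd_one ((Nat.dvd_add_right hq).1 h)
    have hne : (p ^ (n : ℕ) - 1) * (p ^ (n : ℕ) + 1) ≠ 0 := by
      have := hn.2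
      refine mul_ne_zero ?_ ?_ <;> omega
    rw [Nat.factorization_mul (pow_ne_zero _ (Fact.out : p.Prime).ne_zero) hne, Finsupp.add_apply,
      (Fact.out : p.Prime).factorization_pow, Finsupp.single_eq_same, Nat.factorization_eq_zero_of_not_dvd hnd,
      add_zero]
  let Q : Sylow p SL2 := Sylow.ofCard (uniHom2 F).range (by rw [hUc, hfac, hn.2])
  rw [mckayCount_normalizer_sylow p P Q]
  have hQ : (Q : Subgroup SL2) = (uniHom2 F).range := rfl
  rw [hQ]
  have hNB : Subgroup.normalizer (((uniHom2 F).range : Subgroup SL2) : Set SL2) = borel F := by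
    ext g
    constructor
    · intro hg
      obtain ⟨x, hx⟩ := (Subgroup.mem_normalizer_iff.1 hg _).1 ⟨Multiplicative.ofAdd (1 : F), rfl⟩
      rw [eq_comm, mul_inv_eq_iff_eq_mul] at hx
      have e := congrArg (fun g : SL2 => (g : M2)) hx
      simp [uniHom2_apply] at e
      have e00 := congrFun (congrFun e 0) 0
      have e11 := congrFun (congrFun e 1) 1
      have e01 := congrFun (congrFun e 0) 1
      simp [Matrix.mul_apply, Matrix.vecMul, dotProduct, Fin.sum_univ_two] at e00 e11 e01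
      rw [mem_borel]
      linear_combination e11
    · intro hg
      refine SL2Tori.mem_normalizer_of_conj_mem fun x hx => ?_
      obtain ⟨y, rfl⟩ := hx
      obtain ⟨⟨a, b⟩, hab⟩ := bEl_bijective.2 (⟨g, hg⟩ : borel F)
      have hg' : g = (bEl a b : SL2) := congrArg Subtype.val hab.symm
      refine ⟨Multiplicative.ofAdd ((a : F) * (a : F) * y.toAdd), ?_⟩
      rw [eq_mul_inv_iff_mul_eq, hg']
      refine Subtype.ext ?_
      simp only [uniHom2_apply, toAdd_ofAdd, Matrix.SpecialLinearGroup.coe_mul, bEl_coe]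
      ext i j
      fin_cases i <;> fin_cases j <;> simp [Matrix.mul_apply, Fin.sum_univ_two]
      field_simp
      ring
  rw [hNB]
  have hle : (uniHom2 F).range ≤ borel F := hNB ▸ Subgroup.le_normalizer
  have hnorm : ((uniHom2 F).range.subgroupOf (borel F)).Normal := by
    refine ⟨fun x hx g => ?_⟩
    have hg : (g : SL2) ∈ Subgroup.normalizer (((uniHom2 F).range : Subgroup SL2) : Set SL2) := hNB.symm ▸ g.2
    exact (Subgroup.mem_normalizer_iff.1 hg _).1 hx
  have hab : ∀ a ∈ (uniHom2 F).range.subgroupOf (borel F), ∀ b ∈ (uniHom2 F).range.subgroupOf (borel F),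
      a * b = b * a := by
    intro a ha b hb
    obtain ⟨x, hx⟩ := Subgroup.mem_subgroupOf.1 ha
    obtain ⟨y, hy⟩ := Subgroup.mem_subgroupOf.1 hb
    refine Subtype.ext ?_
    rw [Subgroup.coe_mul, Subgroup.coe_mul, ← hx, ← hy, ← map_mul, ← map_mul, mul_comm]
  rw [← card_conjClasses_borel hodd]
  refine mckayCount_of_abelian_normal ((uniHom2 F).range.subgroupOf (borel F)) hab fun hd => ?_
  have hcard := Subgroup.card_mul_index ((uniHom2 F).range.subgroupOf (borel F))
  rw [Nat.card_congr (Subgroup.subgroupOfEquivOfLe hle).toEquiv, hUc, card_borel, mul_comm (_ - 1)] at hcard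
  rw [Nat.eq_of_mul_eq_mul_left Fintype.card_pos hcard] at hd
  have hq : p ∣ Fintype.card F := hn.2 ▸ dvd_pow_self p n.ne_zero
  have := Nat.dvd_sub hq hd
  rw [Nat.sub_sub_self Fintype.card_pos] at this
  exact (Fact.out : p.Prime).not_dvd_one this

end char

end CfsgLib.SL2Char
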