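import Cfsg.Agent.Lib.SL2Tori.Induced
import Cfsg.Agent.Lib.Characters.Generalized

/-!
The principal series of `SL_2(q)`.
-/

set_option autoImplicit false

namespace CfsgLib.SL2Char

open Matrix Cfsg
open CfsgLib.SL2Tori CfsgLib.Characters
open scoped ComplexConjugate

variable {F : Type*} [Field F] [Fintype F] [DecidableEq F]

local notation "SL2" => Matrix.SpecialLinearGroup (Fin 2) F
local notation "M2" => Matrix (Fin 2) (Fin 2) F

/-- The principal series function induced from `b ↦ α(b₁₁)`. -/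
noncomputable def ps (α : MulChar F ℂ) : Matrix.SpecialLinearGroup (Fin 2) F → ℂ :=
  Cfsg.indFun (borel F) (borelChar α)

omit [Fintype F] [DecidableEq F] in
/-- The linear character of the Borel subgroup as a homomorphism. -/
theorem exists_borelHom (α : MulChar F ℂ) :
    ∃ f : borel F →* ℂˣ, (fun b => (f b : ℂ)) = borelChar α := by
  refine ⟨MonoidHom.toHomUnits
    { toFun := borelChar α
      map_one' := by simp [borelChar]
      map_mul' := fun x y => by simp only [borelChar, borel_mul_zero_zero, map_mul] }, ?_⟩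
  rfl

omit [Fintype F] [DecidableEq F] in
theorem isCharacter_borelChar (α : MulChar F ℂ) : IsCharacter (borel F) (borelChar α) := by
  obtain ⟨f, hf⟩ := exists_borelHom α
  exact hf ▸ isCharacter_of_irr (isIrrCharacter_of_hom f)

theorem isCharacter_ps (α : MulChar F ℂ) : IsCharacter SL2 (ps α) :=
  CfsgLib.Induction.isCharacter_indFun (borel F) (isCharacter_borelChar α)

theorem classInner_ps (α β : MulChar F ℂ) [Decidable (α = β)] [Decidable (α = β⁻¹)] :
    classInner (ps α) (ps β) = (if α = β then 1 else 0) + (if α = β⁻¹ then 1 else 0) :=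
  classInner_borelChar α β

omit [Fintype F] [DecidableEq F] in
theorem mulChar_sq_eq_one_iff {α : MulChar F ℂ} : α ^ 2 = 1 ↔ α = α⁻¹ := by
  rw [pow_two, mul_eq_one_iff_eq_inv]

theorem isIrrCharacter_ps_iff (α : MulChar F ℂ) : IsIrrCharacter SL2 (ps α) ↔ α ^ 2 ≠ 1 := by
  classical
  rw [isIrrCharacter_iff_classInner_self (isCharacter_ps α), classInner_ps, if_pos rfl,
    Ne, mulChar_sq_eq_one_iff]
  split_ifs with h
  · exact iff_of_false (by norm_num) (not_not.2 h)
  · exact iff_of_true (by ring) h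

theorem ps_inv (α : MulChar F ℂ) : ps α⁻¹ = ps α := by
  classical
  have hc : ∀ β : MulChar F ℂ, IsClassFunction SL2 (ps β) := fun β =>
    isClassFunction_of_isCharacter (isCharacter_ps β)
  -- the difference has norm zero
  by_cases hne : α = α⁻¹
  · rw [← hne]
  have key : classInner (ps α⁻¹ - ps α) (ps α⁻¹ - ps α) = 0 := by
    simp [classInner_sub_left, classInner_sub_right, classInner_ps, hne, Ne.symm hne]
  funext g
  set d := ps α⁻¹ - ps α with hd
  have h0 : ∑ x : SL2, Complex.normSq (d x) = 0 := by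
    have h1 : ((∑ x : SL2, Complex.normSq (d x) : ℝ) : ℂ) = ∑ x : SL2, d x * conj (d x) := by
      push_cast
      exact Finset.sum_congr rfl fun x _ => (Complex.mul_conj (d x)).symm
    rw [classInner, mul_eq_zero] at key
    have h2 := key.resolve_left (inv_ne_zero (Nat.cast_ne_zero.2 Nat.card_pos.ne'))
    exact_mod_cast h1.trans h2
  have h3 := (Finset.sum_eq_zero_iff_of_nonneg fun x _ => Complex.normSq_nonneg _).1 h0 g (Finset.mem_univ _)
  rw [Complex.normSq_eq_zero, hd, Pi.sub_apply, sub_eq_zero] at h3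
  exact h3

theorem ps_apply (α : MulChar F ℂ) (g : SL2) :
    ps α g = (if (g : M2) 1 0 = 0 then α ((g : M2) 0 0) else 0) +
      ∑ u : F, if (g : M2) 1 0 * u ^ 2 + ((g : M2) 1 1 - (g : M2) 0 0) * u - (g : M2) 0 1 = 0
        then α ((g : M2) 1 0 * u + (g : M2) 1 1) else 0 :=
  indFun_borelChar_apply α g

theorem ps_one (α : MulChar F ℂ) : ps α 1 = (Fintype.card F : ℂ) + 1 := by
  rw [ps_apply]; simp; ring

theorem ps_neg_one (α : MulChar F ℂ) : ps α (-1) = α (-1) * ((Fintype.card F : ℂ) + 1) := by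
  rw [ps_apply]; simp; ring

theorem ps_bEl_hyp (α : MulChar F ℂ) {a : Fˣ} (b : F) (ha : (a : F) ^ 2 ≠ 1) :
    ps α (bEl a b : SL2) = α (a : F) + α (a : F)⁻¹ := by
  have hne : (a : F)⁻¹ - (a : F) ≠ 0 := fun e => ha (by
    rw [sq, mul_eq_one_iff_eq_inv₀ a.ne_zero]; linear_combination -e)
  rw [ps_apply]
  simp only [bEl_coe, Matrix.of_apply, Matrix.cons_val', Matrix.cons_val_zero, Matrix.cons_val_one,
    Matrix.cons_val_fin_one, Units.val_inv_eq_inv_val, zero_mul, zero_add, if_true]
  rw [Finset.sum_eq_single (b / ((a : F)⁻¹ - (a : F)))]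
  · rw [if_pos (by rw [mul_div_cancel₀ _ hne, sub_self])]
  · intro u _ hu
    rw [if_neg]
    intro e
    apply hu
    rw [eq_div_iff hne]
    linear_combination e
  · simp

theorem ps_bEl_uni (α : MulChar F ℂ) {ε : Fˣ} (hε : ε = 1 ∨ ε = -1) {b : F} (hb : b ≠ 0) :
    ps α (bEl ε b : SL2) = α (ε : F) := by
  rw [ps_apply]
  rcases hε with rfl | rfl <;> simp [hb]

theorem ps_noRoot (α : MulChar F ℂ) {g : SL2} (hg : NoRoot (g : M2)) : ps α g = 0 := by
  have hd : ((g : M2)).det = 1 := g.prop
  rw [Matrix.det_fin_two] at hd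
  have hg' : ¬ IsSquare (((g : M2) 0 0 + (g : M2) 1 1) ^ 2 - 4) := by
    rw [← Matrix.trace_fin_two]; exact hg
  have hc : (g : M2) 1 0 ≠ 0 := fun hc => hg' ⟨(g : M2) 0 0 - (g : M2) 1 1, by
    rw [hc, mul_zero, sub_zero] at hd; linear_combination 4 * hd⟩
  rw [ps_apply, if_neg hc, zero_add]
  refine Finset.sum_eq_zero fun u _ => if_neg fun e => hg'
    ⟨2 * (g : M2) 1 0 * u + ((g : M2) 1 1 - (g : M2) 0 0), ?_⟩
  linear_combination (-4 * (g : M2) 1 0) * e + 4 * hd

theorem sum_borel [Fintype (borel F)] {f : borel F → ℂ} : ∑ x : borel F, f x = ∑ a : Fˣ, ∑ b : F, f (bEl a b) := by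
  rw [← Fintype.sum_prod_type']
  exact (Fintype.sum_bijective _ bEl_bijective _ _ fun p => rfl).symm

theorem classInner_ps_one (α : MulChar F ℂ) [Decidable (α = 1)] :
    classInner (ps α) (fun _ => (1 : ℂ)) = if α = 1 then 1 else 0 := by
  classical
  rw [ps, CfsgLib.Induction.classInner_indFun (borel F) _ (fun _ _ => rfl)]
  unfold classInner
  simp only [map_one, mul_one]
  rw [sum_borel]
  simp only [borelChar, bEl_coe, Matrix.of_apply, Matrix.cons_val', Matrix.cons_val_zero,
    Matrix.cons_val_fin_one, Finset.sum_const, Finset.card_univ, nsmul_eq_mul]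
  rw [← Finset.mul_sum, sum_units_mulChar, card_borel, Nat.cast_mul, Nat.cast_sub Fintype.card_pos,
    Nat.cast_one]
  have hq : (Fintype.card F : ℂ) ≠ 0 := Nat.cast_ne_zero.2 Fintype.card_ne_zero
  have hq1 : (Fintype.card F : ℂ) - 1 ≠ 0 := by
    rw [sub_ne_zero]; exact_mod_cast Fintype.one_lt_card.ne'
  split_ifs <;> field_simp <;> ring

/-- The Steinberg function. -/
noncomputable def steinberg : Matrix.SpecialLinearGroup (Fin 2) F → ℂ :=
  ps 1 - fun _ => 1

theorem isIrrCharacter_steinberg : IsIrrCharacter SL2 (steinberg (F := F)) := by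
  classical
  refine isIrrCharacter_of_generalized_norm_one
    (isGeneralizedCharacter_sub (isGeneralizedCharacter_of_isCharacter (isCharacter_ps 1))
      (isGeneralizedCharacter_of_isCharacter (isCharacter_of_irr isIrrCharacter_one))) ?_ ?_
  · unfold steinberg
    rw [classInner_sub_left, classInner_sub_right, classInner_sub_right, classInner_ps,
      classInner_conj_symm (ps 1) (fun _ => 1), classInner_ps_one,
      classInner_irr_self isIrrCharacter_one]
    simp
  · simp only [steinberg, Pi.sub_apply, ps_one]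
    simp

theorem steinberg_one : steinberg (1 : SL2) = (Fintype.card F : ℂ) := by
  simp [steinberg, ps_one]

end CfsgLib.SL2Char
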