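import Cfsg.Agent.Lib.SL2Char.Discrete
import Cfsg.Agent.Lib.SL2Char.Counting
import Cfsg.Agent.Lib.Involutions.ElementaryOdd
import Cfsg.Agent.Lib.Characters.Decomp
import Cfsg.Prelude.Def_Blocks

/-!
The irreducible characters of `SL_2(q)`, `q` odd.
-/

set_option autoImplicit false

namespace CfsgLib.SL2Char

open Matrix Cfsg
open CfsgLib.SL2Tori CfsgLib.Schur CfsgLib.Characters
open scoped ComplexConjugate

variable {F : Type*} [Field F] [Fintype F] [DecidableEq F]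
variable {c : Matrix.SpecialLinearGroup (Fin 2) F} {h : ℕ}

local notation "SL2" => Matrix.SpecialLinearGroup (Fin 2) F
local notation "M2" => Matrix (Fin 2) (Fin 2) F

theorem exists_dsData (hodd : Odd (Fintype.card F)) :
    ∃ (c : SL2) (h : ℕ), DSData c h := by
  obtain ⟨c, h, hh, T, hc⟩ := exists_nonsplit hodd
  exact ⟨c, h, T, hc, hh⟩

/-- The discrete series function of `θ`. -/
noncomputable def dsFun (D : DSData c h) (θ : Subgroup.zpowers c →* ℂˣ) :
    Matrix.SpecialLinearGroup (Fin 2) F → ℂ :=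
  ds (exists_alpha D θ).choose θ

variable (D : DSData c h)
include D

theorem dsFun_spec (θ : Subgroup.zpowers c →* ℂˣ) :
    (exists_alpha D θ).choose (-1) = zsign D θ := (exists_alpha D θ).choose_spec

theorem isGeneralizedCharacter_dsFun (θ : Subgroup.zpowers c →* ℂˣ) :
    IsGeneralizedCharacter SL2 (dsFun D θ) := isGeneralizedCharacter_ds _ θ

theorem dsFun_one (θ : Subgroup.zpowers c →* ℂˣ) : dsFun D θ 1 = (Fintype.card F : ℂ) - 1 :=
  ds_one D (dsFun_spec D θ)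

theorem dsFun_neg_one (θ : Subgroup.zpowers c →* ℂˣ) :
    dsFun D θ (-1) = ((Fintype.card F : ℂ) - 1) * zsign D θ :=
  ds_neg_one D (dsFun_spec D θ)

theorem classInner_dsFun_ps (θ : Subgroup.zpowers c →* ℂˣ) (β : MulChar F ℂ) :
    classInner (dsFun D θ) (ps β) = 0 :=
  classInner_ds_ps D (dsFun_spec D θ) β

theorem classInner_dsFun_one {θ : Subgroup.zpowers c →* ℂˣ} (hθ : θ ≠ 1) :
    classInner (dsFun D θ) (fun _ => (1 : ℂ)) = 0 :=
  classInner_ds_one D (dsFun_spec D θ) hθ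

theorem classInner_dsFun (θ θ' : Subgroup.zpowers c →* ℂˣ) [Decidable (θ = θ')] [Decidable (θ = θ'⁻¹)] :
    classInner (dsFun D θ) (dsFun D θ') = (if θ = θ' then 1 else 0) + (if θ = θ'⁻¹ then 1 else 0) :=
  classInner_ds_ds D (dsFun_spec D θ) (dsFun_spec D θ')

theorem isIrrCharacter_dsFun {θ : Subgroup.zpowers c →* ℂˣ} (hθ : θ ^ 2 ≠ 1) :
    IsIrrCharacter SL2 (dsFun D θ) := by
  classical
  refine isIrrCharacter_of_generalized_norm_one (isGeneralizedCharacter_dsFun D θ) ?_ ?_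
  · rw [classInner_dsFun, if_pos rfl, if_neg (fun e => hθ (by rw [pow_two]; nth_rw 2 [e]; exact mul_inv_cancel θ)), add_zero]
  · rw [dsFun_one]
    simp only [Complex.sub_re, Complex.natCast_re, Complex.one_re, sub_nonneg, Nat.one_le_cast]
    exact Fintype.card_pos

omit [DecidableEq F] in
theorem card_thetaHom : Nat.card (Subgroup.zpowers c →* ℂˣ) = Fintype.card F + 1 := by
  let : CommGroup (Subgroup.zpowers c) := IsCyclic.commGroup
  rw [CommGroup.card_monoidHom_of_hasEnoughRootsOfUnity, D.torus.card_torus, D.card_eq]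

omit [DecidableEq F] in
theorem finite_thetaHom : Finite (Subgroup.zpowers c →* ℂˣ) :=
  Nat.finite_of_card_ne_zero (by rw [card_thetaHom D]; omega)

omit [DecidableEq F] in
theorem isCyclic_thetaHom : IsCyclic (Subgroup.zpowers c →* ℂˣ) := by
  let : CommGroup (Subgroup.zpowers c) := IsCyclic.commGroup
  obtain ⟨e⟩ := CommGroup.monoidHom_mulEquiv_of_hasEnoughRootsOfUnity (Subgroup.zpowers c) ℂ
  exact isCyclic_of_surjective e.symm.toMonoidHom e.symm.surjective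

omit [DecidableEq F] in
/-- The order-two character of the torus. -/
theorem exists_theta0 : ∃ θ₀ : Subgroup.zpowers c →* ℂˣ, θ₀ ≠ 1 ∧
    ∀ θ : Subgroup.zpowers c →* ℂˣ, θ ^ 2 = 1 ↔ θ = 1 ∨ θ = θ₀ := by
  have := finite_thetaHom D
  have := isCyclic_thetaHom D
  exact exists_involution_of_cyclic (by rw [card_thetaHom D, D.card_eq]; exact dvd_mul_right 2 h)

omit [DecidableEq F] in
theorem theta0_gen {θ₀ : Subgroup.zpowers c →* ℂˣ} (h1 : θ₀ ≠ 1) (h2 : θ₀ ^ 2 = 1) :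
    (θ₀ ⟨c, Subgroup.mem_zpowers c⟩ : ℂ) = -1 := by
  have e : (θ₀ ⟨c, Subgroup.mem_zpowers c⟩ : ℂ) ^ 2 = 1 := by
    have := congrArg (fun t : Subgroup.zpowers c →* ℂˣ => (t ⟨c, Subgroup.mem_zpowers c⟩ : ℂ)) h2
    simpa [MonoidHom.pow_apply] using this
  refine (sq_eq_one_iff.1 e).resolve_left fun e1 => h1 (MonoidHom.ext fun x => ?_)
  obtain ⟨i, hi⟩ := Subgroup.mem_zpowers_iff.1 x.2
  rw [show x = (⟨c, Subgroup.mem_zpowers c⟩ : Subgroup.zpowers c) ^ i from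
    Subtype.ext (by rw [Subgroup.coe_zpow, hi]), map_zpow, Units.ext (e1.trans Units.val_one.symm), _root_.one_zpow,
    MonoidHom.one_apply]

theorem zsign_theta0 {θ₀ : Subgroup.zpowers c →* ℂˣ} (h1 : θ₀ ≠ 1) (h2 : θ₀ ^ 2 = 1) :
    zsign D θ₀ = (-1) ^ h := by
  rw [zsign_def, show (⟨-1, D.neg_one_mem⟩ : Subgroup.zpowers c) =
    (⟨c, Subgroup.mem_zpowers c⟩ : Subgroup.zpowers c) ^ h from
    Subtype.ext (by rw [Subgroup.coe_pow, TorusGen.pow_h_eq D.torus]), map_pow, Units.val_pow_eq_pow_val,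
    theta0_gen D h1 h2]

omit D in
theorem isCyclic_mulChar : IsCyclic (MulChar F ℂ) := by
  obtain ⟨e⟩ := MulChar.mulEquiv_units (M := F) (R := ℂ)
  exact isCyclic_of_surjective e.symm.toMonoidHom e.symm.surjective

omit D [DecidableEq F] in
theorem card_mulChar : Nat.card (MulChar F ℂ) = Fintype.card F - 1 := by
  rw [MulChar.card_eq_card_units_of_hasEnoughRootsOfUnity, Nat.card_units, Nat.card_eq_fintype_card]

/-- The order-two character of the field, with its value at `-1`. -/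
theorem exists_alpha0 : ∃ α₀ : MulChar F ℂ, α₀ ≠ 1 ∧ (∀ α : MulChar F ℂ, α ^ 2 = 1 ↔ α = 1 ∨ α = α₀) ∧
    α₀ (-1) = -(-1) ^ h := by
  have := isCyclic_mulChar (F := F)
  have hq := D.card_eq
  obtain ⟨α₀, h1, hsq⟩ := exists_involution_of_cyclic (M := MulChar F ℂ)
    (by rw [card_mulChar]; exact ⟨h - 1, by omega⟩)
  refine ⟨α₀, h1, hsq, ?_⟩
  obtain ⟨u, hu⟩ := IsCyclic.exists_generator (α := Fˣ)
  have hou : orderOf u = 2 * (h - 1) := by
    rw [orderOf_eq_card_of_forall_mem_zpowers hu, Nat.card_units, Nat.card_eq_fintype_card]; omega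
  have h2 := (hsq α₀).2 (Or.inr rfl)
  have hu2 : (α₀ (u : F)) ^ 2 = 1 := by
    rw [← MulChar.pow_apply' α₀ two_ne_zero, h2, MulChar.one_apply_coe]
  have hgu : α₀ (u : F) = -1 := by
    refine (sq_eq_one_iff.1 hu2).resolve_left fun e1 => h1 (MulChar.ext fun x => ?_)
    obtain ⟨i, rfl⟩ := Subgroup.mem_zpowers_iff.1 (hu x)
    have hx : MulChar.toUnitHom α₀ (u ^ i) = 1 := by
      rw [map_zpow, show MulChar.toUnitHom α₀ u = 1 from Units.ext (by rw [MulChar.coe_toUnitHom]; exact e1),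
        _root_.one_zpow]
    rw [MulChar.one_apply_coe, ← MulChar.coe_toUnitHom, hx, Units.val_one]
  have hh := D.torus.two_le
  have hm1 : ((u ^ (h - 1) : Fˣ) : F) = -1 := by
    have e : (u ^ (h - 1)) ^ 2 = 1 := by rw [← pow_mul, mul_comm, ← hou, pow_orderOf_eq_one]
    refine (sq_eq_one_iff.1 (by rw [← Units.val_pow_eq_pow_val, e, Units.val_one])).resolve_left fun e1 => ?_
    have := orderOf_le_of_pow_eq_one (show 0 < h - 1 by omega) (Units.ext (e1.trans Units.val_one.symm))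
    omega
  obtain ⟨r, hr⟩ : ∃ r, h = r + 1 := ⟨h - 1, by omega⟩
  rw [← hm1, Units.val_pow_eq_pow_val, map_pow, hgu, hr, Nat.add_sub_cancel, pow_succ]
  ring

/-- The table of irreducible characters. -/
structure Table (α₀ : MulChar F ℂ) (θ₀ : Subgroup.zpowers c →* ℂˣ)
    (η₁ η₂ χ₁ χ₂ : IrrCharacter (Matrix.SpecialLinearGroup (Fin 2) F)) : Prop where
  alpha_ne : α₀ ≠ 1
  alpha_sq : ∀ α : MulChar F ℂ, α ^ 2 = 1 ↔ α = 1 ∨ α = α₀
  alpha_neg : α₀ (-1) = -(-1) ^ h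
  theta_ne : θ₀ ≠ 1
  theta_sq : ∀ θ : Subgroup.zpowers c →* ℂˣ, θ ^ 2 = 1 ↔ θ = 1 ∨ θ = θ₀
  eta_ne : η₁ ≠ η₂
  eta_sum : ps α₀ = (η₁ : Matrix.SpecialLinearGroup (Fin 2) F → ℂ) + (η₂ : Matrix.SpecialLinearGroup (Fin 2) F → ℂ)
  chi_ne : χ₁ ≠ χ₂
  chi_sum : dsFun D θ₀ = (χ₁ : Matrix.SpecialLinearGroup (Fin 2) F → ℂ) + (χ₂ : Matrix.SpecialLinearGroup (Fin 2) F → ℂ)
  eta_deg₁ : 2 * charDegree (η₁ : Matrix.SpecialLinearGroup (Fin 2) F → ℂ) = Fintype.card F + 1
  eta_deg₂ : 2 * charDegree (η₂ : Matrix.SpecialLinearGroup (Fin 2) F → ℂ) = Fintype.card F + 1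
  chi_deg₁ : 2 * charDegree (χ₁ : Matrix.SpecialLinearGroup (Fin 2) F → ℂ) + 1 = Fintype.card F
  chi_deg₂ : 2 * charDegree (χ₂ : Matrix.SpecialLinearGroup (Fin 2) F → ℂ) + 1 = Fintype.card F
  eta_ne_chi : η₁ ≠ χ₁ ∧ η₁ ≠ χ₂ ∧ η₂ ≠ χ₁ ∧ η₂ ≠ χ₂
  eta_neg : ∀ η, η = η₁ ∨ η = η₂ →
    (η : Matrix.SpecialLinearGroup (Fin 2) F → ℂ) (-1) = α₀ (-1) * (η : Matrix.SpecialLinearGroup (Fin 2) F → ℂ) 1
  complete : ∀ χ : IrrCharacter (Matrix.SpecialLinearGroup (Fin 2) F),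
    (χ : Matrix.SpecialLinearGroup (Fin 2) F → ℂ) = (fun _ => 1) ∨
    (χ : Matrix.SpecialLinearGroup (Fin 2) F → ℂ) = steinberg ∨
    (∃ α : MulChar F ℂ, α ^ 2 ≠ 1 ∧ (χ : Matrix.SpecialLinearGroup (Fin 2) F → ℂ) = ps α) ∨
    (∃ θ : Subgroup.zpowers c →* ℂˣ, θ ^ 2 ≠ 1 ∧ (χ : Matrix.SpecialLinearGroup (Fin 2) F → ℂ) = dsFun D θ) ∨
    χ = η₁ ∨ χ = η₂ ∨ χ = χ₁ ∨ χ = χ₂
  card_ps : 2 * Nat.card {χ : IrrCharacter (Matrix.SpecialLinearGroup (Fin 2) F) //
    ∃ α : MulChar F ℂ, α ^ 2 ≠ 1 ∧ (χ : Matrix.SpecialLinearGroup (Fin 2) F → ℂ) = ps α} + 3 = Fintype.card F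
  card_ds : 2 * Nat.card {χ : IrrCharacter (Matrix.SpecialLinearGroup (Fin 2) F) //
    ∃ θ : Subgroup.zpowers c →* ℂˣ, θ ^ 2 ≠ 1 ∧
      (χ : Matrix.SpecialLinearGroup (Fin 2) F → ℂ) = dsFun D θ} + 1 = Fintype.card F
  card_irr : Nat.card (IrrCharacter (Matrix.SpecialLinearGroup (Fin 2) F)) = Fintype.card F + 4

omit D in
theorem classInner_ne_zero_of_eq {G : Type*} [Group G] [Fintype G] {φ ψ : G → ℂ} {χ : IrrCharacter G}
    (hφ : φ = (χ : G → ℂ)) (hψ : classInner ψ φ = 0) : classInner ψ (χ : G → ℂ) = 0 := hφ ▸ hψ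

theorem ps_eq_iff {α β : MulChar F ℂ} (hα : α ^ 2 ≠ 1) : ps α = ps β ↔ β = α ∨ β = α⁻¹ := by
  classical
  constructor
  · intro e
    have h1 : classInner (ps α) (ps α) = 1 := classInner_irr_self ((isIrrCharacter_ps_iff α).2 hα)
    nth_rw 2 [e] at h1
    rw [classInner_ps] at h1
    by_contra hne
    push Not at hne
    rw [if_neg (Ne.symm hne.1), if_neg (fun e' => hne.2 (by simp [e']))] at h1
    norm_num at h1
  · rintro (rfl | rfl)
    · rfl
    · exact (ps_inv α).symm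

theorem dsFun_eq_iff {θ θ' : Subgroup.zpowers c →* ℂˣ} (hθ : θ ^ 2 ≠ 1) (hθ' : θ' ^ 2 ≠ 1) :
    dsFun D θ = dsFun D θ' ↔ θ' = θ ∨ θ' = θ⁻¹ := by
  classical
  constructor
  · intro e
    have h1 : classInner (dsFun D θ) (dsFun D θ) = 1 := classInner_irr_self (isIrrCharacter_dsFun D hθ)
    nth_rw 2 [e] at h1
    rw [classInner_dsFun] at h1
    by_contra hne
    push Not at hne
    rw [if_neg (Ne.symm hne.1), if_neg (fun e' => hne.2 (MonoidHom.ext fun x => by rw [e', MonoidHom.inv_apply, MonoidHom.inv_apply, inv_inv]))] at h1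
    norm_num at h1
  · intro e
    by_contra hne
    have h0 := classInner_irr_ne (isIrrCharacter_dsFun D hθ) (isIrrCharacter_dsFun D hθ') hne
    rw [classInner_dsFun] at h0
    rcases e with rfl | rfl
    · exact hne rfl
    · rw [if_pos (inv_inv θ).symm] at h0
      split_ifs at h0 <;> norm_num at h0

set_option maxHeartbeats 1600000 in
theorem exists_table : ∃ (α₀ : MulChar F ℂ) (θ₀ : Subgroup.zpowers c →* ℂˣ)
    (η₁ η₂ χ₁ χ₂ : IrrCharacter SL2), Table D α₀ θ₀ η₁ η₂ χ₁ χ₂ := by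
  classical
  obtain ⟨α₀, hα1, hαsq, hαn⟩ := exists_alpha0 D
  obtain ⟨θ₀, hθ1, hθsq⟩ := exists_theta0 D
  have hα2 := (hαsq α₀).2 (Or.inr rfl)
  have hθ2 := (hθsq θ₀).2 (Or.inr rfl)
  have hαi : α₀ = α₀⁻¹ := mulChar_sq_eq_one_iff.1 hα2
  have hθi : θ₀ = θ₀⁻¹ := by rwa [pow_two, mul_eq_one_iff_eq_inv] at hθ2
  have nR : classInner (ps α₀) (ps α₀) = 2 := by rw [classInner_ps, if_pos rfl, if_pos hαi]; norm_num
  have nP : classInner (dsFun D θ₀) (dsFun D θ₀) = 2 := by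
    rw [classInner_dsFun, if_pos rfl, if_pos hθi]; norm_num
  obtain ⟨η₁, η₂, f₁, f₂, hη, hf₁, hf₂, hR⟩ :=
    exists_pair_of_norm_two (isGeneralizedCharacter_of_isCharacter (isCharacter_ps α₀)) nR
  obtain ⟨χ₁, χ₂, e₁, e₂, hχ, he₁, he₂, hP⟩ := exists_pair_of_norm_two (isGeneralizedCharacter_dsFun D θ₀) nP
  have coef : ∀ (a b : IrrCharacter SL2) (x y : ℤ) (φ : SL2 → ℂ), a ≠ b →
      φ = (x : ℂ) • (a : SL2 → ℂ) + (y : ℂ) • (b : SL2 → ℂ) → ∀ k : IrrCharacter SL2,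
      classInner φ (k : SL2 → ℂ) = if k = a then (x : ℂ) else if k = b then (y : ℂ) else 0 := by
    intro a b x y φ hab hφ k
    rw [hφ, classInner_add_left, classInner_smul_left, classInner_smul_left, classInner_irr, classInner_irr]
    by_cases ha : k = a
    · subst ha; simp [hab.symm]
    · by_cases hb : k = b
      · subst hb; simp [ha, Ne.symm ha]
      · simp [ha, hb, Ne.symm ha, Ne.symm hb]
  -- the coefficients of a character are non-negative
  obtain ⟨rfl, rfl⟩ : f₁ = 1 ∧ f₂ = 1 := by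
    obtain ⟨n₁, hn₁⟩ := classInner_char_nat (isCharacter_ps α₀) (irr_isCharacter η₁)
    obtain ⟨n₂, hn₂⟩ := classInner_char_nat (isCharacter_ps α₀) (irr_isCharacter η₂)
    rw [coef η₁ η₂ f₁ f₂ _ hη hR, if_pos rfl] at hn₁
    rw [coef η₁ η₂ f₁ f₂ _ hη hR, if_neg hη.symm, if_pos rfl] at hn₂
    have a₁ : f₁ = (n₁ : ℤ) := by exact_mod_cast hn₁
    have a₂ : f₂ = (n₂ : ℤ) := by exact_mod_cast hn₂
    omega
  simp only [Int.cast_one, one_smul] at hR
  have degC : ∀ k : IrrCharacter SL2, ((charDegree (k : SL2 → ℂ) : ℕ) : ℂ) = (k : SL2 → ℂ) 1 := by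
    intro k
    obtain ⟨n, -, hn⟩ := irr_exists_degree k.2
    simp [charDegree, hn]
  set d₁ := charDegree (η₁ : SL2 → ℂ)
  set d₂ := charDegree (η₂ : SL2 → ℂ)
  set k₁ := charDegree (χ₁ : SL2 → ℂ)
  set k₂ := charDegree (χ₂ : SL2 → ℂ)
  have hd : (d₁ : ℤ) + d₂ = Fintype.card F + 1 := by
    have := congrFun hR 1
    rw [ps_one, Pi.add_apply, ← degC, ← degC] at this
    exact_mod_cast this.symm
  have hk : e₁ * k₁ + e₂ * k₂ = (Fintype.card F : ℤ) - 1 := by
    have := congrFun hP 1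
    rw [dsFun_one, Pi.add_apply, Pi.smul_apply, Pi.smul_apply, ← degC, ← degC, smul_eq_mul, smul_eq_mul] at this
    exact_mod_cast this.symm
  -- values at the central involution
  have zval : ∀ k : IrrCharacter SL2, ∃ s : ℤ, (s = 1 ∨ s = -1) ∧ (k : SL2 → ℂ) (-1) = s * (k : SL2 → ℂ) 1 := by
    intro k
    obtain ⟨s, hs, e⟩ := CfsgLib.Involutions.irr_central_involution_sign k
      (mem_center_iff.2 (Or.inr rfl)) (Subtype.ext (by simp) : (-1 : SL2) * -1 = 1)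
    exact ⟨s, hs, by simpa using e 1⟩
  obtain ⟨δ, hδ, hαn'⟩ : ∃ δ : ℤ, (δ = 1 ∨ δ = -1) ∧ α₀ (-1) = (δ : ℂ) := by
    rcases neg_one_pow_eq_or ℤ h with e | e
    · refine ⟨-1, Or.inr rfl, ?_⟩
      have e' : ((-1 : ℂ)) ^ h = 1 := by
        have := congrArg (fun t : ℤ => (t : ℂ)) e
        simpa using this
      rw [hαn, e']; simp
    · refine ⟨1, Or.inl rfl, ?_⟩
      have e' : ((-1 : ℂ)) ^ h = -1 := by
        have := congrArg (fun t : ℤ => (t : ℂ)) e
        simpa using this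
      rw [hαn, e']; simp
  have hd₁0 : 0 < d₁ := by
    obtain ⟨n, hn0, hn⟩ := irr_exists_degree η₁.2
    simpa [d₁, charDegree, hn] using hn0
  have hd₂0 : 0 < d₂ := by
    obtain ⟨n, hn0, hn⟩ := irr_exists_degree η₂.2
    simpa [d₂, charDegree, hn] using hn0
  obtain ⟨z₁, hz₁', hz₁⟩ := zval η₁
  obtain ⟨z₂, hz₂', hz₂⟩ := zval η₂
  obtain ⟨u1, u2⟩ : z₁ = δ ∧ z₂ = δ := by
    have := congrFun hR (-1)
    rw [ps_neg_one, Pi.add_apply, hz₁, hz₂, hαn', ← degC, ← degC] at this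
    have e : δ * ((Fintype.card F : ℤ) + 1) = z₁ * d₁ + z₂ * d₂ := by exact_mod_cast this
    rw [← hd] at e
    rcases hδ with rfl | rfl <;> rcases hz₁' with rfl | rfl <;> rcases hz₂' with rfl | rfl <;> omega
  rw [u1] at hz₁
  rw [u2] at hz₂
  -- inner products with the other members of the table
  let one : IrrCharacter SL2 := ⟨fun _ => 1, isIrrCharacter_one⟩
  let st : IrrCharacter SL2 := ⟨steinberg, isIrrCharacter_steinberg⟩
  have hone_ps : ∀ α : MulChar F ℂ, α ≠ 1 → classInner (ps α) (fun _ => (1 : ℂ)) = 0 := fun α hα => by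
    rw [classInner_ps_one, if_neg hα]
  have hst_ps : ∀ α : MulChar F ℂ, α ≠ 1 → classInner (ps α) steinberg = 0 := fun α hα => by
    rw [steinberg, classInner_sub_right, classInner_ps, classInner_ps_one, inv_one, if_neg hα]
    simp
  have hst_ds : ∀ θ : Subgroup.zpowers c →* ℂˣ, θ ≠ 1 → classInner (dsFun D θ) steinberg = 0 := fun θ hθ => by
    rw [steinberg, classInner_sub_right, classInner_dsFun_ps, classInner_dsFun_one D hθ, sub_zero]
  -- disjointness of the halves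
  have hRP : classInner (dsFun D θ₀) (ps α₀) = 0 := classInner_dsFun_ps D θ₀ α₀
  rw [hR, classInner_add_right, coef χ₁ χ₂ e₁ e₂ _ hχ hP, coef χ₁ χ₂ e₁ e₂ _ hχ hP] at hRP
  have he0 : (e₁ : ℂ) ≠ 0 ∧ (e₂ : ℂ) ≠ 0 := by
    rcases he₁ with rfl | rfl <;> rcases he₂ with rfl | rfl <;> norm_num
  have hdisj : η₁ ≠ χ₁ ∧ η₁ ≠ χ₂ ∧ η₂ ≠ χ₁ ∧ η₂ ≠ χ₂ := by
    have hz := congrFun hP (-1)
    rw [dsFun_neg_one, zsign_theta0 D hθ1 hθ2, Pi.add_apply, Pi.smul_apply, Pi.smul_apply, smul_eq_mul,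
      smul_eq_mul] at hz
    have hh : ((-1 : ℂ)) ^ h = -(δ : ℂ) := by
      rw [← hαn', hαn, neg_neg]
    rw [hh] at hz
    have key : ¬ (χ₁ = η₁ ∧ χ₂ = η₂ ∨ χ₁ = η₂ ∧ χ₂ = η₁) := by
      intro hh'
      have : (χ₁ : SL2 → ℂ) (-1) = (δ : ℂ) * (k₁ : ℂ) ∧ (χ₂ : SL2 → ℂ) (-1) = (δ : ℂ) * (k₂ : ℂ) := by
        rw [degC, degC]
        rcases hh' with ⟨a, b⟩ | ⟨a, b⟩ <;> rw [a, b] <;> exact ⟨‹_›, ‹_›⟩
      rw [this.1, this.2] at hz
      have hz' : ((Fintype.card F : ℤ) - 1) * -δ = e₁ * (δ * k₁) + e₂ * (δ * k₂) := by exact_mod_cast hz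
      have : δ * (2 * ((Fintype.card F : ℤ) - 1)) = 0 := by linear_combination -hz' - δ * hk
      have hq := Fintype.one_lt_card (α := F)
      rcases hδ with rfl | rfl <;> omega
    by_cases a : η₁ = χ₁
    · subst a
      rw [if_pos rfl, if_neg hη.symm] at hRP
      by_cases b : η₂ = χ₂
      · exact absurd (Or.inl ⟨rfl, b.symm⟩) key
      · rw [if_neg b, add_zero] at hRP; exact absurd hRP he0.1
    by_cases b : η₁ = χ₂
    · subst b
      rw [if_neg a, if_pos rfl] at hRP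
      by_cases b' : η₂ = χ₁
      · exact absurd (Or.inr ⟨b'.symm, rfl⟩) key
      · rw [if_neg b', if_neg hη.symm, add_zero] at hRP; exact absurd hRP he0.2
    rw [if_neg a, if_neg b, zero_add] at hRP
    refine ⟨a, b, fun a' => ?_, fun b' => ?_⟩
    · rw [if_pos a'] at hRP; exact he0.1 hRP
    · rw [if_neg (fun a' : η₂ = χ₁ => hχ (a'.symm.trans b')), if_pos b'] at hRP; exact he0.2 hRP
  obtain ⟨g11, g12, g21, g22⟩ := hdisj
  -- the generic series
  let : Fintype (MulChar F ℂ) := Fintype.ofFinite _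
  have := finite_thetaHom D
  let : Fintype (Subgroup.zpowers c →* ℂˣ) := Fintype.ofFinite _
  let A := Finset.univ.filter fun α : MulChar F ℂ => α ^ 2 ≠ 1
  let B := Finset.univ.filter fun θ : Subgroup.zpowers c →* ℂˣ => θ ^ 2 ≠ 1
  let psI : MulChar F ℂ → IrrCharacter SL2 := fun α =>
    if hα : α ^ 2 ≠ 1 then ⟨ps α, (isIrrCharacter_ps_iff α).2 hα⟩ else one
  let dsI : (Subgroup.zpowers c →* ℂˣ) → IrrCharacter SL2 := fun θ =>
    if hθ : θ ^ 2 ≠ 1 then ⟨dsFun D θ, isIrrCharacter_dsFun D hθ⟩ else one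
  have memA : ∀ k ∈ A.image psI, ∃ α : MulChar F ℂ, α ^ 2 ≠ 1 ∧ (k : SL2 → ℂ) = ps α := by
    intro k hk
    obtain ⟨α, hα, rfl⟩ := Finset.mem_image.1 hk
    have h' := (Finset.mem_filter.1 hα).2
    exact ⟨α, h', by simp only [psI, dif_pos h']⟩
  have memB : ∀ k ∈ B.image dsI, ∃ θ : Subgroup.zpowers c →* ℂˣ, θ ^ 2 ≠ 1 ∧ (k : SL2 → ℂ) = dsFun D θ := by
    intro k hk
    obtain ⟨θ, hθ, rfl⟩ := Finset.mem_image.1 hk
    have h' := (Finset.mem_filter.1 hθ).2
    exact ⟨θ, h', by simp only [dsI, dif_pos h']⟩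
  have ne1 : ∀ α : MulChar F ℂ, α ^ 2 ≠ 1 → α ≠ 1 := fun α hα e => hα (by simp [e])
  have ne1' : ∀ θ : Subgroup.zpowers c →* ℂˣ, θ ^ 2 ≠ 1 → θ ≠ 1 := fun θ hθ e => hθ (MonoidHom.ext fun x => by simp [e, MonoidHom.pow_apply])
  have cardA : 2 * (A.image psI).card + 2 = Fintype.card F - 1 := by
    have := isCyclic_mulChar (F := F)
    rw [two_mul_card_image A psI (fun α => α⁻¹), ← card_mulChar (F := F)]
    · exact card_sq_ne_one (by rw [card_mulChar]; exact ⟨h - 1, by have := D.card_eq; omega⟩)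
    · intro α hα
      have h' := (Finset.mem_filter.1 hα).2
      refine ⟨Finset.mem_filter.2 ⟨Finset.mem_univ _, by simpa using h'⟩, fun e => h' ?_⟩
      rw [mulChar_sq_eq_one_iff, e]
    · intro a ha b hb
      have ha' := (Finset.mem_filter.1 ha).2
      have hb' := (Finset.mem_filter.1 hb).2
      simp only [psI, dif_pos ha', dif_pos hb', Subtype.mk.injEq]
      exact ps_eq_iff D ha'
  have cardB : 2 * (B.image dsI).card + 2 = Fintype.card F + 1 := by
    have := isCyclic_thetaHom D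
    rw [two_mul_card_image B dsI (fun θ => θ⁻¹), ← card_thetaHom D]
    · exact card_sq_ne_one (by rw [card_thetaHom D, D.card_eq]; exact dvd_mul_right 2 h)
    · intro θ hθ
      have h' := (Finset.mem_filter.1 hθ).2
      refine ⟨Finset.mem_filter.2 ⟨Finset.mem_univ _, fun e => h' (inv_eq_one.1 ((inv_pow θ 2).symm.trans e))⟩,
        fun e => h' ?_⟩
      rw [pow_two, mul_eq_one_iff_eq_inv, e]
    · intro a ha b hb
      have ha' := (Finset.mem_filter.1 ha).2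
      have hb' := (Finset.mem_filter.1 hb).2
      simp only [dsI, dif_pos ha', dif_pos hb', Subtype.mk.injEq]
      exact dsFun_eq_iff D ha' hb'
  have hq3 : 3 ≤ Fintype.card F := by have := D.torus.two_le; have := D.card_eq; omega
  have one_ne_st : one ≠ st := fun e => by
    have := congrFun (congrArg Subtype.val e) 1
    rw [show ((st : SL2 → ℂ)) 1 = (Fintype.card F : ℂ) from steinberg_one] at this
    have : (1 : ℕ) = Fintype.card F := by exact_mod_cast (show (1 : ℂ) = _ from this)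
    omega
  have dAB : Disjoint (A.image psI) (B.image dsI) := Finset.disjoint_left.2 fun k hka hkb => by
    obtain ⟨α, hα, e⟩ := memA k hka
    obtain ⟨θ, hθ, e'⟩ := memB k hkb
    have h0 := classInner_dsFun_ps D θ α
    rw [← e, ← e', classInner_irr_self k.2] at h0
    exact one_ne_zero h0
  have dA : Disjoint ({one, st} : Finset (IrrCharacter SL2)) (A.image psI) := Finset.disjoint_left.2 fun k hk hka => by
    obtain ⟨α, hα, e⟩ := memA k hka
    simp only [Finset.mem_insert, Finset.mem_singleton] at hk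
    rcases hk with rfl | rfl
    · have h0 := hone_ps α (ne1 α hα)
      rw [← e] at h0
      exact one_ne_zero ((classInner_irr_self one.2).symm.trans h0)
    · have h0 := hst_ps α (ne1 α hα)
      rw [← e] at h0
      exact one_ne_zero ((classInner_irr_self st.2).symm.trans h0)
  have dB : Disjoint ({one, st} : Finset (IrrCharacter SL2)) (B.image dsI) := Finset.disjoint_left.2 fun k hk hkb => by
    obtain ⟨θ, hθ, e⟩ := memB k hkb
    simp only [Finset.mem_insert, Finset.mem_singleton] at hk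
    rcases hk with rfl | rfl
    · have h0 := classInner_dsFun_one D (ne1' θ hθ)
      rw [← e] at h0
      exact one_ne_zero ((classInner_irr_self one.2).symm.trans h0)
    · have h0 := hst_ds θ (ne1' θ hθ)
      rw [← e] at h0
      exact one_ne_zero ((classInner_irr_self st.2).symm.trans h0)
  set base := ({one, st} : Finset (IrrCharacter SL2)) ∪ A.image psI ∪ B.image dsI with hbase
  have zR : ∀ k ∈ base, classInner (ps α₀) (k : SL2 → ℂ) = 0 := by
    intro k hk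
    simp only [hbase, Finset.mem_union, Finset.mem_insert, Finset.mem_singleton] at hk
    rcases hk with ((rfl | rfl) | hka) | hkb
    · exact hone_ps α₀ hα1
    · exact hst_ps α₀ hα1
    · obtain ⟨α, hα, e⟩ := memA k hka
      rw [e, classInner_ps, if_neg, if_neg, add_zero]
      · intro e'; exact hα (by rw [← inv_inv α, ← e', ← hαi]; exact hα2)
      · intro e'; exact hα (e' ▸ hα2)
    · obtain ⟨θ, -, e⟩ := memB k hkb
      rw [e, classInner_conj_symm, classInner_dsFun_ps, map_zero]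
  have zP : ∀ k ∈ base, classInner (dsFun D θ₀) (k : SL2 → ℂ) = 0 := by
    intro k hk
    simp only [hbase, Finset.mem_union, Finset.mem_insert, Finset.mem_singleton] at hk
    rcases hk with ((rfl | rfl) | hka) | hkb
    · exact classInner_dsFun_one D hθ1
    · exact hst_ds θ₀ hθ1
    · obtain ⟨α, -, e⟩ := memA k hka
      rw [e, classInner_dsFun_ps]
    · obtain ⟨θ, hθ, e⟩ := memB k hkb
      rw [e, classInner_dsFun, if_neg, if_neg, add_zero]
      · intro e'; exact hθ (by rw [← inv_inv θ, ← e', ← hθi]; exact hθ2)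
      · intro e'; exact hθ (e' ▸ hθ2)
  have hR' : ps α₀ = ((1 : ℤ) : ℂ) • (η₁ : SL2 → ℂ) + ((1 : ℤ) : ℂ) • (η₂ : SL2 → ℂ) := by simp [hR]
  have dE : Disjoint base ({η₁, η₂, χ₁, χ₂} : Finset (IrrCharacter SL2)) := Finset.disjoint_left.2 fun k hk hk' => by
    have a := zR k hk
    have b := zP k hk
    rw [coef η₁ η₂ 1 1 _ hη hR'] at a
    rw [coef χ₁ χ₂ e₁ e₂ _ hχ hP] at b
    simp only [Finset.mem_insert, Finset.mem_singleton] at hk'
    rcases hk' with rfl | rfl | rfl | rfl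
    · simp at a
    · simp at a
    · rw [if_pos rfl] at b; exact he0.1 b
    · rw [if_neg hχ.symm, if_pos rfl] at b; exact he0.2 b
  -- the sum of the squared degrees
  let sq : IrrCharacter SL2 → ℂ := fun k => (k : SL2 → ℂ) 1 ^ 2
  set s := base ∪ ({η₁, η₂, χ₁, χ₂} : Finset (IrrCharacter SL2)) with hs
  have hsum : ∑ k ∈ s, sq k =
      1 + (Fintype.card F : ℂ) ^ 2 + ((A.image psI).card : ℂ) * ((Fintype.card F : ℂ) + 1) ^ 2 +
        ((B.image dsI).card : ℂ) * ((Fintype.card F : ℂ) - 1) ^ 2 +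
        ((d₁ : ℂ) ^ 2 + (d₂ : ℂ) ^ 2 + (k₁ : ℂ) ^ 2 + (k₂ : ℂ) ^ 2) := by
    rw [hs, Finset.sum_union dE, hbase, Finset.sum_union (Finset.disjoint_union_left.2 ⟨dB, dAB⟩),
      Finset.sum_union dA, Finset.sum_pair one_ne_st]
    have hA : ∑ k ∈ A.image psI, sq k = ((A.image psI).card : ℂ) * ((Fintype.card F : ℂ) + 1) ^ 2 := by
      rw [Finset.sum_congr rfl (g := fun _ => ((Fintype.card F : ℂ) + 1) ^ 2) fun k hk => ?_,
        Finset.sum_const, nsmul_eq_mul]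
      obtain ⟨α, -, e⟩ := memA k hk
      simp only [sq, e, ps_one]
    have hB : ∑ k ∈ B.image dsI, sq k = ((B.image dsI).card : ℂ) * ((Fintype.card F : ℂ) - 1) ^ 2 := by
      rw [Finset.sum_congr rfl (g := fun _ => ((Fintype.card F : ℂ) - 1) ^ 2) fun k hk => ?_,
        Finset.sum_const, nsmul_eq_mul]
      obtain ⟨θ, -, e⟩ := memB k hk
      simp only [sq, e, dsFun_one]
    rw [hA, hB, Finset.sum_insert (by simp [hη, g11, g12]), Finset.sum_insert (by simp [g21, g22]),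
      Finset.sum_pair hχ]
    simp only [sq, degC, one, st, steinberg_one, d₁, d₂, k₁, k₂]
    ring
  -- passing to the integers
  let deg : IrrCharacter SL2 → ℤ := fun k => (charDegree (k : SL2 → ℂ) : ℤ)
  have htot : ∑ k : IrrCharacter SL2, deg k ^ 2 =
      (Fintype.card F : ℤ) * (((Fintype.card F : ℤ) - 1) * ((Fintype.card F : ℤ) + 1)) := by
    have h1 := sum_sq_degrees (G := SL2)
    rw [natCard_slTwo, Nat.cast_mul, Nat.cast_mul, Nat.cast_sub (by omega), Nat.cast_add, Nat.cast_one] at h1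
    simp only [← degC] at h1
    simp only [deg]
    exact_mod_cast h1
  have hsum' : ∑ k ∈ s, deg k ^ 2 =
      1 + (Fintype.card F : ℤ) ^ 2 + ((A.image psI).card : ℤ) * ((Fintype.card F : ℤ) + 1) ^ 2 +
        ((B.image dsI).card : ℤ) * ((Fintype.card F : ℤ) - 1) ^ 2 +
        ((d₁ : ℤ) ^ 2 + (d₂ : ℤ) ^ 2 + (k₁ : ℤ) ^ 2 + (k₂ : ℤ) ^ 2) := by
    simp only [sq, ← degC] at hsum
    simp only [deg]
    exact_mod_cast hsum
  have hcompl := Finset.sum_add_sum_compl s (fun k => deg k ^ 2)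
  rw [htot, hsum'] at hcompl
  have hnn : 0 ≤ ∑ k ∈ sᶜ, deg k ^ 2 := Finset.sum_nonneg fun k _ => sq_nonneg _
  set qz := (Fintype.card F : ℤ) with hqz
  have cA : 2 * ((A.image psI).card : ℤ) = qz - 3 := by omega
  have cB : 2 * ((B.image dsI).card : ℤ) = qz - 1 := by omega
  have e12 : e₁ ^ 2 = 1 ∧ e₂ ^ 2 = 1 := by
    rcases he₁ with rfl | rfl <;> rcases he₂ with rfl | rfl <;> norm_num
  have hzero : ((d₁ : ℤ) - d₂) ^ 2 + (e₁ * k₁ - e₂ * k₂) ^ 2 + 2 * ∑ k ∈ sᶜ, deg k ^ 2 = 0 := by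
    linear_combination 2 * hcompl - (qz + 1) ^ 2 * cA - (qz - 1) ^ 2 * cB
      + (2 * (k₁ : ℤ) ^ 2) * e12.1 + (2 * (k₂ : ℤ) ^ 2) * e12.2
      - ((d₁ : ℤ) + d₂ + qz + 1) * hd - (e₁ * k₁ + e₂ * k₂ + qz - 1) * hk
  have n1 := sq_nonneg ((d₁ : ℤ) - d₂)
  have n2 := sq_nonneg (e₁ * k₁ - e₂ * k₂)
  have hdd : (d₁ : ℤ) - d₂ = 0 := pow_eq_zero_iff two_ne_zero |>.1 (by linarith)
  have hkk : e₁ * k₁ - e₂ * k₂ = 0 := pow_eq_zero_iff two_ne_zero |>.1 (by linarith)
  have hrest : ∑ k ∈ sᶜ, deg k ^ 2 = 0 := by linarith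
  have a₁ : e₁ * k₁ * 2 = qz - 1 := by linarith
  have a₂ : e₂ * k₂ * 2 = qz - 1 := by linarith
  obtain ⟨rfl, rfl⟩ : e₁ = 1 ∧ e₂ = 1 := by
    constructor
    · rcases he₁ with rfl | rfl
      · rfl
      · omega
    · rcases he₂ with rfl | rfl
      · rfl
      · omega
  simp only [Int.cast_one, one_smul] at hP
  have hmem : ∀ k, k ∈ s := fun k => by
    by_contra hk
    have h0 := (Finset.sum_eq_zero_iff_of_nonneg fun j _ => sq_nonneg (deg j)).1 hrest k (Finset.mem_compl.2 hk)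
    obtain ⟨n, hn0, hn⟩ := irr_exists_degree k.2
    have h1 : deg k = n := by simp [deg, charDegree, hn]
    rw [h1] at h0
    have := pow_eq_zero_iff two_ne_zero |>.1 h0
    omega
  refine ⟨α₀, θ₀, η₁, η₂, χ₁, χ₂, hα1, hαsq, hαn, hθ1, hθsq, hη, hR, hχ, hP, by omega, by omega, by omega, by omega,
    ⟨g11, g12, g21, g22⟩, ?_, fun k => ?_, ?_, ?_, ?_⟩
  · rintro η (rfl | rfl)
    · rw [hαn', hz₁]
    · rw [hαn', hz₂]
  on_goal 2 =>
    have e : ∀ k : IrrCharacter SL2, (∃ α : MulChar F ℂ, α ^ 2 ≠ 1 ∧ (k : SL2 → ℂ) = ps α) ↔ k ∈ A.image psI := fun k =>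
      ⟨fun ⟨α, hα, e⟩ => Finset.mem_image.2 ⟨α, Finset.mem_filter.2 ⟨Finset.mem_univ _, hα⟩,
        Subtype.ext (by simp only [psI, dif_pos hα]; exact e.symm)⟩, memA k⟩
    rw [Nat.card_congr (Equiv.subtypeEquivRight e), Nat.card_eq_fintype_card, Fintype.card_coe]
    omega
  on_goal 2 =>
    have e : ∀ k : IrrCharacter SL2, (∃ θ : Subgroup.zpowers c →* ℂˣ, θ ^ 2 ≠ 1 ∧ (k : SL2 → ℂ) = dsFun D θ) ↔ k ∈ B.image dsI :=
      fun k => ⟨fun ⟨θ, hθ, e⟩ => Finset.mem_image.2 ⟨θ, Finset.mem_filter.2 ⟨Finset.mem_univ _, hθ⟩,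
        Subtype.ext (by simp only [dsI, dif_pos hθ]; exact e.symm)⟩, memB k⟩
    rw [Nat.card_congr (Equiv.subtypeEquivRight e), Nat.card_eq_fintype_card, Fintype.card_coe]
    omega
  on_goal 2 =>
    rw [Nat.card_eq_fintype_card, ← Finset.card_univ, show (Finset.univ : Finset (IrrCharacter SL2)) = s from
      (Finset.eq_univ_iff_forall.2 hmem).symm, hs, Finset.card_union_of_disjoint dE, hbase,
      Finset.card_union_of_disjoint (Finset.disjoint_union_left.2 ⟨dB, dAB⟩),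
      Finset.card_union_of_disjoint dA, Finset.card_pair one_ne_st,
      Finset.card_insert_of_notMem (by simp [hη, g11, g12]), Finset.card_insert_of_notMem (by simp [g21, g22]),
      Finset.card_pair hχ]
    omega
  have hk := hmem k
  simp only [hs, hbase, Finset.mem_union, Finset.mem_insert, Finset.mem_singleton] at hk
  rcases hk with (((rfl | rfl) | hka) | hkb) | hk'
  · exact Or.inl rfl
  · exact Or.inr (Or.inl rfl)
  · exact Or.inr (Or.inr (Or.inl (memA k hka)))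
  · exact Or.inr (Or.inr (Or.inr (Or.inl (memB k hkb))))
  · exact Or.inr (Or.inr (Or.inr (Or.inr hk')))

end CfsgLib.SL2Char
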