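import Cfsg.Agent.Lib.SL2Char.Elements
import Cfsg.Agent.Lib.SL2Char.Principal

/-!
Functions induced from the tori of `SL_2(q)`.
-/

set_option autoImplicit false

namespace CfsgLib.SL2Char

open Matrix Cfsg
open CfsgLib.SL2Tori CfsgLib.Schur CfsgLib.Characters
open scoped ComplexConjugate

variable {F : Type*} [Field F]

local notation "SL2" => Matrix.SpecialLinearGroup (Fin 2) F
local notation "M2" => Matrix (Fin 2) (Fin 2) F

/-- The diagonal torus. -/
def diagSub (F : Type*) [Field F] : Subgroup (Matrix.SpecialLinearGroup (Fin 2) F) :=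
  (slDiag (F := F)).range

theorem mem_diagSub {g : SL2} : g ∈ diagSub F ↔ ∃ a : Fˣ, slDiag a = g := MonoidHom.mem_range

theorem neg_one_eq_slDiag : (-1 : SL2) = slDiag (-1) := by
  refine Subtype.ext ?_
  rw [neg_one_coe, slDiag_coe]
  simp [Matrix.one_fin_two]

theorem neg_one_mem_diagSub : (-1 : SL2) ∈ diagSub F := mem_diagSub.2 ⟨-1, neg_one_eq_slDiag.symm⟩

theorem slDiag_eq_bEl (a : Fˣ) : (slDiag a : SL2) = (bEl a 0 : SL2) := Subtype.ext rfl

theorem noRoot_of_mem_torus {c x : SL2} {h : ℕ} (T : TorusGen c h) (hc : NoRoot (c : M2))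
    (hx : x ∈ Subgroup.zpowers c) (h1 : x ≠ 1) (hn : x ≠ -1) : NoRoot (x : M2) := by
  obtain ⟨a, b, e⟩ := commutant T.nonscalar (coe_comm (TorusGen.commute_of_mem hx))
  refine hc.comb (fun hb => ?_) e
  rw [hb, zero_smul, add_zero] at e
  rcases scalar_cases e with e' | e'
  · exact h1 (Subtype.ext e')
  · exact hn (Subtype.ext (e'.trans neg_one_coe.symm))

theorem nonscalar_mem {x : SL2} (h1 : x ≠ 1) (hn : x ≠ -1) : (x : M2) ≠ 1 ∧ (x : M2) ≠ -1 :=
  ⟨fun e => h1 (Subtype.ext e), fun e => hn (Subtype.ext (e.trans neg_one_coe.symm))⟩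

variable [Fintype F] [DecidableEq F]

theorem indFun_central {H : Subgroup SL2} (θ : H → ℂ) {z : SL2} (hz : ∀ g, g * z = z * g) (hzH : z ∈ H) :
    Cfsg.indFun H θ z = (H.index : ℂ) * θ ⟨z, hzH⟩ := by
  have e : ∀ x : SL2, x⁻¹ * z * x = z := fun x => by rw [mul_assoc, ← hz, inv_mul_cancel_left]
  rw [CfsgLib.Induction.indFun_apply]
  simp only [e, CfsgLib.Induction.extendByZero_mem H θ hzH, Finset.sum_const, Finset.card_univ, nsmul_eq_mul,
    ← Nat.card_eq_fintype_card, ← H.card_mul_index]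
  have : (Nat.card H : ℂ) ≠ 0 := Nat.cast_ne_zero.2 Nat.card_pos.ne'
  push_cast
  field_simp

/-- A function induced from a torus, at a non-central element of that torus. -/
theorem indFun_torus_apply {c : SL2} {h : ℕ} (T : TorusGen c h) {H : Subgroup SL2}
    (hH : H = Subgroup.zpowers c) (θ : H → ℂ) {x : SL2} (hx : x ∈ H) (h1 : x ≠ 1) (hn : x ≠ -1) :
    Cfsg.indFun H θ x = θ ⟨x, hx⟩ + θ ⟨x⁻¹, inv_mem hx⟩ := by
  classical
  subst hH
  obtain ⟨m1, m2⟩ := nonscalar_mem h1 hn
  let N := Subgroup.normalizer (Subgroup.zpowers c : Set SL2)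
  have key : ∀ y : SL2, Cfsg.extendByZero (Subgroup.zpowers c) θ (y⁻¹ * x * y) =
      (if y ∈ Subgroup.zpowers c then θ ⟨x, hx⟩ - θ ⟨x⁻¹, inv_mem hx⟩ else 0) +
        (if y ∈ N then θ ⟨x⁻¹, inv_mem hx⟩ else 0) := by
    intro y
    have hTN : Subgroup.zpowers c ≤ N := Subgroup.le_normalizer
    by_cases hyT : y ∈ Subgroup.zpowers c
    · have e : y⁻¹ * x * y = x := by
        obtain ⟨i, rfl⟩ := Subgroup.mem_zpowers_iff.1 hx
        obtain ⟨j, rfl⟩ := Subgroup.mem_zpowers_iff.1 hyT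
        rw [mul_assoc, (Commute.zpow_zpow_self c i j).eq, inv_mul_cancel_left]
      rw [e, CfsgLib.Induction.extendByZero_mem _ _ hx, if_pos hyT, if_pos (hTN hyT)]
      ring
    · by_cases hyN : y ∈ N
      · have e : y⁻¹ * x * y = x⁻¹ := by
          have := T.conj_eq_inv (inv_mem hyN) (fun hh => hyT (by simpa using inv_mem hh)) hx
          rwa [inv_inv] at this
        rw [e, CfsgLib.Induction.extendByZero_mem _ _ (inv_mem hx), if_neg hyT, if_pos hyN, zero_add]
      · rw [CfsgLib.Induction.extendByZero_notMem, if_neg hyT, if_neg hyN, add_zero]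
        intro hm
        refine hyN ?_
        have := T.mem_normalizer_of_conj_mem hx m1 m2 (n := y⁻¹) (by rwa [inv_inv])
        simpa using inv_mem this
  rw [CfsgLib.Induction.indFun_apply, Finset.sum_congr rfl fun y _ => key y, Finset.sum_add_distrib,
    ← Finset.sum_filter, ← Finset.sum_filter, Finset.sum_const, Finset.sum_const]
  have c1 : (Finset.univ.filter fun y : SL2 => y ∈ Subgroup.zpowers c).card = 2 * h := by
    rw [← Fintype.card_subtype, ← T.card_torus, Nat.card_eq_fintype_card]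
  have c2 : (Finset.univ.filter fun y : SL2 => y ∈ N).card = 4 * h := by
    rw [← Fintype.card_subtype, ← T.normalizer_card.1, Nat.card_eq_fintype_card]
  rw [c1, c2, T.card_torus, nsmul_eq_mul, nsmul_eq_mul]
  have hh : (h : ℂ) ≠ 0 := Nat.cast_ne_zero.2 (by have := T.two_le; omega)
  push_cast
  field_simp
  ring

/-- A function induced from the non-split torus vanishes at non-central elements with eigenvalues. -/
theorem indFun_nonsplit_eq_zero {c : SL2} {h : ℕ} (T : TorusGen c h) (hc : NoRoot (c : M2))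
    (θ : Subgroup.zpowers c → ℂ) {g : SL2} (hg : ¬ NoRoot (g : M2)) (h1 : g ≠ 1) (hn : g ≠ -1) :
    Cfsg.indFun (Subgroup.zpowers c) θ g = 0 := by
  refine CfsgLib.Induction.indFun_eq_zero_of_forall _ fun x hx => hg ?_
  have hnr := noRoot_of_mem_torus T hc hx
    (fun e => h1 (by rw [show g = x * (x⁻¹ * g * x) * x⁻¹ by group, e]; group))
    (fun e => hn (by
      rw [show g = x * (x⁻¹ * g * x) * x⁻¹ by group, e, neg_one_central, mul_inv_cancel_right]))
  rwa [show x⁻¹ * g * x = x⁻¹ * g * x⁻¹⁻¹ by rw [inv_inv], noRoot_conj] at hnr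

theorem five_le_of_sq_ne_one (hodd : Odd (Fintype.card F)) {a : Fˣ} (ha : (a : F) ^ 2 ≠ 1) :
    5 ≤ Fintype.card F := by
  by_contra hlt
  have h1 := Fintype.one_lt_card (α := F)
  obtain ⟨k, hk⟩ := hodd
  have h3 : Fintype.card F = 3 := by omega
  apply ha
  have h4 := FiniteField.pow_card_sub_one_eq_one _ a.ne_zero
  rwa [h3] at h4

/-- A function induced from the diagonal torus, at a diagonal element. -/
theorem indFun_diag_apply (hodd : Odd (Fintype.card F)) (θ : diagSub F → ℂ) {a : Fˣ}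
    (ha : (a : F) ^ 2 ≠ 1) :
    Cfsg.indFun (diagSub F) θ (slDiag a) =
      θ ⟨slDiag a, mem_diagSub.2 ⟨a, rfl⟩⟩ + θ ⟨slDiag a⁻¹, mem_diagSub.2 ⟨a⁻¹, rfl⟩⟩ := by
  obtain ⟨c, h, -, T, hc⟩ := exists_split hodd (five_le_of_sq_ne_one hodd ha)
  have hH : diagSub F = Subgroup.zpowers c := by
    ext g
    rw [hc, mem_diagSub]
    refine ⟨?_, fun e => ?_⟩
    · rintro ⟨b, rfl⟩; rw [slDiag_coe]; simp
    · obtain ⟨b, rfl⟩ := diag_eq_slDiag e.1 e.2; exact ⟨b, rfl⟩
  have h1 : (slDiag a : SL2) ≠ 1 := fun e => ha (by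
    have := congrArg (fun g : SL2 => (g : M2) 0 0) e
    simp [slDiag_coe] at this
    simp [this])
  have hn : (slDiag a : SL2) ≠ -1 := fun e => ha (by
    have := congrArg (fun g : SL2 => (g : M2) 0 0) e
    simp [slDiag_coe] at this
    simp [this])
  rw [indFun_torus_apply T hH θ (mem_diagSub.2 ⟨a, rfl⟩) h1 hn]
  simp only [map_inv]

theorem indFun_diag_eq_zero (θ : diagSub F → ℂ) {g : SL2} (hg : ¬ Hyp (g : M2)) (h1 : g ≠ 1)
    (hn : g ≠ -1) : Cfsg.indFun (diagSub F) θ g = 0 := by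
  refine CfsgLib.Induction.indFun_eq_zero_of_forall _ fun x hx => ?_
  obtain ⟨a, ha⟩ := mem_diagSub.1 hx
  by_cases ha2 : (a : F) ^ 2 = 1
  · have : a = 1 ∨ a = -1 := (sq_eq_one_iff.1 ha2).imp (fun e => Units.ext e) (fun e => Units.ext (by simp [e]))
    rcases this with rfl | rfl
    · rw [map_one] at ha
      exact h1 (by rw [show g = x * (x⁻¹ * g * x) * x⁻¹ by group, ← ha]; group)
    · rw [← neg_one_eq_slDiag] at ha
      exact hn (by rw [show g = x * (x⁻¹ * g * x) * x⁻¹ by group, ← ha, neg_one_central, mul_inv_cancel_right])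
  · refine hg ?_
    have h := bEl_hyp (0 : F) ha2
    rw [← slDiag_eq_bEl, ha] at h
    unfold Hyp at h ⊢
    rwa [show x⁻¹ * g * x = x⁻¹ * g * x⁻¹⁻¹ by rw [inv_inv], SL2Tori.trace_conj] at h

theorem card_diagSub : Nat.card (diagSub F) = Fintype.card F - 1 := by
  rw [diagSub, ← Nat.card_congr (MonoidHom.ofInjective slDiag_injective).toEquiv, Nat.card_units,
    Nat.card_eq_fintype_card]

theorem sum_diagSub [Fintype (diagSub F)] (f : diagSub F → ℂ) :
    ∑ x : diagSub F, f x = ∑ a : Fˣ, f ⟨slDiag a, mem_diagSub.2 ⟨a, rfl⟩⟩ := by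
  refine (Fintype.sum_bijective (fun a : Fˣ => (⟨slDiag a, mem_diagSub.2 ⟨a, rfl⟩⟩ : diagSub F))
    ⟨fun a b e => slDiag_injective (congrArg Subtype.val e), fun x => ?_⟩ _ _ fun a => rfl).symm
  obtain ⟨a, ha⟩ := mem_diagSub.1 x.2
  exact ⟨a, Subtype.ext ha⟩

theorem index_diagSub : (diagSub F).index = Fintype.card F * (Fintype.card F + 1) := by
  refine Nat.eq_of_mul_eq_mul_left (show 0 < Fintype.card F - 1 by
    have := Fintype.one_lt_card (α := F); omega) ?_
  rw [← card_diagSub, Subgroup.card_mul_index, natCard_slTwo, card_diagSub]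
  ring

omit [DecidableEq F] in
theorem index_torus {c : SL2} {h : ℕ} (T : TorusGen c h) (hh : Fintype.card F + 1 = 2 * h) :
    (Subgroup.zpowers c).index = Fintype.card F * (Fintype.card F - 1) := by
  refine Nat.eq_of_mul_eq_mul_left (show 0 < Fintype.card F + 1 by omega) ?_
  conv_lhs => rw [hh, ← T.card_torus, Subgroup.card_mul_index, natCard_slTwo]
  ring

end CfsgLib.SL2Char
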