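import Cfsg.Agent.Lib.SL2Char.Table
import Cfsg.Agent.Lib.Characters.BrauerPerm

/-!
The outer diagonal automorphism of `SL_2(q)` and class functions supported on unipotent classes.
-/

set_option autoImplicit false

namespace CfsgLib.SL2Char

open Matrix Cfsg
open CfsgLib.SL2Tori CfsgLib.Schur CfsgLib.Characters
open scoped ComplexConjugate

variable {F : Type*} [Field F]

local notation "SL2" => Matrix.SpecialLinearGroup (Fin 2) F
local notation "M2" => Matrix (Fin 2) (Fin 2) F

/-- Conjugation by `diag(e, 1)`. -/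
def twistFun (e : Fˣ) (g : Matrix.SpecialLinearGroup (Fin 2) F) : Matrix.SpecialLinearGroup (Fin 2) F :=
  ⟨!![g.1 0 0, (e : F) * g.1 0 1; ((e⁻¹ : Fˣ) : F) * g.1 1 0, g.1 1 1], by
    have := g.2
    rw [Matrix.det_fin_two] at this
    rw [Matrix.det_fin_two_of]
    simp only [Units.val_inv_eq_inv_val]
    field_simp
    linear_combination this⟩

theorem twistFun_mul (e : Fˣ) (g k : SL2) : twistFun e (g * k) = twistFun e g * twistFun e k := by
  refine Subtype.ext (Matrix.ext fun i j => ?_)
  rw [Matrix.SpecialLinearGroup.coe_mul]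
  fin_cases i <;> fin_cases j <;>
    simp [twistFun, Matrix.mul_apply, Fin.sum_univ_two] <;> field_simp

theorem twistFun_twistFun (e e' : Fˣ) (g : SL2) : twistFun e (twistFun e' g) = twistFun (e * e') g := by
  refine Subtype.ext (Matrix.ext fun i j => ?_)
  fin_cases i <;> fin_cases j <;> simp [twistFun] <;> field_simp

theorem twistFun_one (g : SL2) : twistFun (1 : Fˣ) g = g := by
  refine Subtype.ext (Matrix.ext fun i j => ?_)
  fin_cases i <;> fin_cases j <;> simp [twistFun]

/-- Conjugation by `diag(e, 1)` as an automorphism. -/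
def twist (e : Fˣ) : Matrix.SpecialLinearGroup (Fin 2) F ≃* Matrix.SpecialLinearGroup (Fin 2) F where
  toFun := twistFun e
  invFun := twistFun e⁻¹
  left_inv g := by rw [twistFun_twistFun, inv_mul_cancel, twistFun_one]
  right_inv g := by rw [twistFun_twistFun, mul_inv_cancel, twistFun_one]
  map_mul' := twistFun_mul e

theorem twist_apply (e : Fˣ) (g : SL2) :
    ((twist e g : SL2) : M2) =
      !![(g : M2) 0 0, (e : F) * (g : M2) 0 1; ((e⁻¹ : Fˣ) : F) * (g : M2) 1 0, (g : M2) 1 1] := rfl

theorem twist_bEl (e a : Fˣ) (b : F) : twist e (bEl a b : SL2) = (bEl a ((e : F) * b) : SL2) := by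
  refine Subtype.ext ?_
  rw [twist_apply, bEl_coe, bEl_coe]
  simp

theorem trace_twist (e : Fˣ) (g : SL2) : ((twist e g : SL2) : M2).trace = (g : M2).trace := by
  rw [twist_apply, Matrix.trace_fin_two, Matrix.trace_fin_two]; simp

theorem twist_neg_one (e : Fˣ) : twist e (-1 : SL2) = -1 := by
  refine Subtype.ext ?_
  rw [twist_apply, neg_one_coe]
  simp [Matrix.one_fin_two]

theorem bEl_inv_of_unit {ε : Fˣ} (hε : ε = 1 ∨ ε = -1) (b : F) :
    (bEl ε b : SL2)⁻¹ = (bEl ε (-b) : SL2) := by
  refine Subtype.ext ?_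
  rw [Matrix.SpecialLinearGroup.coe_inv, bEl_coe, bEl_coe, Matrix.adjugate_fin_two]
  rcases hε with rfl | rfl <;> simp

theorem neg_one_mul_bEl (b : F) : (-1 : SL2) * (bEl (-1) b : SL2) = (bEl 1 (-b) : SL2) := by
  refine Subtype.ext ?_
  rw [Matrix.SpecialLinearGroup.coe_mul, neg_one_coe, bEl_coe, bEl_coe]
  simp

variable [Fintype F] [DecidableEq F]

theorem classInner_comp_twist (e : Fˣ) (φ ψ : SL2 → ℂ) :
    classInner (fun g => φ (twist e g)) (fun g => ψ (twist e g)) = classInner φ ψ := by
  unfold classInner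
  congr 1
  exact Equiv.sum_comp (twist e).toEquiv (fun g => φ g * conj (ψ g))

/-- Class functions constant on unipotent classes of given trace are invariant under twisting. -/
theorem comp_twist_eq (h2 : (2 : F) ≠ 0) (e : Fˣ) {φ : SL2 → ℂ} (hφ : IsClassFunction SL2 φ)
    (hu : ∀ ε : Fˣ, (ε = 1 ∨ ε = -1) → ∀ b b' : F, b ≠ 0 → b' ≠ 0 → φ (bEl ε b : SL2) = φ (bEl ε b' : SL2)) :
    (fun g => φ (twist e g)) = φ := by
  funext g
  rcases element_cases h2 g with rfl | rfl | hg | hg | ⟨ε, b, hε, hb, hc⟩
  · rw [map_one]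
  · rw [twist_neg_one]
  · exact classFunction_eq_of_isConj hφ (isConj_of_hyp (by rw [trace_twist]; exact hg.1) (trace_twist e g))
  · exact classFunction_eq_of_isConj hφ
      (isConj_of_hyp (by rw [trace_twist]; exact hg.trace_ne) (trace_twist e g))
  · rw [classFunction_eq_of_isConj hφ hc, classFunction_eq_of_isConj hφ (a := twist e g)
      (b := twist e (bEl ε b : SL2)) ((twist e).toMonoidHom.map_isConj hc), twist_bEl]
    exact hu ε hε _ _ (mul_ne_zero e.ne_zero hb) hb

/-- The norm of a class function vanishing off the noncentral `±` unipotent elements. -/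
theorem classInner_uni_support (hodd : Odd (Fintype.card F)) {φ : SL2 → ℂ} (hφ : IsClassFunction SL2 φ)
    (h1 : φ 1 = 0) (hn : φ (-1) = 0) (hh : ∀ g : SL2, Hyp (g : M2) → φ g = 0)
    (he : ∀ g : SL2, NoRoot (g : M2) → φ g = 0) :
    classInner φ φ = ((Fintype.card F : ℂ) * ((Fintype.card F : ℂ) - 1))⁻¹ *
      ∑ ε ∈ ({1, -1} : Finset Fˣ), ∑ b : F, φ (bEl ε b : SL2) * conj (φ (bEl ε b : SL2)) := by
  classical
  have h2 := two_ne_of_odd hodd
  have hind : Cfsg.indFun (borel F) (fun x => φ x) = φ := by
    funext g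
    have hcf : IsClassFunction SL2 (Cfsg.indFun (borel F) (fun x => φ x)) :=
      CfsgLib.Induction.isClassFunction_indFun _ _
    have hcl : IsClassFunction (borel F) (fun x => φ x) := fun a x => by
      simpa using hφ (a : SL2) (x : SL2)
    have off : ∀ g : SL2, φ g = 0 → (∀ x : SL2, φ (x⁻¹ * g * x) = 0) := fun g hg x => by
      have := hφ g x⁻¹
      rw [inv_inv] at this
      rw [this, hg]
    have zero : ∀ g : SL2, φ g = 0 → Cfsg.indFun (borel F) (fun x => φ x) g = 0 := by
      intro g hg
      rw [CfsgLib.Induction.indFun_apply]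
      refine mul_eq_zero_of_right _ (Finset.sum_eq_zero fun x _ => ?_)
      by_cases hm : x⁻¹ * g * x ∈ borel F
      · rw [CfsgLib.Induction.extendByZero_mem _ _ hm]; exact off g hg x
      · rw [CfsgLib.Induction.extendByZero_notMem _ _ hm]
    rcases element_cases h2 g with rfl | rfl | hg | hg | ⟨ε, b, hε, hb, hc⟩
    · rw [zero _ h1, h1]
    · rw [zero _ hn, hn]
    · rw [zero _ (hh g hg), hh g hg]
    · rw [zero _ (he g hg), he g hg]
    · rw [classFunction_eq_of_isConj hcf hc, classFunction_eq_of_isConj hφ hc]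
      have : Fintype (SL2 ⧸ borel F) := Fintype.ofFinite _
      rw [CfsgLib.Induction.indFun_eq_sum_quotient (borel F) hcl,
        ← Equiv.sum_comp (Equiv.ofBijective _ (mk_lineRep_bijective (F := F)))]
      have key : ∀ x : SL2, Cfsg.extendByZero (borel F) (fun y => φ y)
          ((QuotientGroup.mk x : SL2 ⧸ borel F).out⁻¹ * (bEl ε b : SL2) * (QuotientGroup.mk x : SL2 ⧸ borel F).out) =
          Cfsg.extendByZero (borel F) (fun y => φ y) (x⁻¹ * (bEl ε b : SL2) * x) := by
        intro x
        obtain ⟨y, hy⟩ := QuotientGroup.mk_out_eq_mul (borel F) x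
        rw [hy, ← CfsgLib.Induction.extendByZero_conj _ hcl y]
        congr 1
        group
      simp only [Equiv.ofBijective_apply, key, Fintype.sum_option]
      have hsome : ∀ u : F, Cfsg.extendByZero (borel F) (fun y => φ y)
          ((lineRep (some u))⁻¹ * (bEl ε b : SL2) * lineRep (some u)) = 0 := by
        intro u
        refine CfsgLib.Induction.extendByZero_notMem _ _ fun hm => hb ?_
        have := mem_borel.1 hm
        rw [(lineRep_conj (bEl ε b : SL2) u).1] at this
        rcases hε with rfl | rfl <;> simpa using this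
      simp only [hsome, Finset.sum_const_zero, add_zero]
      rw [show lineRep (F := F) none = 1 from rfl, inv_one, one_mul, mul_one,
        CfsgLib.Induction.extendByZero_coe]
  conv_lhs => arg 1; rw [← hind]
  rw [CfsgLib.Induction.classInner_indFun (borel F) _ hφ]
  unfold classInner
  rw [sum_borel, card_borel, Nat.cast_mul, Nat.cast_sub Fintype.card_pos, Nat.cast_one,
    mul_comm ((Fintype.card F : ℂ) - 1)]
  congr 1
  refine (Finset.sum_subset (Finset.subset_univ _) fun a _ ha => Finset.sum_eq_zero fun b _ => ?_).symm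
  have ha2 : (a : F) ^ 2 ≠ 1 := fun e => by
    rcases sq_eq_one_iff.1 e with e | e
    · exact ha (by simp [Units.ext (e.trans Units.val_one.symm)])
    · exact ha (by simp [show a = -1 from Units.ext (by simp [e])])
  show φ (bEl a b : SL2) * _ = 0
  rw [hh _ (bEl_hyp b ha2), zero_mul]

end CfsgLib.SL2Char
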